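import Mathlib

set_option autoImplicit false

namespace Cfsg.Agent.Helper10

variable {G : Type*} [Group G]

lemma card_mul_relIndex_of_le {H K : Subgroup G} (h : H ≤ K) :
    Nat.card H * H.relIndex K = Nat.card K := by
  have := Subgroup.relIndex_mul_relIndex ⊥ H K bot_le h
  rwa [Subgroup.relIndex_bot_left, Subgroup.relIndex_bot_left] at this

/-- For subgroups of a finite group, `|H| |K| ≤ |H ⊔ K| |H ⊓ K|`. -/
lemma card_mul_card_le_card_sup_mul_card_inf [Finite G] (H K : Subgroup G) :
    Nat.card H * Nat.card K ≤ Nat.card (H ⊔ K : Subgroup G) * Nat.card (H ⊓ K : Subgroup G) := by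
  have h1 : Nat.card (H ⊓ K : Subgroup G) * K.relIndex H = Nat.card H := by
    rw [← Subgroup.inf_relIndex_left H K]
    exact card_mul_relIndex_of_le inf_le_left
  have h2 : Nat.card K * K.relIndex (H ⊔ K) = Nat.card (H ⊔ K : Subgroup G) :=
    card_mul_relIndex_of_le le_sup_right
  have h3 : K.relIndex H ≤ K.relIndex (H ⊔ K) := by
    apply Subgroup.relIndex_le_of_le_right le_sup_left
    intro h0
    rw [h0, mul_zero] at h2
    exact (Nat.card_pos (α := (H ⊔ K : Subgroup G))).ne' h2.symm
  calc Nat.card H * Nat.card K = Nat.card (H ⊓ K : Subgroup G) * K.relIndex H * Nat.card K := by rw [h1]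
    _ ≤ Nat.card (H ⊓ K : Subgroup G) * K.relIndex (H ⊔ K) * Nat.card K := by gcongr
    _ = Nat.card (H ⊔ K : Subgroup G) * Nat.card (H ⊓ K : Subgroup G) := by rw [← h2]; ring

end Cfsg.Agent.Helper10
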