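import Mathlib
import Cfsg.Agent.Lib.Helper10.Card

set_option autoImplicit false

namespace Cfsg.Agent.Helper10

variable {G : Type*} [Group G]

/-- A normal `p`-subgroup lies in every Sylow `p`-subgroup. -/
lemma normal_pGroup_le_sylow {p : ℕ} (N : Subgroup G) [N.Normal] (hN : IsPGroup p N)
    (P : Sylow p G) : N ≤ P := by
  have h1 : IsPGroup p (N ⊔ P : Subgroup G) := hN.to_sup_of_normal_left P.2
  have h2 : N ⊔ (P : Subgroup G) = P := P.3 h1 le_sup_right
  rw [← h2]
  exact le_sup_left

/-- Product formula with a normal subgroup: `|N ⊔ M| * |N ⊓ M| = |N| * |M|`. -/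
lemma card_sup_mul_card_inf_of_normal (N M : Subgroup G) [N.Normal] :
    Nat.card (N ⊔ M : Subgroup G) * Nat.card (N ⊓ M : Subgroup G) = Nat.card N * Nat.card M := by
  have h1 : Nat.card N * N.relIndex (N ⊔ M) = Nat.card (N ⊔ M : Subgroup G) :=
    card_mul_relIndex_of_le le_sup_left
  have h2 : Nat.card (N ⊓ M : Subgroup G) * (N ⊓ M).relIndex M = Nat.card M :=
    card_mul_relIndex_of_le inf_le_right
  rw [Subgroup.relIndex_sup_left] at h1
  rw [Subgroup.inf_relIndex_right] at h2
  rw [← h1, ← h2]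
  ring

/-- If `N` is normal and `N ⊔ M = ⊤`, then `[G:M] * |N ⊓ M| = |N|`. -/
lemma index_mul_card_inf_of_normal_of_sup_eq_top [Finite G] (N M : Subgroup G) [N.Normal]
    (h : N ⊔ M = ⊤) : M.index * Nat.card (N ⊓ M : Subgroup G) = Nat.card N := by
  have h1 := card_sup_mul_card_inf_of_normal N M
  rw [h, Subgroup.card_top, ← Subgroup.index_mul_card M] at h1
  have hpos : 0 < Nat.card M := Nat.card_pos
  nlinarith [Nat.eq_of_mul_eq_mul_right hpos (by linarith : M.index * Nat.card (N ⊓ M : Subgroup G) * Nat.card M = Nat.card N * Nat.card M)]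

end Cfsg.Agent.Helper10
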