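import Mathlib
import Cfsg.Agent.Lib.Helper10.SylowExtra

set_option autoImplicit false

namespace Cfsg.Agent.Helper10

open Pointwise

variable {G : Type*} [Group G]

/-- Sylow conjugacy inside a subgroup `L`, for `p`-subgroups of `L` of index prime to `p`. -/
lemma exists_conj_smul_eq_of_not_dvd_relIndex [Finite G] {p : ℕ} [Fact p.Prime]
    {L Q₁ Q₂ : Subgroup G} (h₁ : Q₁ ≤ L) (h₂ : Q₂ ≤ L) (hp₁ : IsPGroup p Q₁) (hp₂ : IsPGroup p Q₂)
    (hi₁ : ¬ p ∣ Q₁.relIndex L) (hi₂ : ¬ p ∣ Q₂.relIndex L) :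
    ∃ h ∈ L, MulAut.conj h • Q₁ = Q₂ := by
  have hq₁ : IsPGroup p (Q₁.subgroupOf L) := hp₁.comap_subtype
  have hq₂ : IsPGroup p (Q₂.subgroupOf L) := hp₂.comap_subtype
  have hi₁' : ¬ p ∣ (Q₁.subgroupOf L).index := hi₁
  have hi₂' : ¬ p ∣ (Q₂.subgroupOf L).index := hi₂
  obtain ⟨h, hh⟩ := MulAction.exists_smul_eq L (hq₁.toSylow hi₁') (hq₂.toSylow hi₂')
  refine ⟨h.1, h.2, ?_⟩
  have h3 := congrArg (fun P : Sylow p L => (P : Subgroup L)) hh
  simp only [Sylow.coe_subgroup_smul, IsPGroup.toSylow_coe] at h3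
  rw [Subgroup.conj_smul_subgroupOf h₁] at h3
  have h4 := congrArg (Subgroup.map L.subtype) h3
  rwa [Subgroup.map_subgroupOf_eq_of_le (Subgroup.conj_smul_le_of_le h₁ h),
    Subgroup.map_subgroupOf_eq_of_le h₂] at h4

/-- If `Q` is a `p`-group and `N` a normal subgroup of order prime to `p` then `|QN : Q| = |N|`. -/
lemma relIndex_sup_of_coprime [Finite G] {p : ℕ} [Fact p.Prime] {Q N : Subgroup G} [N.Normal]
    (hQ : IsPGroup p Q) (hN : (Nat.card N).Coprime p) : Q.relIndex (Q ⊔ N) = Nat.card N := by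
  have hcop : (Nat.card Q).Coprime (Nat.card N) := by
    obtain ⟨k, hk⟩ := IsPGroup.iff_card.mp hQ
    rw [hk]
    exact (Nat.Coprime.pow_right k hN).symm
  have hinf : N ⊓ Q = ⊥ := by
    rw [inf_comm]; exact (Subgroup.disjoint_of_coprime_natCard hcop).eq_bot
  have h1 := card_sup_mul_card_inf_of_normal N Q
  rw [hinf, Subgroup.card_bot, mul_one, sup_comm] at h1
  have h2 : Nat.card Q * Q.relIndex (Q ⊔ N) = Nat.card (Q ⊔ N : Subgroup G) :=
    card_mul_relIndex_of_le le_sup_left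
  rw [h1, mul_comm (Nat.card N)] at h2
  exact Nat.eq_of_mul_eq_mul_left Nat.card_pos h2

/-- Lifting normalizers modulo a normal `p'`-subgroup: if `g` conjugates the `p`-group `Q` into `QN`,
then `m g` normalizes `Q` for some `m ∈ N`. -/
lemma exists_mul_mem_normalizer_of_conj_le_sup [Finite G] {p : ℕ} [Fact p.Prime] {Q N : Subgroup G}
    [N.Normal] (hQ : IsPGroup p Q) (hN : (Nat.card N).Coprime p) (g : G)
    (hg : MulAut.conj g • Q ≤ Q ⊔ N) : ∃ m ∈ N, m * g ∈ Subgroup.normalizer (Q : Set G) := by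
  have hpN : ¬ p ∣ Nat.card N := by
    intro hd
    have := Nat.Coprime.eq_one_of_dvd hN.symm hd
    exact (Fact.out : p.Prime).one_lt.ne' this
  have hQ₂ : IsPGroup p (MulAut.conj g • Q : Subgroup G) := hQ.map (MulAut.conj g).toMonoidHom
  have hi₁ : ¬ p ∣ Q.relIndex (Q ⊔ N) := by rw [relIndex_sup_of_coprime hQ hN]; exact hpN
  have hcardeq : Nat.card (MulAut.conj g • Q : Subgroup G) = Nat.card Q :=
    (Nat.card_congr (Subgroup.equivSMul (MulAut.conj g) Q).toEquiv).symm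
  have hi₂ : ¬ p ∣ (MulAut.conj g • Q : Subgroup G).relIndex (Q ⊔ N) := by
    have h2 : Nat.card (MulAut.conj g • Q : Subgroup G) *
        (MulAut.conj g • Q : Subgroup G).relIndex (Q ⊔ N) = Nat.card (Q ⊔ N : Subgroup G) :=
      card_mul_relIndex_of_le hg
    have h3 : Nat.card Q * Q.relIndex (Q ⊔ N) = Nat.card (Q ⊔ N : Subgroup G) :=
      card_mul_relIndex_of_le le_sup_left
    rw [hcardeq, ← h3] at h2
    rw [Nat.eq_of_mul_eq_mul_left Nat.card_pos h2]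
    exact hi₁
  obtain ⟨h, hhL, hh⟩ := exists_conj_smul_eq_of_not_dvd_relIndex hg le_sup_left hQ₂ hQ hi₂ hi₁
  rw [← SetLike.mem_coe, Subgroup.mul_normal] at hhL
  obtain ⟨q, hq, m, hm, rfl⟩ := Set.mem_mul.mp hhL
  refine ⟨m, hm, ?_⟩
  rw [Subgroup.mem_normalizer_iff_map_conj_eq]
  have h5 : MulAut.conj (q * m) • MulAut.conj g • Q = Q := hh
  rw [smul_smul, ← map_mul, mul_assoc, map_mul, ← smul_smul] at h5
  have h6 : MulAut.conj (m * g) • Q = (MulAut.conj q)⁻¹ • Q := eq_inv_smul_iff.mpr h5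
  rw [← map_inv, Subgroup.conj_smul_eq_self_of_mem (Q.inv_mem hq)] at h6
  exact h6

/-- Lifting centralizers modulo a normal `p'`-subgroup. -/
lemma exists_mul_mem_centralizer_of_commutator_mem [Finite G] {p : ℕ} [Fact p.Prime]
    {Q N : Subgroup G} [N.Normal] (hQ : IsPGroup p Q) (hN : (Nat.card N).Coprime p) (g : G)
    (hg : ∀ q ∈ Q, g * q * g⁻¹ * q⁻¹ ∈ N) : ∃ m ∈ N, m * g ∈ Subgroup.centralizer (Q : Set G) := by
  have hconj : MulAut.conj g • Q ≤ Q ⊔ N := by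
    rintro _ ⟨q, hq, rfl⟩
    show g * q * g⁻¹ ∈ Q ⊔ N
    have h1 : g * q * g⁻¹ = (g * q * g⁻¹ * q⁻¹) * q := by group
    rw [h1]
    exact Subgroup.mul_mem _ (Subgroup.mem_sup_right (hg q hq)) (Subgroup.mem_sup_left hq)
  obtain ⟨m, hm, hmg⟩ := exists_mul_mem_normalizer_of_conj_le_sup hQ hN g hconj
  refine ⟨m, hm, ?_⟩
  have hcop : (Nat.card Q).Coprime (Nat.card N) := by
    obtain ⟨k, hk⟩ := IsPGroup.iff_card.mp hQ
    rw [hk]
    exact (Nat.Coprime.pow_right k hN).symm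
  have hinf : Q ⊓ N = ⊥ := (Subgroup.disjoint_of_coprime_natCard hcop).eq_bot
  rw [Subgroup.mem_centralizer_iff]
  intro q hq
  have h1 : (m * g) * q * (m * g)⁻¹ * q⁻¹ ∈ Q :=
    Q.mul_mem ((Subgroup.mem_normalizer_iff.mp hmg q).mp hq) (Q.inv_mem hq)
  have h2 : (m * g) * q * (m * g)⁻¹ * q⁻¹ ∈ N := by
    have h3 : (m * g) * q * (m * g)⁻¹ * q⁻¹ =
        m * (g * q * g⁻¹ * q⁻¹) * (q * m⁻¹ * q⁻¹) := by group
    rw [h3]
    exact N.mul_mem (N.mul_mem hm (hg q hq))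
      (Subgroup.Normal.conj_mem inferInstance _ (N.inv_mem hm) q)
  have h4 : (m * g) * q * (m * g)⁻¹ * q⁻¹ ∈ Q ⊓ N := ⟨h1, h2⟩
  rw [hinf, Subgroup.mem_bot] at h4
  calc q * (m * g) = ((m * g) * q * (m * g)⁻¹ * q⁻¹)⁻¹ * ((m * g) * q) := by group
    _ = (m * g) * q := by rw [h4, inv_one, one_mul]

end Cfsg.Agent.Helper10
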