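import Mathlib
import Cfsg.Agent.Lib.Helper54.PSolv

/-!
# The dual Hall–Higman lemma

In a finite `p`-solvable group with `O_p(G) = 1`, the centralizer of `O_{p'}(G)` is contained in
`O_{p'}(G)`.  (Dual of `Cfsg.Agent.Helper54.centralizer_pCore_le_of_isPSolvable`; the proof is the
same with the roles of `p` and `p'` exchanged.)
-/

set_option autoImplicit false

namespace Cfsg.Agent.Helper10

open Cfsg Cfsg.Agent.Helper54

variable {G : Type*} [Group G]

/-- an element of a `p'`-subgroup killed by a power of `p` is trivial -/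
lemma eq_one_of_pow_prime_pow_eq_one_of_coprime [Finite G] {p : ℕ} {H : Subgroup G}
    (hH : (Nat.card H).Coprime p) {h : G} (hh : h ∈ H) {m : ℕ} (hpow : h ^ (p ^ m) = 1) :
    h = 1 := by
  have h1 : orderOf h ∣ p ^ m := orderOf_dvd_of_pow_eq_one hpow
  have h2 : orderOf h ∣ Nat.card H := by
    have : orderOf (⟨h, hh⟩ : H) = orderOf h := Subgroup.orderOf_mk h hh
    rw [← this]; exact orderOf_dvd_natCard _
  have h3 : (Nat.card H).Coprime (p ^ m) := Nat.Coprime.pow_right m hH
  have h4 : orderOf h ∣ Nat.gcd (Nat.card H) (p ^ m) := Nat.dvd_gcd h2 h1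
  rw [Nat.Coprime.gcd_eq_one h3, Nat.dvd_one] at h4
  exact orderOf_eq_one_iff.mp h4

/-- **Dual Hall–Higman Lemma 1.2.3.** In a finite `p`-solvable group with `O_p(G) = 1`, the
centralizer of `O_{p'}(G)` is contained in `O_{p'}(G)`. -/
theorem centralizer_pPrimeCore_le_of_isPSolvable [Finite G] {p : ℕ} [Fact p.Prime]
    (hG : IsPSolvable p G) (hcore : pCore p G = ⊥) :
    Subgroup.centralizer (pPrimeCore p G : Set G) ≤ pPrimeCore p G := by
  have hp : p.Prime := Fact.out
  set H := pPrimeCore p G with hH
  have hHn : H.Normal := inferInstance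
  have hHp : (Nat.card H).Coprime p := pPrimeCore_coprime p
  set C := Subgroup.centralizer (H : Set G) with hC
  have hCn : C.Normal := inferInstance
  by_contra hCH
  have hlt : H < C ⊔ H :=
    lt_of_le_of_ne le_sup_right (fun h => hCH (by rw [h]; exact le_sup_left))
  obtain ⟨L, hLn, hHL, hLM, hfac⟩ := IsPSolvable.exists_step hG H (C ⊔ H) hlt
  rcases hfac with ⟨m, hm⟩ | hcop
  · -- Schur–Zassenhaus
    set N : Subgroup L := H.subgroupOf L with hN
    have hNn : N.Normal := Subgroup.Normal.subgroupOf hHn L
    have hNcard : Nat.card N = Nat.card H :=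
      Nat.card_congr (Subgroup.subgroupOfEquivOfLe hHL.le).toEquiv
    have hNidx : N.index = H.relIndex L := rfl
    have hcoprime : (Nat.card N).Coprime N.index := by
      rw [hNcard, hNidx, hm]
      exact Nat.Coprime.pow_right m hHp
    obtain ⟨K₀, hK₀⟩ := Subgroup.exists_right_complement'_of_coprime hcoprime
    set Kc : Subgroup G := K₀.map L.subtype with hKc
    have hKcL : Kc ≤ L := Subgroup.map_subtype_le K₀
    have hKccard : Nat.card Kc = p ^ m := by
      rw [← hm, ← hNidx, hK₀.symm.index_eq_card]
      exact (Nat.card_congr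
        (Subgroup.equivMapOfInjective K₀ L.subtype L.subtype_injective).toEquiv).symm
    have hKcp : IsPGroup p Kc := IsPGroup.of_card hKccard
    -- Claim 1: `Kc ≤ C`
    have hKcC : Kc ≤ C := by
      have h1 : Kc.map (QuotientGroup.mk' C) ≤ H.map (QuotientGroup.mk' C) := by
        calc Kc.map (QuotientGroup.mk' C) ≤ (C ⊔ H).map (QuotientGroup.mk' C) :=
              Subgroup.map_mono (hKcL.trans hLM)
          _ = H.map (QuotientGroup.mk' C) := by
              rw [Subgroup.map_sup]
              have : C.map (QuotientGroup.mk' C) = ⊥ := by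
                rw [Subgroup.map_eq_bot_iff, QuotientGroup.ker_mk']
              rw [this, bot_sup_eq]
      have h2 : IsPGroup p (Kc.map (QuotientGroup.mk' C)) := hKcp.map _
      have h3 : (Nat.card (Kc.map (QuotientGroup.mk' C))).Coprime p := by
        have h4 : Nat.card (Kc.map (QuotientGroup.mk' C)) ∣ Nat.card (H.map (QuotientGroup.mk' C)) :=
          Subgroup.card_dvd_of_le h1
        have h5 : Nat.card (H.map (QuotientGroup.mk' C)) ∣ Nat.card H := Subgroup.card_map_dvd _ _
        exact Nat.Coprime.coprime_dvd_left (h4.trans h5) hHp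
      have h4 := card_eq_one_of_isPGroup_of_coprime h2 h3
      rw [Subgroup.card_eq_one, Subgroup.map_eq_bot_iff, QuotientGroup.ker_mk'] at h4
      exact h4
    -- decomposition of elements of `L`
    have hdec : ∀ y ∈ L, ∃ h ∈ H, ∃ k ∈ Kc, y = h * k := by
      intro y hy
      have hsurj := (Subgroup.isComplement'_def.mp hK₀).2
      obtain ⟨⟨n, k⟩, hnk⟩ := hsurj ⟨y, hy⟩
      refine ⟨(n : L), ?_, (k : L), ⟨(k : L), k.2, rfl⟩, ?_⟩
      · have hn2 : (n : L) ∈ H.subgroupOf L := n.2
        exact Subgroup.mem_subgroupOf.mp hn2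
      · have := congrArg Subtype.val hnk
        simpa using this.symm
    -- Claim 2: `Kc` is normal in `G`
    have hKcn : Kc.Normal := by
      constructor
      intro k hk g
      have hyL : g * k * g⁻¹ ∈ L := hLn.conj_mem k (hKcL hk) g
      obtain ⟨h, hh, k', hk', hy⟩ := hdec _ hyL
      have hkpow : k ^ Nat.card Kc = 1 := by
        have h5 : (⟨k, hk⟩ : Kc) ^ Nat.card Kc = 1 := pow_card_eq_one'
        have h6 := congrArg Subtype.val h5
        rw [Subgroup.coe_pow, Subgroup.coe_one] at h6
        exact h6
      have hk'pow : k' ^ Nat.card Kc = 1 := by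
        have h5 : (⟨k', hk'⟩ : Kc) ^ Nat.card Kc = 1 := pow_card_eq_one'
        have h6 := congrArg Subtype.val h5
        rw [Subgroup.coe_pow, Subgroup.coe_one] at h6
        exact h6
      have hypow : (g * k * g⁻¹) ^ Nat.card Kc = 1 := by
        rw [conj_pow, hkpow, mul_one, mul_inv_cancel]
      have hcomm : Commute h k' := by
        have := hKcC hk'
        rw [hC, Subgroup.mem_centralizer_iff] at this
        exact this h hh
      rw [hy, hcomm.mul_pow, hk'pow, mul_one, hKccard] at hypow
      have h1 : h = 1 := eq_one_of_pow_prime_pow_eq_one_of_coprime hHp hh hypow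
      rw [hy, h1, one_mul]
      exact hk'
    have hKcbot : Kc ≤ ⊥ := by
      rw [← hcore]
      exact le_pCore hKcn hKcp
    have hKc1 : Nat.card Kc = 1 := by
      rw [Subgroup.card_eq_one]; exact le_bot_iff.mp hKcbot
    have : H.relIndex L = 1 := by rw [hm, ← hKccard, hKc1]
    rw [Subgroup.relIndex_eq_one] at this
    exact hHL.not_ge this
  · -- `L` is a normal `p'`-subgroup
    have hLp : (Nat.card L).Coprime p := by
      rw [card_eq_card_mul_relIndex H L hHL.le]
      exact Nat.Coprime.mul_left hHp hcop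
    exact hHL.not_ge (le_pPrimeCore hLn hLp)

end Cfsg.Agent.Helper10
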