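import Mathlib
import Cfsg.Prelude.Def_Transfer

set_option autoImplicit false

namespace Cfsg.Agent.Helper10

open Cfsg

universe u v

variable {G : Type u} [Group G] {H : Type v} [Group H]

lemma isElementaryAbelian_iff {p : ℕ} {A : Subgroup G} :
    IsElementaryAbelian p A ↔ (∀ a ∈ A, ∀ b ∈ A, a * b = b * a) ∧ ∀ a ∈ A, a ^ p = 1 := by
  unfold IsElementaryAbelian
  rw [isMulCommutative_iff_of_setLike]

lemma isElementaryAbelian_bot (p : ℕ) : IsElementaryAbelian p (⊥ : Subgroup G) := by
  rw [isElementaryAbelian_iff]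
  constructor
  · intro a ha b hb
    rw [Subgroup.mem_bot] at ha hb
    rw [ha, hb]
  · intro a ha
    rw [Subgroup.mem_bot] at ha
    rw [ha, one_pow]

lemma elemAb_mono {p : ℕ} {A B : Subgroup G} (hA : IsElementaryAbelian p A)
    (h : B ≤ A) : IsElementaryAbelian p B := by
  rw [isElementaryAbelian_iff] at hA ⊢
  exact ⟨fun a ha b hb => hA.1 a (h ha) b (h hb), fun a ha => hA.2 a (h ha)⟩

lemma elemAb_map {p : ℕ} {A : Subgroup G} (hA : IsElementaryAbelian p A)
    (f : G →* H) : IsElementaryAbelian p (A.map f) := by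
  rw [isElementaryAbelian_iff] at hA ⊢
  constructor
  · rintro _ ⟨a, ha, rfl⟩ _ ⟨b, hb, rfl⟩
    rw [← map_mul, ← map_mul, hA.1 a ha b hb]
  · rintro _ ⟨a, ha, rfl⟩
    rw [← map_pow, hA.2 a ha, map_one]

lemma elemAb_comap_of_injective {p : ℕ} {A : Subgroup H} (hA : IsElementaryAbelian p A)
    (f : G →* H) (hf : Function.Injective f) : IsElementaryAbelian p (A.comap f) := by
  rw [isElementaryAbelian_iff] at hA ⊢
  constructor
  · intro a ha b hb
    apply hf
    rw [map_mul, map_mul]
    exact hA.1 _ ha _ hb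
  · intro a ha
    apply hf
    rw [map_pow, map_one]
    exact hA.2 _ ha

lemma elemAb_subgroupOf {p : ℕ} {A : Subgroup G} (hA : IsElementaryAbelian p A)
    (U : Subgroup G) : IsElementaryAbelian p (A.subgroupOf U) :=
  elemAb_comap_of_injective hA U.subtype U.subtype_injective

lemma elemAb_sup_of_commute {p : ℕ} {A B : Subgroup G} (hA : IsElementaryAbelian p A)
    (hB : IsElementaryAbelian p B) (h : ∀ a ∈ A, ∀ b ∈ B, a * b = b * a) :
    IsElementaryAbelian p (A ⊔ B) := by
  rw [isElementaryAbelian_iff] at hA hB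
  have hcomm : ∀ x ∈ ((A : Set G) ∪ B), ∀ y ∈ ((A : Set G) ∪ B), x * y = y * x := by
    rintro x (hx | hx) y (hy | hy)
    · exact hA.1 x hx y hy
    · exact h x hx y hy
    · exact (h y hy x hx).symm
    · exact hB.1 x hx y hy
  have hsup : A ⊔ B = Subgroup.closure ((A : Set G) ∪ B) := by
    rw [Subgroup.closure_union, Subgroup.closure_eq, Subgroup.closure_eq]
  have hc : IsMulCommutative (Subgroup.closure ((A : Set G) ∪ B)) :=
    Subgroup.isMulCommutative_closure hcomm
  rw [isElementaryAbelian_iff, hsup]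
  have hc' := isMulCommutative_iff_of_setLike.mp hc
  refine ⟨hc', ?_⟩
  intro a ha
  induction ha using Subgroup.closure_induction with
  | mem x hx =>
    rcases hx with hx | hx
    · exact hA.2 x hx
    · exact hB.2 x hx
  | one => exact one_pow p
  | mul x y hx hy hx1 hy1 =>
    have : Commute x y := hc' x hx y hy
    rw [this.mul_pow, hx1, hy1, one_mul]
  | inv x _ hx1 => rw [inv_pow, hx1, inv_one]

lemma isElementaryAbelian_zpowers {p : ℕ} {x : G} (hx : x ^ p = 1) :
    IsElementaryAbelian p (Subgroup.zpowers x) := by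
  rw [isElementaryAbelian_iff]
  constructor
  · intro a ha b hb
    exact setLike_mul_comm ha hb
  · intro a ha
    obtain ⟨k, rfl⟩ := Subgroup.mem_zpowers_iff.mp ha
    rw [← zpow_natCast, ← zpow_mul, mul_comm, zpow_mul, zpow_natCast, hx, one_zpow]

lemma elemAb_isPGroup {p : ℕ} {A : Subgroup G} (hA : IsElementaryAbelian p A) :
    IsPGroup p A := by
  intro a
  refine ⟨1, ?_⟩
  rw [pow_one]
  apply Subtype.ext
  rw [Subgroup.coe_pow, Subgroup.coe_one]
  exact hA.2 a a.2

/-- In a finite group, there is an elementary abelian `p`-subgroup of largest order. -/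
lemma maxElementaryAbelianSubgroups_nonempty (p : ℕ) (G : Type u) [Group G] [Finite G] :
    (maxElementaryAbelianSubgroups p G).Nonempty := by
  classical
  have hfin : Set.Finite {A : Subgroup G | IsElementaryAbelian p A} := Set.toFinite _
  have hne : {A : Subgroup G | IsElementaryAbelian p A}.Nonempty := ⟨⊥, isElementaryAbelian_bot p⟩
  obtain ⟨A, hA, hmax⟩ := Set.exists_max_image _ (fun A : Subgroup G => Nat.card A) hfin hne
  exact ⟨A, hA, fun B hB => hmax B hB⟩

lemma le_thompsonSubgroup {p : ℕ} {A : Subgroup G} (hA : A ∈ maxElementaryAbelianSubgroups p G) :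
    A ≤ thompsonSubgroup p G :=
  le_sSup hA

/-- If an elementary abelian subgroup has order at least that of a maximal one, it is maximal. -/
lemma mem_maxElementaryAbelianSubgroups_of_card_le {p : ℕ} {A B : Subgroup G}
    (hA : A ∈ maxElementaryAbelianSubgroups p G) (hB : IsElementaryAbelian p B)
    (h : Nat.card A ≤ Nat.card B) : B ∈ maxElementaryAbelianSubgroups p G :=
  ⟨hB, fun C hC => (hA.2 C hC).trans h⟩

lemma card_eq_of_mem_maxElementaryAbelianSubgroups {p : ℕ} {A B : Subgroup G}
    (hA : A ∈ maxElementaryAbelianSubgroups p G) (hB : B ∈ maxElementaryAbelianSubgroups p G) :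
    Nat.card A = Nat.card B :=
  le_antisymm (hB.2 A hA.1) (hA.2 B hB.1)

/-- (L2) A maximal elementary abelian subgroup of `G` lying in `U` is one of `U`. -/
lemma subgroupOf_mem_maxElementaryAbelianSubgroups {p : ℕ} {A U : Subgroup G}
    (hA : A ∈ maxElementaryAbelianSubgroups p G) (hAU : A ≤ U) :
    A.subgroupOf U ∈ maxElementaryAbelianSubgroups p U := by
  refine ⟨elemAb_subgroupOf hA.1 U, fun B hB => ?_⟩
  have h1 : Nat.card (B.map U.subtype) = Nat.card B :=
    Subgroup.card_map_of_injective U.subtype_injective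
  have h2 : Nat.card (A.subgroupOf U) = Nat.card A := by
    rw [← Subgroup.card_map_of_injective U.subtype_injective, Subgroup.map_subgroupOf_eq_of_le hAU]
  rw [← h1, h2]
  exact hA.2 _ (elemAb_map hB U.subtype)

/-- (L1) If some maximal elementary abelian subgroup of `G` lies in `U`, then the maximal elementary
abelian subgroups of `U` are maximal ones of `G`. -/
lemma map_subtype_mem_maxElementaryAbelianSubgroups {p : ℕ} {A₀ U : Subgroup G}
    (hA₀ : A₀ ∈ maxElementaryAbelianSubgroups p G) (hA₀U : A₀ ≤ U) {B : Subgroup U}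
    (hB : B ∈ maxElementaryAbelianSubgroups p U) :
    B.map U.subtype ∈ maxElementaryAbelianSubgroups p G := by
  apply mem_maxElementaryAbelianSubgroups_of_card_le hA₀ (elemAb_map hB.1 U.subtype)
  have h1 : Nat.card (B.map U.subtype) = Nat.card B :=
    Subgroup.card_map_of_injective U.subtype_injective
  have h2 : Nat.card (A₀.subgroupOf U) = Nat.card A₀ := by
    rw [← Subgroup.card_map_of_injective U.subtype_injective, Subgroup.map_subgroupOf_eq_of_le hA₀U]
  rw [h1, ← h2]
  exact hB.2 _ (elemAb_subgroupOf hA₀.1 U)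

end Cfsg.Agent.Helper10
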