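import Mathlib
import Cfsg.Prelude.Def_Transfer
import Cfsg.Agent.Lib.Helper10.ElemAb

set_option autoImplicit false

namespace Cfsg.Agent.Helper10

open Cfsg

universe u

variable {G : Type u} [Group G]

/-- Conjugates of maximal elementary abelian subgroups are maximal elementary abelian. -/
lemma map_conj_mem_maxElementaryAbelianSubgroups {p : ℕ} {A : Subgroup G}
    (hA : A ∈ maxElementaryAbelianSubgroups p G) (g : G) :
    A.map (MulAut.conj g).toMonoidHom ∈ maxElementaryAbelianSubgroups p G := by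
  apply mem_maxElementaryAbelianSubgroups_of_card_le hA (elemAb_map hA.1 _)
  rw [Subgroup.card_map_of_injective (f := (MulAut.conj g).toMonoidHom) (MulAut.conj g).injective]

/-- Every Sylow `p`-subgroup contains a maximal elementary abelian `p`-subgroup of `G`. -/
lemma exists_mem_maxElementaryAbelianSubgroups_le_sylow [Finite G] {p : ℕ} [Fact p.Prime]
    (S : Sylow p G) : ∃ A ∈ maxElementaryAbelianSubgroups p G, A ≤ S := by
  obtain ⟨A₀, hA₀⟩ := maxElementaryAbelianSubgroups_nonempty p G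
  obtain ⟨S', hS'⟩ := (elemAb_isPGroup hA₀.1).exists_le_sylow
  obtain ⟨g, hg⟩ := MulAction.exists_smul_eq G S' S
  refine ⟨A₀.map (MulAut.conj g).toMonoidHom, map_conj_mem_maxElementaryAbelianSubgroups hA₀ g, ?_⟩
  rw [← hg, Sylow.coe_subgroup_smul]
  rintro _ ⟨a, ha, rfl⟩
  exact ⟨a, hS' ha, rfl⟩

/-- If `U` contains a maximal elementary abelian subgroup of `G`, then `J(U)` is the join of the
maximal elementary abelian subgroups of `G` contained in `U`. -/
lemma thompsonSubgroupOf_eq_sSup [Finite G] {p : ℕ} {U A₀ : Subgroup G}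
    (hA₀ : A₀ ∈ maxElementaryAbelianSubgroups p G) (hA₀U : A₀ ≤ U) :
    thompsonSubgroupOf p U = sSup {A | A ∈ maxElementaryAbelianSubgroups p G ∧ A ≤ U} := by
  apply le_antisymm
  · unfold thompsonSubgroupOf
    rw [Subgroup.map_le_iff_le_comap]
    apply sSup_le
    intro B hB
    rw [← Subgroup.map_le_iff_le_comap]
    exact le_sSup ⟨map_subtype_mem_maxElementaryAbelianSubgroups hA₀ hA₀U hB,
      Subgroup.map_subtype_le B⟩
  · apply sSup_le
    rintro A ⟨hA, hAU⟩
    have h1 := subgroupOf_mem_maxElementaryAbelianSubgroups hA hAU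
    have h2 : A.subgroupOf U ≤ thompsonSubgroup p U := le_thompsonSubgroup h1
    have h3 := Subgroup.map_mono (f := U.subtype) h2
    rw [Subgroup.map_subgroupOf_eq_of_le hAU] at h3
    exact h3

lemma thompsonSubgroupOf_le {p : ℕ} (U : Subgroup G) : thompsonSubgroupOf p U ≤ U :=
  Subgroup.map_subtype_le _

/-- `J(U) ≤ J(G)` when `U` contains a maximal elementary abelian subgroup of `G`. -/
lemma thompsonSubgroupOf_le_thompsonSubgroup [Finite G] {p : ℕ} {U A₀ : Subgroup G}
    (hA₀ : A₀ ∈ maxElementaryAbelianSubgroups p G) (hA₀U : A₀ ≤ U) :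
    thompsonSubgroupOf p U ≤ thompsonSubgroup p G := by
  rw [thompsonSubgroupOf_eq_sSup hA₀ hA₀U]
  apply sSup_le
  rintro A ⟨hA, _⟩
  exact le_thompsonSubgroup hA

lemma thompsonSubgroupOf_sylow_le_thompsonSubgroup [Finite G] {p : ℕ} [Fact p.Prime]
    (S : Sylow p G) : thompsonSubgroupOf p (S : Subgroup G) ≤ thompsonSubgroup p G := by
  obtain ⟨A₀, hA₀, hA₀S⟩ := exists_mem_maxElementaryAbelianSubgroups_le_sylow S
  exact thompsonSubgroupOf_le_thompsonSubgroup hA₀ hA₀S

/-- If `K` maps `H` into itself under conjugation by each of its elements, `K` normalizes `H`. -/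
lemma le_normalizer_of_forall_map_conj_le {K H : Subgroup G}
    (h : ∀ n ∈ K, H.map (MulAut.conj n).toMonoidHom ≤ H) : K ≤ Subgroup.normalizer (H : Set G) := by
  intro n hn
  rw [Subgroup.mem_normalizer_iff]
  intro x
  constructor
  · intro hx
    exact h n hn ⟨x, hx, rfl⟩
  · intro hx
    have := h n⁻¹ (K.inv_mem hn) ⟨n * x * n⁻¹, hx, rfl⟩
    simpa [MulAut.conj_apply, mul_assoc] using this

/-- If `J(U) ≤ T ≤ U` (with `U` containing a maximal elementary abelian subgroup of `G`), then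
`N_G(T) ≤ N_G(J(U))`. -/
lemma normalizer_le_normalizer_thompsonSubgroupOf [Finite G] {p : ℕ} {U A₀ T : Subgroup G}
    (hA₀ : A₀ ∈ maxElementaryAbelianSubgroups p G) (hA₀U : A₀ ≤ U)
    (hTU : T ≤ U) (hJT : thompsonSubgroupOf p U ≤ T) :
    Subgroup.normalizer (T : Set G) ≤ Subgroup.normalizer (thompsonSubgroupOf p U : Set G) := by
  apply le_normalizer_of_forall_map_conj_le
  intro n hn
  have hJ := thompsonSubgroupOf_eq_sSup hA₀ hA₀U
  rw [Subgroup.map_le_iff_le_comap]
  nth_rewrite 1 [hJ]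
  apply sSup_le
  rintro A ⟨hA, hAU⟩
  rw [← Subgroup.map_le_iff_le_comap, hJ]
  apply le_sSup
  refine ⟨map_conj_mem_maxElementaryAbelianSubgroups hA n, ?_⟩
  have hAT : A ≤ T := by
    refine le_trans ?_ hJT
    rw [hJ]
    exact le_sSup ⟨hA, hAU⟩
  refine le_trans ?_ hTU
  rintro _ ⟨a, ha, rfl⟩
  exact ((Subgroup.mem_normalizer_iff.mp hn) a).mp (hAT ha)

end Cfsg.Agent.Helper10
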