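import Mathlib
import Cfsg.Prelude.Def_Transfer
import Cfsg.Prelude.Def_PLocal
import Cfsg.Agent.Lib.Helper10.ElemAb

set_option autoImplicit false

namespace Cfsg.Agent.Helper10

open Cfsg

universe u v

section equiv

variable {P : Type u} {Q : Type v} [Group P] [Group Q]

/-- Maximal elementary abelian subgroups are transported by isomorphisms. -/
lemma map_mulEquiv_mem_maxElementaryAbelianSubgroups {p : ℕ} (e : P ≃* Q) {A : Subgroup P}
    (hA : A ∈ maxElementaryAbelianSubgroups p P) :
    A.map e.toMonoidHom ∈ maxElementaryAbelianSubgroups p Q := by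
  refine ⟨elemAb_map hA.1 _, fun B hB => ?_⟩
  have h1 := hA.2 (B.map e.symm.toMonoidHom) (elemAb_map hB _)
  rw [Subgroup.card_map_of_injective (f := e.symm.toMonoidHom) e.symm.injective] at h1
  rw [Subgroup.card_map_of_injective (f := e.toMonoidHom) e.injective]
  exact h1

/-- The Thompson subgroup is transported by isomorphisms. -/
lemma thompsonSubgroup_map_mulEquiv (p : ℕ) (e : P ≃* Q) :
    (thompsonSubgroup p P).map e.toMonoidHom = thompsonSubgroup p Q := by
  apply le_antisymm
  · rw [Subgroup.map_le_iff_le_comap]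
    apply sSup_le
    intro A hA
    rw [← Subgroup.map_le_iff_le_comap]
    exact le_thompsonSubgroup (map_mulEquiv_mem_maxElementaryAbelianSubgroups e hA)
  · apply sSup_le
    intro B hB
    have h1 := map_mulEquiv_mem_maxElementaryAbelianSubgroups e.symm hB
    have h2 : B.map e.symm.toMonoidHom ≤ thompsonSubgroup p P := le_thompsonSubgroup h1
    have h3 := Subgroup.map_mono (f := e.toMonoidHom) h2
    rw [Subgroup.map_map] at h3
    have h4 : e.toMonoidHom.comp e.symm.toMonoidHom = MonoidHom.id Q := by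
      ext x; simp
    rwa [h4, Subgroup.map_id] at h3

end equiv

section maps

variable {G : Type u} {H : Type v} [Group G] [Group H]

/-- The Thompson subgroup of the range of an injective homomorphism. -/
lemma thompsonSubgroupOf_range {P : Type u} [Group P] (p : ℕ) (φ : P →* H)
    (hφ : Function.Injective φ) :
    thompsonSubgroupOf p φ.range = (thompsonSubgroup p P).map φ := by
  unfold thompsonSubgroupOf
  rw [← thompsonSubgroup_map_mulEquiv p (MonoidHom.ofInjective hφ), Subgroup.map_map]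
  congr 1

/-- If `f` is injective on `U`, then `J(f(U)) = f(J(U))`. -/
lemma thompsonSubgroupOf_map (p : ℕ) (f : G →* H) (U : Subgroup G)
    (hinj : ∀ x ∈ U, f x = 1 → x = 1) :
    thompsonSubgroupOf p (U.map f) = (thompsonSubgroupOf p U).map f := by
  have hφ : Function.Injective (f.comp U.subtype) := by
    rw [injective_iff_map_eq_one]
    intro x hx
    exact Subtype.ext (hinj x x.2 hx)
  have hr : (f.comp U.subtype).range = U.map f := by
    rw [MonoidHom.range_comp, Subgroup.range_subtype]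
  rw [← hr, thompsonSubgroupOf_range p _ hφ]
  unfold thompsonSubgroupOf
  rw [Subgroup.map_map]

lemma omegaOne_le_self (p : ℕ) (K : Subgroup G) : omegaOne p K ≤ K := by
  unfold omegaOne
  rw [Subgroup.closure_le]
  intro x hx
  exact hx.1

/-- If `f` is injective on `K`, then `Ω₁(f(K)) = f(Ω₁(K))`. -/
lemma omegaOne_map (p : ℕ) (f : G →* H) (K : Subgroup G)
    (hinj : ∀ x ∈ K, f x = 1 → x = 1) :
    omegaOne p (K.map f) = (omegaOne p K).map f := by
  unfold omegaOne
  rw [MonoidHom.map_closure]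
  congr 1
  ext y
  constructor
  · rintro ⟨⟨x, hx, rfl⟩, hyp⟩
    refine ⟨x, ⟨hx, ?_⟩, rfl⟩
    apply hinj _ (K.pow_mem hx p)
    rw [map_pow]; exact hyp
  · rintro ⟨x, ⟨hx, hxp⟩, rfl⟩
    exact ⟨⟨x, hx, rfl⟩, by rw [← map_pow, hxp, map_one]⟩

/-- If `f` is injective on `U`, then `Z(f(U)) = f(Z(U))`. -/
lemma inf_centralizer_map (f : G →* H) (U : Subgroup G)
    (hinj : ∀ x ∈ U, f x = 1 → x = 1) :
    U.map f ⊓ Subgroup.centralizer ((U.map f : Subgroup H) : Set H) =
      (U ⊓ Subgroup.centralizer (U : Set G)).map f := by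
  ext y
  rw [Subgroup.mem_inf, Subgroup.mem_map]
  constructor
  · rintro ⟨⟨x, hx, rfl⟩, hyC⟩
    refine ⟨x, Subgroup.mem_inf.mpr ⟨hx, ?_⟩, rfl⟩
    rw [Subgroup.mem_centralizer_iff]
    intro u hu
    have h1 : f u * f x = f x * f u := hyC (f u) ⟨u, hu, rfl⟩
    have h2 : f ((u * x) * (x * u)⁻¹) = 1 := by
      rw [map_mul, map_inv, map_mul, map_mul, h1, mul_inv_cancel]
    have h3 := hinj _ (U.mul_mem (U.mul_mem hu hx) (U.inv_mem (U.mul_mem hx hu))) h2
    exact mul_inv_eq_one.mp h3
  · rintro ⟨x, hx, rfl⟩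
    rw [SetLike.mem_coe, Subgroup.mem_inf] at hx
    obtain ⟨hx, hxC⟩ := hx
    refine ⟨⟨x, hx, rfl⟩, ?_⟩
    rw [Subgroup.mem_centralizer_iff]
    rintro _ ⟨u, hu, rfl⟩
    rw [← map_mul, ← map_mul, hxC u hu]

end maps

end Cfsg.Agent.Helper10
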