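import Mathlib
import Cfsg.Agent.S0617
import Cfsg.Agent.Lib.Helper1.FFY
import Cfsg.Agent.Lib.Helper50.JComp2

/-!
# Consequences of the failure-of-factorization structure theorem for `p = 2`

For a finite `2`-solvable group `L` with `O_{2'}(L) = 1`, `V = ⟨Ω₁(Z(S)) | S ∈ Syl₂ L⟩` and
`C = C_L(V)`: the subgroup `Ĥ` generated (mod `C`) by the best offenders is normal, contains the
Thompson subgroup, and has a normal subgroup `N ≥ C` with `N/C` an abelian `3`-group containing all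
elements of odd order of `Ĥ`.
-/

set_option autoImplicit false

namespace Cfsg.Agent.Helper10.JCompFF

open Subgroup Matrix
open scoped commutatorElement

theorem sl22_cube_comm : ∀ x y : SpecialLinearGroup (Fin 2) (ZMod 2), x ^ 3 = 1 → y ^ 3 = 1 →
    x * y = y * x ∧ (x * y) ^ 3 = 1 := by
  decide +kernel

theorem sl22_sq : ∀ x : SpecialLinearGroup (Fin 2) (ZMod 2), (x ^ 2) ^ 3 = 1 := by
  decide +kernel

theorem sl22_comm : ∀ x y : SpecialLinearGroup (Fin 2) (ZMod 2),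
    (x * y * x⁻¹ * y⁻¹) ^ 3 = 1 := by
  decide +kernel

section prod

variable {Γ : Type*} [Group Γ]

theorem E_cube_comm {E : Subgroup Γ} (h : Nonempty (↥E ≃* SpecialLinearGroup (Fin 2) (ZMod 2)))
    {x y : Γ} (hx : x ∈ E) (hy : y ∈ E) (hx3 : x ^ 3 = 1) (hy3 : y ^ 3 = 1) :
    x * y = y * x ∧ (x * y) ^ 3 = 1 := by
  obtain ⟨φ⟩ := h
  have hx' : (⟨x, hx⟩ : ↥E) ^ 3 = 1 := Subtype.ext (by simpa using hx3)
  have hy' : (⟨y, hy⟩ : ↥E) ^ 3 = 1 := Subtype.ext (by simpa using hy3)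
  have h1 := sl22_cube_comm (φ ⟨x, hx⟩) (φ ⟨y, hy⟩) (by rw [← map_pow, hx', map_one])
    (by rw [← map_pow, hy', map_one])
  constructor
  · have : (⟨x, hx⟩ : ↥E) * ⟨y, hy⟩ = ⟨y, hy⟩ * ⟨x, hx⟩ := by
      apply φ.injective
      rw [map_mul, map_mul]
      exact h1.1
    exact congrArg Subtype.val this
  · have : ((⟨x, hx⟩ : ↥E) * ⟨y, hy⟩) ^ 3 = 1 := by
      apply φ.injective
      rw [map_pow, map_mul, map_one]
      exact h1.2
    simpa using congrArg Subtype.val this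

theorem E_sq {E : Subgroup Γ} (h : Nonempty (↥E ≃* SpecialLinearGroup (Fin 2) (ZMod 2)))
    {x : Γ} (hx : x ∈ E) : (x ^ 2) ^ 3 = 1 := by
  obtain ⟨φ⟩ := h
  have h1 := sl22_sq (φ ⟨x, hx⟩)
  have : ((⟨x, hx⟩ : ↥E) ^ 2) ^ 3 = 1 := by
    apply φ.injective
    rw [map_pow, map_pow, map_one]
    exact h1
  simpa using congrArg Subtype.val this

theorem E_comm {E : Subgroup Γ} (h : Nonempty (↥E ≃* SpecialLinearGroup (Fin 2) (ZMod 2)))
    {x y : Γ} (hx : x ∈ E) (hy : y ∈ E) : (x * y * x⁻¹ * y⁻¹) ^ 3 = 1 := by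
  obtain ⟨φ⟩ := h
  have h1 := sl22_comm (φ ⟨x, hx⟩) (φ ⟨y, hy⟩)
  have : ((⟨x, hx⟩ : ↥E) * ⟨y, hy⟩ * (⟨x, hx⟩ : ↥E)⁻¹ * (⟨y, hy⟩ : ↥E)⁻¹) ^ 3 = 1 := by
    apply φ.injective
    rw [map_pow, map_mul, map_mul, map_mul, map_inv, map_inv, map_one]
    exact h1
  simpa using congrArg Subtype.val this

/-- the elements of order dividing three of a copy of `SL(2,2)` form a subgroup -/
def cubeSub (E : Subgroup Γ) (h : Nonempty (↥E ≃* SpecialLinearGroup (Fin 2) (ZMod 2))) :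
    Subgroup Γ where
  carrier := {x | x ∈ E ∧ x ^ 3 = 1}
  mul_mem' := by
    rintro x y ⟨hx, hx3⟩ ⟨hy, hy3⟩
    exact ⟨E.mul_mem hx hy, (E_cube_comm h hx hy hx3 hy3).2⟩
  one_mem' := ⟨E.one_mem, one_pow 3⟩
  inv_mem' := by
    rintro x ⟨hx, hx3⟩
    exact ⟨E.inv_mem hx, by rw [inv_pow, hx3, inv_one]⟩

theorem mem_cubeSub {E : Subgroup Γ} {h : Nonempty (↥E ≃* SpecialLinearGroup (Fin 2) (ZMod 2))}
    {x : Γ} : x ∈ cubeSub E h ↔ x ∈ E ∧ x ^ 3 = 1 := Iff.rfl

theorem S3prod {ι : Type*} (E : ι → Subgroup Γ) (H : Subgroup Γ)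
    (hN : ∀ i, H ≤ normalizer ((E i : Subgroup Γ) : Set Γ))
    (hiso : ∀ i, Nonempty (↥(E i) ≃* SpecialLinearGroup (Fin 2) (ZMod 2)))
    (hind : iSupIndep E) (hsup : (⨆ i, E i) = H) :
    ∃ O : Subgroup Γ, O ≤ H ∧ H ≤ normalizer (O : Set Γ) ∧ (∀ x ∈ O, ∀ y ∈ O, x * y = y * x) ∧
      (∀ x ∈ O, x ^ 3 = 1) ∧ (∀ x ∈ H, Odd (orderOf x) → x ∈ O) := by
  have hEH : ∀ i, E i ≤ H := fun i => hsup ▸ le_iSup E i
  have hconj : ∀ i, ∀ h ∈ H, ∀ y ∈ E i, h * y * h⁻¹ ∈ E i := fun i h hh y hy =>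
    Cfsg.Agent.Helper50.JComp.conj_mem_of_le_normalizer (hN i) hh hy
  -- distinct factors commute
  have hcomm : ∀ i j, i ≠ j → ∀ x ∈ E i, ∀ y ∈ E j, x * y = y * x := by
    intro i j hij x hx y hy
    have hd : Disjoint (E i) (E j) := hind.pairwiseDisjoint hij
    have h1 : x * y * x⁻¹ * y⁻¹ ∈ E j :=
      (E j).mul_mem (hconj j x (hEH i hx) y hy) ((E j).inv_mem hy)
    have h2 : x * y * x⁻¹ * y⁻¹ ∈ E i := by
      have := hconj i y (hEH j hy) x⁻¹ ((E i).inv_mem hx)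
      have h3 := (E i).mul_mem hx this
      convert h3 using 1
      group
    have h3 : x * y * x⁻¹ * y⁻¹ = 1 := by
      have := (Subgroup.disjoint_def.mp hd) h2 h1
      exact this
    calc x * y = (x * y * x⁻¹ * y⁻¹) * (y * x) := by group
      _ = y * x := by rw [h3, one_mul]
  let M : ι → Subgroup Γ := fun i => cubeSub (E i) (hiso i)
  have hME : ∀ i, M i ≤ E i := fun i x hx => hx.1
  set O : Subgroup Γ := ⨆ i, M i with hOdef
  have hMO : ∀ i, M i ≤ O := fun i => le_iSup M i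
  have hOH : O ≤ H := iSup_le fun i => (hME i).trans (hEH i)
  -- `O` is normalized by `H`
  have hHO : ∀ h ∈ H, ∀ y ∈ O, h * y * h⁻¹ ∈ O := by
    intro h hh y hy
    refine Subgroup.iSup_induction M (C := fun y => h * y * h⁻¹ ∈ O) hy ?_ ?_ ?_
    · intro i y hy
      apply hMO i
      refine ⟨hconj i h hh y hy.1, ?_⟩
      have : (h * y * h⁻¹) ^ 3 = h * y ^ 3 * h⁻¹ := by
        rw [pow_succ, pow_two]; rw [pow_succ, pow_two]; group
      rw [this, hy.2]; group
    · simp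
    · intro y z hy hz
      have : h * (y * z) * h⁻¹ = (h * y * h⁻¹) * (h * z * h⁻¹) := by group
      rw [this]; exact O.mul_mem hy hz
  have hHnO : H ≤ normalizer (O : Set Γ) :=
    Cfsg.Agent.Helper50.JComp.le_normalizer_of_conj_mem hHO
  -- `O` is abelian
  have hMcomm : ∀ i j, ∀ x ∈ M i, ∀ y ∈ M j, x * y = y * x := by
    intro i j x hx y hy
    by_cases hij : i = j
    · subst hij
      exact (E_cube_comm (hiso i) hx.1 hy.1 hx.2 hy.2).1
    · exact hcomm i j hij x hx.1 y hy.1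
  have hOcomm : ∀ x ∈ O, ∀ y ∈ O, x * y = y * x := by
    intro x hx y hy
    refine Subgroup.iSup_induction M (C := fun x => x * y = y * x) hx ?_ ?_ ?_
    · intro i x hx
      refine Subgroup.iSup_induction M (C := fun y => x * y = y * x) hy ?_ ?_ ?_
      · intro j y hy
        exact hMcomm i j x hx y hy
      · simp
      · intro y z hy hz
        rw [← mul_assoc, hy, mul_assoc, hz, mul_assoc]
    · simp
    · intro x z hx hz
      rw [mul_assoc, hz, ← mul_assoc, hx, mul_assoc]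
  have hOcube : ∀ x ∈ O, x ^ 3 = 1 := by
    intro x hx
    refine Subgroup.iSup_induction' M (C := fun x _ => x ^ 3 = 1) ?_ ?_ ?_ hx
    · intro i x hx
      exact hx.2
    · simp
    · intro x y hx hy hx3 hy3
      have c : Commute x y := hOcomm x hx y hy
      rw [c.mul_pow, hx3, hy3, one_mul]
  -- commutators of a factor element with `H` lie in `O`
  have hEc : ∀ i, ∀ e ∈ E i, ∀ y ∈ H, e * y * e⁻¹ * y⁻¹ ∈ O := by
    intro i e he y hy
    rw [← hsup] at hy
    refine Subgroup.iSup_induction' E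
      (C := fun y _ => e * y * e⁻¹ * y⁻¹ ∈ O) ?_ ?_ ?_ hy
    · intro j y hy
      by_cases hij : i = j
      · subst hij
        apply hMO i
        refine ⟨?_, E_comm (hiso i) he hy⟩
        exact (E i).mul_mem ((E i).mul_mem ((E i).mul_mem he hy) ((E i).inv_mem he))
          ((E i).inv_mem hy)
      · have := hcomm i j hij e he y hy
        have h1 : e * y * e⁻¹ * y⁻¹ = 1 := by rw [this]; group
        rw [h1]; exact O.one_mem
    · simp
    · intro y z hy hz hy' hz'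
      have hyH : y ∈ H := hsup ▸ hy
      have : e * (y * z) * e⁻¹ * (y * z)⁻¹ =
          (e * y * e⁻¹ * y⁻¹) * (y * (e * z * e⁻¹ * z⁻¹) * y⁻¹) := by group
      rw [this]
      exact O.mul_mem hy' (hHO y hyH _ hz')
  -- squares and commutators of `H` lie in `O`
  have hP : ∀ x ∈ H, x ^ 2 ∈ O ∧ ∀ y ∈ H, x * y * x⁻¹ * y⁻¹ ∈ O := by
    intro x hx
    have hx' := hx
    rw [← hsup] at hx'
    refine Subgroup.iSup_induction' E
      (C := fun x _ => x ^ 2 ∈ O ∧ ∀ y ∈ H, x * y * x⁻¹ * y⁻¹ ∈ O) ?_ ?_ ?_ hx'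
    · intro i e he
      refine ⟨?_, hEc i e he⟩
      apply hMO i
      exact ⟨(E i).pow_mem he 2, E_sq (hiso i) he⟩
    · refine ⟨by simp, ?_⟩
      intro y _
      simp
    · intro x z hx hz hx' hz'
      have hxH : x ∈ H := hsup ▸ hx
      have hzH : z ∈ H := hsup ▸ hz
      constructor
      · -- (xz)^2 = x^2 * (x⁻¹ z x z⁻¹) * z^2
        have h1 : x⁻¹ * z * x * z⁻¹ ∈ O := by
          have := hx'.2 z hzH
          -- x⁻¹ z x z⁻¹ = x⁻¹ (x z x⁻¹ z⁻¹)⁻¹ x
          have h2 := hHO x⁻¹ (H.inv_mem hxH) _ (O.inv_mem this)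
          convert h2 using 1
          group
        have : (x * z) ^ 2 = x ^ 2 * (x⁻¹ * z * x * z⁻¹) * z ^ 2 := by
          rw [pow_two, pow_two, pow_two]; group
        rw [this]
        exact O.mul_mem (O.mul_mem hx'.1 h1) hz'.1
      · intro y hy
        have : x * z * y * (x * z)⁻¹ * y⁻¹ =
            (x * (z * y * z⁻¹ * y⁻¹) * x⁻¹) * (x * y * x⁻¹ * y⁻¹) := by group
        rw [this]
        exact O.mul_mem (hHO x hxH _ (hz'.2 y hy)) (hx'.2 y hy)
  refine ⟨O, hOH, hHnO, hOcomm, hOcube, ?_⟩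
  intro x hx hodd
  obtain ⟨k, hk⟩ := hodd
  have h1 : x ^ (2 * (k + 1)) = x := by
    have : 2 * (k + 1) = orderOf x + 1 := by omega
    rw [this, pow_succ, pow_orderOf_eq_one, one_mul]
  rw [← h1, pow_mul]
  exact O.pow_mem (hP x hx).1 _

end prod

section main

open Cfsg.Agent.Helper1 Cfsg.Agent.Helper1.FF

variable {L : Type*} [Group L] [Finite L]

/-- **Consequence of the failure-of-factorization structure theorem** (`p = 2`). -/
theorem ff_consequence (hsep : Cfsg.IsPSolvable 2 L) (hO : Cfsg.pPrimeCore 2 L = ⊥) :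
    ∃ Hh N : Subgroup L, Hh.Normal ∧ Cfsg.thompsonSubgroup 2 L ≤ Hh ∧
      centralizer (VZ 2 L : Set L) ≤ N ∧ N ≤ Hh ∧ Hh ≤ normalizer (N : Set L) ∧
      ⁅N, N⁆ ≤ centralizer (VZ 2 L : Set L) ∧ (∀ x ∈ Hh, Odd (orderOf x) → x ∈ N) ∧
      (∀ x ∈ N, ∀ k : ℕ, x ^ (2 ^ k) = 1 → x ∈ centralizer (VZ 2 L : Set L)) ∧
      (∀ x ∈ N, x ^ 3 ∈ centralizer (VZ 2 L : Set L)) := by
  haveI : Fact (Nat.Prime 2) := ⟨Nat.prime_two⟩
  haveI hVn : (VZ 2 L).Normal := VZ_normal 2
  have hVea : EA 2 (VZ 2 L) := ea_VZ hsep hO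
  have hOq : Cfsg.pCore 2 (L ⧸ centralizer (VZ 2 L : Set L)) = ⊥ := pCore_quot_VZ
  set V := VZ 2 L with hV
  haveI hCn : (centralizer (V : Set L)).Normal := by
    rw [← ker_Th V]; infer_instance
  have hJ : (Cfsg.thompsonSubgroup 2 L).map (Th V) ≤ HB 2 V := map_thompson_le_HB V hVea
  by_cases hH1 : HB 2 V = ⊥
  · refine ⟨centralizer (V : Set L), centralizer (V : Set L), hCn, ?_, le_rfl, le_rfl,
      le_normalizer, ?_, fun x hx _ => hx, fun x hx _ _ => hx, fun x hx => Subgroup.pow_mem _ hx 3⟩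
    · rw [hH1, le_bot_iff, Subgroup.map_eq_bot_iff, ker_Th] at hJ
      exact hJ
    · exact Subgroup.commutator_le_right _ _
  · have hle := HB_le_range (p := 2) V
    have hf : HB 2 V ⊓ centralizer (VV V : Set (GamV V)) = ⊥ := by
      rw [eq_bot_iff]
      have h1 := map_Th_inf_centralizer V ⊤
      rw [← MonoidHom.range_eq_map] at h1
      rw [← h1]
      exact inf_le_inf_right _ hle
    obtain ⟨-, hE, hind, hsup, -, -⟩ := Cfsg.Agent.S0617.result (p := 2) (VV V) (HB 2 V)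
      (isElementaryAbelian_of_ea (ea_VV V hVea)) (hle.trans (range_le_normalizer_VV V)) hf
      (HB_hS1 V hsep hOq) (HB_hS3 V) hH1
    obtain ⟨O, hOH, hHnO, hOcomm, hOcube, hOodd⟩ := S3prod _ (HB 2 V)
      (fun E => (hE E).1) (fun E => (hE E).2.1) hind hsup
    have hrn := range_le_normalizer_HB (p := 2) V
    refine ⟨(HB 2 V).comap (Th V), O.comap (Th V), ?_, ?_, ?_, Subgroup.comap_mono hOH, ?_, ?_,
      ?_, ?_, ?_⟩
    · constructor
      intro x hx g
      rw [mem_comap] at hx ⊢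
      rw [map_mul, map_mul, map_inv]
      exact Cfsg.Agent.Helper50.JComp.conj_mem_of_le_normalizer hrn ⟨g, rfl⟩ hx
    · rw [← Subgroup.map_le_iff_le_comap]
      exact hJ
    · have := (Th V).ker_le_comap O
      rwa [ker_Th] at this
    · apply Cfsg.Agent.Helper50.JComp.le_normalizer_of_conj_mem
      intro x hx y hy
      rw [mem_comap] at hx hy ⊢
      rw [map_mul, map_mul, map_inv]
      exact Cfsg.Agent.Helper50.JComp.conj_mem_of_le_normalizer hHnO hx hy
    · rw [Subgroup.commutator_le]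
      intro x hx y hy
      rw [mem_comap] at hx hy
      rw [← ker_Th V, MonoidHom.mem_ker, map_commutatorElement, commutatorElement_def,
        hOcomm _ hx _ hy]
      group
    · intro x hx hodd
      rw [mem_comap] at hx ⊢
      apply hOodd _ hx
      have hdvd : orderOf (Th V x) ∣ orderOf x := orderOf_map_dvd (Th V) x
      exact hodd.of_dvd_nat hdvd
    · intro x hx k hk
      rw [mem_comap] at hx
      rw [← ker_Th V, MonoidHom.mem_ker]
      have h3 := hOcube _ hx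
      have h2 : (Th V x) ^ (2 ^ k) = 1 := by rw [← map_pow, hk, map_one]
      have hcop : Nat.Coprime (2 ^ k) 3 := by
        apply Nat.Coprime.pow_left
        decide
      have h1 := orderOf_dvd_of_pow_eq_one h3
      have h1' := orderOf_dvd_of_pow_eq_one h2
      have := Nat.dvd_gcd h1' h1
      rw [hcop] at this
      exact orderOf_eq_one_iff.mp (Nat.dvd_one.mp this)
    · intro x hx
      rw [mem_comap] at hx
      rw [← ker_Th V, MonoidHom.mem_ker, map_pow]
      exact hOcube _ hx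

end main

end Cfsg.Agent.Helper10.JCompFF
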