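import Mathlib
import Cfsg.Prelude.Def_JComponents
import Cfsg.Agent.Lib.Helper10.JCompFF
import Cfsg.Agent.Lib.Helper24.SZInternal
import Cfsg.Agent.Lib.Helper76.SolvPSolv
import Cfsg.Agent.Lib.Helper49.PPrimeCore
import Cfsg.Agent.Lib.Helper49.ZStar

/-!
# `J(T)`-components are subnormal (KS 12.2, abstract form)

`L` is a finite solvable group with `C_L(O₂(L)) ≤ O₂(L)`, `T` a Sylow `2`-subgroup with
`C_L(Ω₁(Z(T))) ≤ N_L(T)`, and `J ≤ T` a subgroup normal in `T` and contained in the Thompson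
subgroup of `L`.  Every subgroup `K = [K, J]` generated by its elements of odd order is subnormal.
-/

set_option autoImplicit false

namespace Cfsg.Agent.Helper10.JCompSub

open Subgroup
open scoped commutatorElement
open Cfsg.Agent.Helper1.FF (VZ)
open Cfsg.Agent.Helper50.JComp (conj_mem_of_le_normalizer le_normalizer_of_conj_mem)

theorem conj_sup_mem {G : Type*} [Group G] {A B : Subgroup G} {x : G}
    (hA : ∀ y ∈ A, x * y * x⁻¹ ∈ A ⊔ B) (hB : ∀ y ∈ B, x * y * x⁻¹ ∈ A ⊔ B) :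
    ∀ y ∈ A ⊔ B, x * y * x⁻¹ ∈ A ⊔ B := by
  have : A ⊔ B ≤ (A ⊔ B).comap (MulAut.conj x).toMonoidHom := by
    apply sup_le
    · intro y hy
      rw [mem_comap]
      simpa using hA y hy
    · intro y hy
      rw [mem_comap]
      simpa using hB y hy
  intro y hy
  have := this hy
  rw [mem_comap] at this
  simpa using this

variable {L : Type*} [Group L] [Finite L]

/-- the hypotheses on `L` and its Sylow `2`-subgroup -/
structure Setup (T : Sylow 2 L) : Prop where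
  solv : Group.IsSolvable L
  hchar : centralizer (Cfsg.pCore 2 L : Set L) ≤ Cfsg.pCore 2 L
  hZ : centralizer (Cfsg.omegaCenterOf (T : Subgroup L) : Set L) ≤
    normalizer ((T : Subgroup L) : Set L)

/-- the output of the failure-of-factorization analysis -/
structure FFData (Hh N : Subgroup L) : Prop where
  hn : Hh.Normal
  thom : Cfsg.thompsonSubgroup 2 L ≤ Hh
  CN : centralizer (VZ 2 L : Set L) ≤ N
  NH : N ≤ Hh
  HnN : Hh ≤ normalizer (N : Set L)
  comm : ⁅N, N⁆ ≤ centralizer (VZ 2 L : Set L)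
  odd : ∀ x ∈ Hh, Odd (orderOf x) → x ∈ N
  two : ∀ x ∈ N, ∀ k : ℕ, x ^ (2 ^ k) = 1 → x ∈ centralizer (VZ 2 L : Set L)
  cube : ∀ x ∈ N, x ^ 3 ∈ centralizer (VZ 2 L : Set L)

instance : Fact (Nat.Prime 2) := ⟨Nat.prime_two⟩

namespace Setup

variable {T : Sylow 2 L} (h : Setup T)
include h

theorem psolv : Cfsg.IsPSolvable 2 L := by
  haveI := h.solv
  exact Cfsg.Agent.Helper76.isPSolvable_of_isSolvable' 2

theorem Qn : (Cfsg.pCore 2 L).Normal := Cfsg.Agent.Helper49.pCore_normal' 2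

theorem Q2 : IsPGroup 2 (Cfsg.pCore 2 L) := Cfsg.Agent.Helper49.pCore_isPGroup 2

theorem pprime : Cfsg.pPrimeCore 2 L = ⊥ := by
  haveI := h.Qn
  haveI : (Cfsg.pPrimeCore 2 L).Normal := Cfsg.Agent.Helper49.pPrimeCore_normal' 2
  have hcop : (Nat.card (Cfsg.pPrimeCore 2 L)).Coprime (Nat.card (Cfsg.pCore 2 L)) := by
    obtain ⟨n, hn⟩ := IsPGroup.iff_card.mp h.Q2
    rw [hn]
    exact Nat.Coprime.pow_right n (Cfsg.Agent.Helper49.pPrimeCore_card_coprime 2)
  have hdisj : Disjoint (Cfsg.pPrimeCore 2 L) (Cfsg.pCore 2 L) :=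
    Subgroup.disjoint_of_coprime_natCard hcop
  have hle : Cfsg.pPrimeCore 2 L ≤ centralizer (Cfsg.pCore 2 L : Set L) := by
    intro r hr
    rw [mem_centralizer_iff]
    intro q hq
    exact (Subgroup.commute_of_normal_of_disjoint _ _ inferInstance inferInstance hdisj r q hr hq).eq.symm
  rw [eq_bot_iff]
  intro x hx
  exact (Subgroup.disjoint_def.mp hdisj) hx (h.hchar (hle hx))

theorem ffdata : ∃ Hh N : Subgroup L, FFData Hh N := by
  obtain ⟨Hh, N, h1, h2, h3, h4, h5, h6, h7, h8, h9⟩ :=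
    Cfsg.Agent.Helper10.JCompFF.ff_consequence h.psolv h.pprime
  exact ⟨Hh, N, ⟨h1, h2, h3, h4, h5, h6, h7, h8, h9⟩⟩

theorem omega_le_VZ : Cfsg.omegaCenterOf (T : Subgroup L) ≤ VZ 2 L :=
  Cfsg.Agent.Helper1.FF.omegaOne_le_VZ 2 T

theorem Cn : (centralizer (VZ 2 L : Set L)).Normal := by
  haveI : (VZ 2 L).Normal := Cfsg.Agent.Helper1.FF.VZ_normal 2
  infer_instance

theorem C_le_normalizer_T :
    centralizer (VZ 2 L : Set L) ≤ normalizer ((T : Subgroup L) : Set L) :=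
  (Subgroup.centralizer_le h.omega_le_VZ).trans h.hZ

/-- `2`-elements of `C_L(V)` lie in `T` -/
theorem mem_T_of_two {x : L} (hx : x ∈ centralizer (VZ 2 L : Set L)) {k : ℕ}
    (hk : x ^ (2 ^ k) = 1) : x ∈ (T : Subgroup L) := by
  have hxn : zpowers x ≤ normalizer ((T : Subgroup L) : Set L) :=
    Subgroup.zpowers_le.mpr (h.C_le_normalizer_T hx)
  have hx2 : IsPGroup 2 (zpowers x) := by
    have : orderOf x ∣ 2 ^ k := orderOf_dvd_of_pow_eq_one hk
    obtain ⟨m, -, hm⟩ := (Nat.dvd_prime_pow Nat.prime_two).mp this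
    apply IsPGroup.of_card (n := m)
    rw [Nat.card_zpowers, hm]
  have h2 : IsPGroup 2 ↥((T : Subgroup L) ⊔ zpowers x) :=
    IsPGroup.to_sup_of_normal_left' T.2 hx2 hxn
  have := T.is_maximal' h2 le_sup_left
  rw [← this]
  exact mem_sup_right (mem_zpowers x)

theorem Q_le_T : Cfsg.pCore 2 L ≤ (T : Subgroup L) := Cfsg.Agent.Helper54.pCore_le_sylow T

/-- `C_L(V) ∩ T ≤ O₂(L)` -/
theorem C_inf_T_le_Q : centralizer (VZ 2 L : Set L) ⊓ (T : Subgroup L) ≤ Cfsg.pCore 2 L := by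
  haveI := h.Cn
  apply Cfsg.Agent.Helper49.le_pCore
  · constructor
    intro y hy g
    have hyC := (mem_inf.mp hy).1
    have hyT := (mem_inf.mp hy).2
    have hC : g * y * g⁻¹ ∈ centralizer (VZ 2 L : Set L) := h.Cn.conj_mem y hyC g
    obtain ⟨k, hk⟩ := (IsPGroup.iff_orderOf.mp T.2) ⟨y, hyT⟩
    have hk' : y ^ (2 ^ k) = 1 := by
      have := pow_orderOf_eq_one (⟨y, hyT⟩ : ↥(T : Subgroup L))
      rw [hk] at this
      simpa using congrArg Subtype.val this
    have h2 : (g * y * g⁻¹) ^ (2 ^ k) = 1 := by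
      rw [conj_pow, hk']; group
    exact mem_inf.mpr ⟨hC, h.mem_T_of_two hC h2⟩
  · exact T.2.to_le inf_le_right

/-- `[C_L(V), T] ≤ O₂(L)` -/
theorem comm_C_T {c t : L} (hc : c ∈ centralizer (VZ 2 L : Set L)) (ht : t ∈ (T : Subgroup L)) :
    c * t * c⁻¹ * t⁻¹ ∈ Cfsg.pCore 2 L := by
  apply h.C_inf_T_le_Q
  refine mem_inf.mpr ⟨?_, ?_⟩
  · have h1 : t * c⁻¹ * t⁻¹ ∈ centralizer (VZ 2 L : Set L) :=
      h.Cn.conj_mem _ (Subgroup.inv_mem _ hc) t
    have := Subgroup.mul_mem _ hc h1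
    convert this using 1
    group
  · have h1 : c * t * c⁻¹ ∈ (T : Subgroup L) :=
      conj_mem_of_le_normalizer h.C_le_normalizer_T hc ht
    exact Subgroup.mul_mem _ h1 (Subgroup.inv_mem _ ht)

/-- the subgroup of elements acting trivially on `C_L(V) / O₂(L)` -/
def Mker (L : Type*) [Group L] : Subgroup L where
  carrier := {y | ∀ c ∈ centralizer (VZ 2 L : Set L), y * c * y⁻¹ * c⁻¹ ∈ Cfsg.pCore 2 L}
  mul_mem' := by
    intro x y hx hy c hc
    haveI : (Cfsg.pCore 2 L).Normal := Cfsg.Agent.Helper49.pCore_normal' 2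
    have h1 := hy c hc
    have h2 := hx c hc
    have h3 : x * (y * c * y⁻¹ * c⁻¹) * x⁻¹ ∈ Cfsg.pCore 2 L :=
      ‹(Cfsg.pCore 2 L).Normal›.conj_mem _ h1 x
    have := Subgroup.mul_mem _ h3 h2
    convert this using 1
    group
  one_mem' := by
    intro c _
    simp
  inv_mem' := by
    intro x hx c hc
    haveI : (Cfsg.pCore 2 L).Normal := Cfsg.Agent.Helper49.pCore_normal' 2
    have h1 := hx c hc
    have h2 : x⁻¹ * (x * c * x⁻¹ * c⁻¹)⁻¹ * x⁻¹⁻¹ ∈ Cfsg.pCore 2 L :=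
      ‹(Cfsg.pCore 2 L).Normal›.conj_mem _ (Subgroup.inv_mem _ h1) x⁻¹
    convert h2 using 1
    group

omit h in
theorem mem_Mker {y : L} : y ∈ Mker L ↔
    ∀ c ∈ centralizer (VZ 2 L : Set L), y * c * y⁻¹ * c⁻¹ ∈ Cfsg.pCore 2 L := Iff.rfl

theorem Mker_normal : (Mker L).Normal := by
  haveI := h.Cn
  haveI := h.Qn
  constructor
  intro y hy g c hc
  -- g y g⁻¹ c (g y g⁻¹)⁻¹ c⁻¹ = g (y c' y⁻¹ c'⁻¹) g⁻¹ with c' = g⁻¹ c g
  have hc' : g⁻¹ * c * g⁻¹⁻¹ ∈ centralizer (VZ 2 L : Set L) := h.Cn.conj_mem c hc g⁻¹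
  have h1 := hy _ hc'
  have h2 := h.Qn.conj_mem _ h1 g
  convert h2 using 1
  group

theorem T_le_Mker : (T : Subgroup L) ≤ Mker L := by
  haveI := h.Qn
  intro t ht c hc
  have h1 := h.comm_C_T hc ht
  -- t c t⁻¹ c⁻¹ = (c t c⁻¹ t⁻¹)⁻¹ conjugated
  have h2 : t * c * t⁻¹ * c⁻¹ = (c * t * c⁻¹ * t⁻¹)⁻¹ := by group
  rw [h2]
  exact Subgroup.inv_mem _ h1

section comp

variable {Hh N J K : Subgroup L} (F : FFData Hh N) (hJT : J ≤ (T : Subgroup L))
  (hTJ : (T : Subgroup L) ≤ normalizer (J : Set L)) (hJth : J ≤ Cfsg.thompsonSubgroup 2 L)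
  (hKgen : closure {g : L | g ∈ K ∧ Odd (orderOf g)} = K) (hKJ : ⁅K, J⁆ = K)
include F hJT hTJ hJth hKgen hKJ

theorem K_le_Mker : K ≤ Mker L := by
  haveI := h.Mker_normal
  rw [← hKJ]
  exact (Subgroup.commutator_mono le_top (hJT.trans h.T_le_Mker)).trans
    (Subgroup.commutator_le_right _ _)

theorem K_le_Hh : K ≤ Hh := by
  haveI := F.hn
  rw [← hKJ]
  exact (Subgroup.commutator_mono le_top (hJth.trans F.thom)).trans
    (Subgroup.commutator_le_right _ _)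

theorem K_le_N : K ≤ N := by
  have hKH := h.K_le_Hh F hJT hTJ hJth hKgen hKJ
  rw [← hKgen, closure_le]
  rintro g ⟨hgK, hodd⟩
  exact F.odd g (hKH hgK) hodd

theorem JnK : J ≤ normalizer (K : Set L) := by
  have := normalizer_commutator_ge_right K J
  rwa [hKJ] at this

/-- `2`-elements of `K` lie in `O₂(L)` -/
theorem two_elt_K_mem_Q {x : L} (hx : x ∈ K) {k : ℕ} (hk : x ^ (2 ^ k) = 1) :
    x ∈ Cfsg.pCore 2 L := by
  have hxN := h.K_le_N F hJT hTJ hJth hKgen hKJ hx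
  have hxC := F.two x hxN k hk
  exact h.C_inf_T_le_Q (mem_inf.mpr ⟨hxC, h.mem_T_of_two hxC hk⟩)

/-- `O₂(L)` normalizes `K` -/
theorem Q_le_normalizer_K : Cfsg.pCore 2 L ≤ normalizer (K : Set L) := by
  haveI := h.Qn
  haveI := h.solv
  have hJK := h.JnK F hJT hTJ hJth hKgen hKJ
  set Q := Cfsg.pCore 2 L with hQ
  set N₁ := Q ⊓ normalizer (K : Set L) with hN₁
  by_contra hcon
  have hlt : N₁ < Q := by
    refine lt_of_le_of_ne inf_le_left ?_
    intro heq
    apply hcon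
    rw [← heq]
    exact inf_le_right
  obtain ⟨n, hnQ, hnN, hnot⟩ :=
    Cfsg.Agent.Helper49.exists_mem_normalizer_not_mem Q N₁ h.Q2 hlt
  set N₂ := Q ⊓ normalizer (N₁ : Set L) with hN₂
  have hnN₂ : n ∈ N₂ := mem_inf.mpr ⟨hnQ, hnN⟩
  -- `K` and `J` normalize `N₁` and `N₂`
  have hnorm1 : ∀ x ∈ normalizer (K : Set L), x ∈ normalizer (N₁ : Set L) := by
    intro x hx
    have key : ∀ x ∈ normalizer (K : Set L), ∀ y ∈ N₁, x * y * x⁻¹ ∈ N₁ := by
      intro x hx y hy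
      refine mem_inf.mpr ⟨h.Qn.conj_mem y (mem_inf.mp hy).1 x, ?_⟩
      exact Subgroup.mul_mem _ (Subgroup.mul_mem _ hx (mem_inf.mp hy).2) (Subgroup.inv_mem _ hx)
    exact le_normalizer_of_conj_mem key hx
  have hnorm2 : ∀ x ∈ normalizer (K : Set L), x ∈ normalizer (N₂ : Set L) := by
    intro x hx
    have key : ∀ x ∈ normalizer (K : Set L), ∀ y ∈ N₂, x * y * x⁻¹ ∈ N₂ := by
      intro x hx y hy
      refine mem_inf.mpr ⟨h.Qn.conj_mem y (mem_inf.mp hy).1 x, ?_⟩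
      have hx1 := hnorm1 x hx
      exact Subgroup.mul_mem _ (Subgroup.mul_mem _ hx1 (mem_inf.mp hy).2) (Subgroup.inv_mem _ hx1)
    exact le_normalizer_of_conj_mem key hx
  -- the kernel of the action on `N₂/N₁`
  let Ker : Subgroup L :=
    { carrier := {x | x ∈ normalizer (K : Set L) ∧ ∀ y ∈ N₂, x * y * x⁻¹ * y⁻¹ ∈ N₁}
      mul_mem' := by
        rintro x z ⟨hx, hx'⟩ ⟨hz, hz'⟩
        refine ⟨Subgroup.mul_mem _ hx hz, ?_⟩
        intro y hy
        have h1 := hz' y hy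
        have h2 := hx' y hy
        have h3 : x * (z * y * z⁻¹ * y⁻¹) * x⁻¹ ∈ N₁ :=
          conj_mem_of_le_normalizer (le_refl _) (hnorm1 x hx) h1
        have := Subgroup.mul_mem _ h3 h2
        convert this using 1
        group
      one_mem' := ⟨Subgroup.one_mem _, by intro y _; simp⟩
      inv_mem' := by
        rintro x ⟨hx, hx'⟩
        refine ⟨Subgroup.inv_mem _ hx, ?_⟩
        intro y hy
        have h1 := hx' y hy
        have h3 : x⁻¹ * (x * y * x⁻¹ * y⁻¹)⁻¹ * x⁻¹⁻¹ ∈ N₁ :=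
          conj_mem_of_le_normalizer (le_refl _) (hnorm1 x⁻¹ (Subgroup.inv_mem _ hx))
            (Subgroup.inv_mem _ h1)
        convert h3 using 1
        group }
  have hJKer : J ≤ Ker := by
    intro a ha
    refine ⟨hJK ha, ?_⟩
    intro y hy
    have hyQ : y ∈ Q := (mem_inf.mp hy).1
    have hyT : y ∈ (T : Subgroup L) := h.Q_le_T hyQ
    -- a y a⁻¹ y⁻¹ ∈ Q ∩ J
    have h1 : a * y * a⁻¹ * y⁻¹ ∈ Q :=
      Subgroup.mul_mem _ (h.Qn.conj_mem y hyQ a) (Subgroup.inv_mem _ hyQ)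
    have h2 : a * y * a⁻¹ * y⁻¹ ∈ J := by
      have h3 : y * a⁻¹ * y⁻¹ ∈ J :=
        conj_mem_of_le_normalizer hTJ hyT (Subgroup.inv_mem _ ha)
      have := Subgroup.mul_mem _ ha h3
      convert this using 1
      group
    exact mem_inf.mpr ⟨h1, hJK h2⟩
  have hKKer : K ≤ Ker := by
    rw [← hKJ, Subgroup.commutator_le]
    intro k hk a ha
    have hkn : k ∈ normalizer (K : Set L) := le_normalizer hk
    -- k a k⁻¹ ∈ Ker
    have hconj : k * a * k⁻¹ ∈ Ker := by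
      obtain ⟨ha1, ha2⟩ := hJKer ha
      refine ⟨Subgroup.mul_mem _ (Subgroup.mul_mem _ hkn ha1) (Subgroup.inv_mem _ hkn), ?_⟩
      intro y hy
      have hy' : k⁻¹ * y * k⁻¹⁻¹ ∈ N₂ :=
        conj_mem_of_le_normalizer (le_refl _) (hnorm2 k⁻¹ (Subgroup.inv_mem _ hkn)) hy
      have h1 := ha2 _ hy'
      have h2 : k * (a * (k⁻¹ * y * k⁻¹⁻¹) * a⁻¹ * (k⁻¹ * y * k⁻¹⁻¹)⁻¹) * k⁻¹ ∈ N₁ :=
        conj_mem_of_le_normalizer (le_refl _) (hnorm1 k hkn) h1
      convert h2 using 1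
      group
    rw [commutatorElement_def]
    have := Ker.mul_mem hconj (Ker.inv_mem (hJKer ha))
    convert this using 1
  -- coprime action
  have hN₂2 : IsPGroup 2 N₂ := h.Q2.to_le inf_le_left
  have hcommN₁K : ∀ y ∈ N₁, ∀ k ∈ K, y * k * y⁻¹ * k⁻¹ ∈ K := by
    intro y hy k hk
    have := conj_mem_of_le_normalizer (le_refl _) (mem_inf.mp hy).2 hk
    exact K.mul_mem this (K.inv_mem hk)
  have hodd : ∀ d ∈ K, Odd (orderOf d) → n * d * n⁻¹ ∈ K := by
    intro d hd hdodd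
    set D := zpowers d with hD
    have hDK : D ≤ K := Subgroup.zpowers_le.mpr hd
    have hDn : D ≤ normalizer (N₂ : Set L) := fun x hx => hnorm2 x (le_normalizer (hDK hx))
    have hcop : (Nat.card D).Coprime (Nat.card N₂) := by
      obtain ⟨m, hm⟩ := IsPGroup.iff_card.mp hN₂2
      rw [hm, Nat.card_zpowers]
      exact Nat.Coprime.pow_right m hdodd.coprime_two_right
    have hsolvN : Group.IsSolvable N₂ := inferInstance
    have heq := Cfsg.Agent.Helper24.commutator_commutator_eq N₂ D hDn hcop hsolvN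
    -- `[N₂, D] ≤ N₁`
    have h1 : ⁅N₂, D⁆ ≤ N₁ := by
      rw [Subgroup.commutator_le]
      intro y hy x hx
      have := (hKKer (hDK hx)).2 y hy
      -- ⁅y, x⁆ = y x y⁻¹ x⁻¹ = (x y x⁻¹ y⁻¹)⁻¹
      have h2 : ⁅y, x⁆ = (x * y * x⁻¹ * y⁻¹)⁻¹ := by
        rw [commutatorElement_def]; group
      rw [h2]
      exact Subgroup.inv_mem _ this
    have h2 : ⁅N₁, D⁆ ≤ K := by
      rw [Subgroup.commutator_le]
      intro y hy x hx
      rw [commutatorElement_def]
      exact hcommN₁K y hy x (hDK hx)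
    have h3 : ⁅N₂, D⁆ ≤ K := by
      rw [← heq]
      exact (Subgroup.commutator_mono h1 le_rfl).trans h2
    have h4 : ⁅n, d⁆ ∈ K := h3 (Subgroup.commutator_mem_commutator hnN₂ (mem_zpowers d))
    rw [commutatorElement_def] at h4
    have := K.mul_mem h4 hd
    convert this using 1
    group
  -- so `n` normalizes `K`
  have hnK : n ∈ normalizer (K : Set L) := by
    apply Cfsg.Agent.Helper49.mem_normalizer_of_conj_le
    intro y hy
    rw [← hKgen] at hy
    refine Subgroup.closure_induction (p := fun y _ => n * y * n⁻¹ ∈ K) ?_ ?_ ?_ ?_ hy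
    · rintro d ⟨hd, hdodd⟩
      exact hodd d hd hdodd
    · simp
    · intro x y _ _ hx hy
      have : n * (x * y) * n⁻¹ = (n * x * n⁻¹) * (n * y * n⁻¹) := by group
      rw [this]; exact K.mul_mem hx hy
    · intro x _ hx
      have : n * x⁻¹ * n⁻¹ = (n * x * n⁻¹)⁻¹ := by group
      rw [this]; exact K.inv_mem hx
  exact hnot (mem_inf.mpr ⟨hnQ, hnK⟩)

/-- **`K` is subnormal in `L`.** -/
theorem subnormal : K.IsSubnormal := by
  haveI := h.Qn
  haveI := h.Cn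
  haveI := F.hn
  have hKN := h.K_le_N F hJT hTJ hJth hKgen hKJ
  have hKM := h.K_le_Mker F hJT hTJ hJth hKgen hKJ
  have hQK := h.Q_le_normalizer_K F hJT hTJ hJth hKgen hKJ
  set Q := Cfsg.pCore 2 L with hQ
  set C := centralizer (VZ 2 L : Set L) with hC
  have hQC : Q ≤ C := by
    have h1 : VZ 2 L ≤ Cfsg.Agent.Helper1.FF.omegaZp 2 (Cfsg.pCore 2 L) :=
      Cfsg.Agent.Helper1.FF.VZ_le_omegaZp h.psolv h.pprime
    intro q hq
    rw [hC, mem_centralizer_iff]
    intro v hv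
    exact (h1 hv).2.1 q hq
  -- the chain `K ≤ K ⊔ Q ≤ K ⊔ C ≤ N ≤ Hh ≤ ⊤`
  have hHh : Hh.IsSubnormal := F.hn.isSubnormal
  have hN : N.IsSubnormal :=
    Subgroup.IsSubnormal.step N Hh F.NH hHh
      ((Subgroup.normal_subgroupOf_iff_le_normalizer F.NH).mpr F.HnN)
  have hKC_le : K ⊔ C ≤ N := sup_le hKN F.CN
  have hKC : (K ⊔ C).IsSubnormal := by
    refine Subgroup.IsSubnormal.step _ N hKC_le hN ?_
    rw [Subgroup.normal_subgroupOf_iff_le_normalizer hKC_le]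
    apply le_normalizer_of_conj_mem
    intro x hx y hy
    -- x y x⁻¹ = ⁅x, y⁆ * y
    have h1 : ⁅x, y⁆ ∈ C := F.comm (Subgroup.commutator_mem_commutator hx (hKC_le hy))
    have h2 : x * y * x⁻¹ = ⁅x, y⁆ * y := by rw [commutatorElement_def]; group
    rw [h2]
    exact Subgroup.mul_mem _ (mem_sup_right h1) hy
  have hKQ_le : K ⊔ Q ≤ K ⊔ C := sup_le_sup_left hQC K
  have hKQ : (K ⊔ Q).IsSubnormal := by
    refine Subgroup.IsSubnormal.step _ (K ⊔ C) hKQ_le hKC ?_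
    rw [Subgroup.normal_subgroupOf_iff_le_normalizer hKQ_le]
    rw [sup_le_iff]
    constructor
    · -- K normalizes K ⊔ Q
      apply le_normalizer_of_conj_mem
      intro x hx y hy
      have hxn : x ∈ normalizer ((K ⊔ Q : Subgroup L) : Set L) := by
        have h1 : K ≤ normalizer ((K ⊔ Q : Subgroup L) : Set L) := by
          apply le_normalizer_of_conj_mem
          intro x hx y hy
          refine conj_sup_mem ?_ ?_ y hy
          · intro k hk
            exact mem_sup_left (K.mul_mem (K.mul_mem hx hk) (K.inv_mem hx))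
          · intro q hq
            exact mem_sup_right (h.Qn.conj_mem q hq x)
        exact h1 hx
      exact conj_mem_of_le_normalizer (le_refl _) hxn hy
    · -- C normalizes K ⊔ Q
      apply le_normalizer_of_conj_mem
      intro c hc y hy
      refine conj_sup_mem ?_ ?_ y hy
      · intro k hk
        -- c k c⁻¹ = (k c⁻¹ k⁻¹ c)⁻¹... use Mker: k c' k⁻¹ c'⁻¹ ∈ Q with c' = c⁻¹
        have h1 := hKM hk c⁻¹ (Subgroup.inv_mem _ hc)
        -- c k c⁻¹ = c (k c⁻¹ k⁻¹ c) c⁻¹ * k  -- check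
        have h2 : c * k * c⁻¹ = (c * (k * c⁻¹ * k⁻¹ * c⁻¹⁻¹) * c⁻¹) * k := by group
        rw [h2]
        exact Subgroup.mul_mem _ (mem_sup_right (h.Qn.conj_mem _ h1 c)) (mem_sup_left hk)
      · intro q hq
        exact mem_sup_right (h.Qn.conj_mem q hq c)
  refine Subgroup.IsSubnormal.step K (K ⊔ Q) le_sup_left hKQ ?_
  rw [Subgroup.normal_subgroupOf_iff_le_normalizer le_sup_left]
  exact sup_le le_normalizer hQK

end comp

end Setup

end Cfsg.Agent.Helper10.JCompSub
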