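import Mathlib
import Cfsg.Agent.Lib.Helper10.JCompSub
import Cfsg.Agent.Lib.Helper50.JComp3

/-!
# Uniqueness of `J(T)`-components with a given `W_K` (KS 12.2, abstract form)

In the situation of `JCompSub` (finite solvable `L` of characteristic `2` with Sylow
`2`-subgroup `T` such that `C_L(Ω₁(Z(T))) ≤ N_L(T)`), two `J`-components `K₁, K₂` whose
four-groups `W₁, W₂` meet nontrivially are equal.
-/

set_option autoImplicit false

namespace Cfsg.Agent.Helper10.JCompUniq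

open Subgroup
open scoped commutatorElement
open Cfsg.Agent.Helper10.JCompSub
open Cfsg.Agent.Helper1.FF (VZ)
open Cfsg.Agent.Helper50.Higman (omegaZ mem_omegaZ)
open Cfsg.Agent.Helper50.JComp (conj_mem_of_le_normalizer le_normalizer_of_conj_mem four_cases
  le_normalizer_commutator normalizer_le_normalizer_omegaZ zpowers_cases exists_mul_of_mem_sup)

variable {L : Type*} [Group L] [Finite L]

/-- the data of a `J`-component, in a form that is easy to transport -/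
structure Comp (J K P W : Subgroup L) : Prop where
  gen : closure {g : L | g ∈ K ∧ Odd (orderOf g)} = K
  comm : ⁅K, J⁆ = K
  PK : P ≤ K
  P2 : IsPGroup 2 P
  idx : P.relIndex K = 3
  KnP : K ≤ normalizer (P : Set L)
  sub2 : ∀ x ∈ K, ∀ k : ℕ, x ^ (2 ^ k) = 1 → x ∈ P
  hW : W = ⁅omegaZ P, K⁆
  W4 : Nat.card W = 4
  W2 : ∀ w ∈ W, w * w = 1
  fpf : ∀ k ∈ K, k ∉ P → ∀ w ∈ W, k * w * k⁻¹ = w → w = 1

namespace Comp

variable {J K P W : Subgroup L} (c : Comp J K P W)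
include c

theorem cube_mem {k : L} (hk : k ∈ K) : k ^ 3 ∈ P := by
  have hn : (P.subgroupOf K).Normal := (normal_subgroupOf_iff_le_normalizer c.PK).mpr c.KnP
  have h1 := Subgroup.pow_index_mem (P.subgroupOf K) ⟨k, hk⟩
  have h3 : (P.subgroupOf K).index = 3 := c.idx
  rw [h3, mem_subgroupOf] at h1
  simpa using h1

theorem K_eq {k : L} (hk : k ∈ K) (hkP : k ∉ P) : K = P ⊔ zpowers k := by
  have hRK : P ⊔ zpowers k ≤ K := sup_le c.PK (zpowers_le.mpr hk)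
  have h1 := Subgroup.relIndex_mul_relIndex P (P ⊔ zpowers k) K le_sup_left hRK
  rw [c.idx] at h1
  have h2 : P.relIndex (P ⊔ zpowers k) ≠ 1 := by
    rw [Ne, Subgroup.relIndex_eq_one]
    intro hle
    exact hkP (hle (mem_sup_right (mem_zpowers k)))
  have h3 : P.relIndex (P ⊔ zpowers k) ∣ 3 := Dvd.intro _ h1
  have h4 : P.relIndex (P ⊔ zpowers k) = 3 := by
    rcases (Nat.dvd_prime Nat.prime_three).mp h3 with h | h
    · exact absurd h h2
    · exact h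
  rw [h4] at h1
  have h5 : (P ⊔ zpowers k).relIndex K = 1 := by omega
  rw [Subgroup.relIndex_eq_one] at h5
  exact le_antisymm h5 hRK

theorem KnW : K ≤ normalizer (W : Set L) := by
  rw [c.hW]
  exact le_normalizer_commutator (c.KnP.trans (normalizer_le_normalizer_omegaZ P)) le_normalizer

theorem K_ne_P : ¬ K ≤ P := by
  intro hle
  have : P.relIndex K = 1 := Subgroup.relIndex_eq_one.mpr hle
  rw [c.idx] at this
  omega

/-- an element of odd order of `K` outside `P` -/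
theorem exists_odd : ∃ d ∈ K, Odd (orderOf d) ∧ d ∉ P := by
  by_contra hne
  push Not at hne
  apply c.K_ne_P
  rw [← c.gen, closure_le]
  rintro g ⟨hgK, hodd⟩
  exact hne g hgK hodd

/-- `W` is an irreducible `K`-module -/
theorem irreducible {X : Subgroup L} (hXW : X ≤ W) (hX1 : X ≠ ⊥)
    (hKX : K ≤ normalizer (X : Set L)) : X = W := by
  obtain ⟨d, hdK, -, hdP⟩ := c.exists_odd
  have hdvd : Nat.card X ∣ 4 := c.W4 ▸ Subgroup.card_dvd_of_le hXW
  have hne1 : Nat.card X ≠ 1 := fun h => hX1 (Subgroup.eq_bot_of_card_eq X h)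
  have hle4 : Nat.card X ≤ 4 := Nat.le_of_dvd (by norm_num) hdvd
  have hcases : Nat.card X = 2 ∨ Nat.card X = 4 := by
    have hpos : 0 < Nat.card X := Nat.card_pos
    interval_cases h : Nat.card X
    · exact absurd rfl hne1
    · left; rfl
    · exfalso; revert hdvd; decide
    · right; rfl
  rcases hcases with h2 | h4
  · exfalso
    obtain ⟨w, hw1⟩ := (Subgroup.ne_bot_iff_exists_ne_one).mp hX1
    -- alternative formulation
    obtain ⟨⟨y, hy⟩, hy1, hyu⟩ := (Nat.card_eq_two_iff' (1 : ↥X)).mp h2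
    have hconj : d * (w : L) * d⁻¹ ∈ X := conj_mem_of_le_normalizer hKX hdK w.2
    have hconj1 : (⟨d * (w : L) * d⁻¹, hconj⟩ : ↥X) ≠ 1 := by
      intro h
      apply hw1
      have h' : d * (w : L) * d⁻¹ = 1 := congrArg Subtype.val h
      have : (w : L) = 1 := by
        calc (w : L) = d⁻¹ * (d * w * d⁻¹) * d := by group
          _ = 1 := by rw [h']; group
      exact Subtype.ext this
    have e1 := hyu _ hconj1
    have e2 := hyu w hw1
    have hfix : d * (w : L) * d⁻¹ = w := by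
      have := e1.trans e2.symm
      exact congrArg Subtype.val this
    have := c.fpf d hdK hdP w (hXW w.2) hfix
    exact hw1 (Subtype.ext this)
  · exact Subgroup.eq_of_le_of_card_ge hXW (by rw [h4, c.W4])

end Comp

theorem V_props {T : Sylow 2 L} (h : Setup T) : VZ 2 L ≤ Cfsg.pCore 2 L ∧
    (∀ v ∈ VZ 2 L, ∀ q ∈ Cfsg.pCore 2 L, v * q = q * v) ∧ (∀ v ∈ VZ 2 L, v * v = 1) := by
  have h1 : VZ 2 L ≤ Cfsg.Agent.Helper1.FF.omegaZp 2 (Cfsg.pCore 2 L) :=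
    Cfsg.Agent.Helper1.FF.VZ_le_omegaZp h.psolv h.pprime
  refine ⟨fun v hv => (h1 hv).1, fun v hv q hq => (h1 hv).2.1 q hq, fun v hv => ?_⟩
  have := (h1 hv).2.2
  rwa [pow_two] at this

section single

variable {T : Sylow 2 L} (h : Setup T) {Hh N J : Subgroup L} (F : FFData Hh N)
  (hJT : J ≤ (T : Subgroup L)) (hTJ : (T : Subgroup L) ≤ normalizer (J : Set L))
  (hJth : J ≤ Cfsg.thompsonSubgroup 2 L) {K P W : Subgroup L} (c : Comp J K P W)
include h F hJT hTJ hJth c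

theorem P_le_Q : P ≤ Cfsg.pCore 2 L := by
  intro x hx
  obtain ⟨k, hk⟩ := (IsPGroup.iff_orderOf.mp c.P2) ⟨x, hx⟩
  have hk' : x ^ (2 ^ k) = 1 := by
    have := pow_orderOf_eq_one (⟨x, hx⟩ : ↥P)
    rw [hk] at this
    simpa using congrArg Subtype.val this
  exact h.two_elt_K_mem_Q F hJT hTJ hJth c.gen c.comm (c.PK hx) hk'

theorem mem_P_of_mem_Q {x : L} (hxK : x ∈ K) (hxQ : x ∈ Cfsg.pCore 2 L) : x ∈ P := by
  obtain ⟨k, hk⟩ := (IsPGroup.iff_orderOf.mp h.Q2) ⟨x, hxQ⟩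
  have hk' : x ^ (2 ^ k) = 1 := by
    have := pow_orderOf_eq_one (⟨x, hxQ⟩ : ↥(Cfsg.pCore 2 L))
    rw [hk] at this
    simpa using congrArg Subtype.val this
  exact c.sub2 x hxK k hk'

theorem P_le_C : P ≤ centralizer (VZ 2 L : Set L) := by
  intro x hx
  rw [mem_centralizer_iff]
  intro v hv
  exact (V_props h).2.1 v hv x (P_le_Q h F hJT hTJ hJth c hx)

/-- `K` does not centralize `V` -/
theorem not_le_C : ¬ K ≤ centralizer (VZ 2 L : Set L) := by
  intro hle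
  apply c.K_ne_P
  have hKQ : K ≤ Cfsg.pCore 2 L := by
    rw [← c.comm, Subgroup.commutator_le]
    intro k hk a ha
    rw [commutatorElement_def]
    exact h.comm_C_T (hle hk) (hJT ha)
  intro x hx
  exact mem_P_of_mem_Q h F hJT hTJ hJth c hx (hKQ hx)

theorem mem_C_of_mem_P_sup {d : L} (hd : d ∈ K) (hdC : d ∈ centralizer (VZ 2 L : Set L)) :
    d ∈ P := by
  by_contra hdP
  apply not_le_C h F hJT hTJ hJth c
  rw [c.K_eq hd hdP]
  exact sup_le (P_le_C h F hJT hTJ hJth c) (zpowers_le.mpr hdC)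

/-- `[V, K] ≤ W` -/
theorem comm_V_K_mem {v k : L} (hv : v ∈ VZ 2 L) (hk : k ∈ K) : ⁅v, k⁆ ∈ W := by
  haveI := h.solv
  haveI hVn : (VZ 2 L).Normal := Cfsg.Agent.Helper1.FF.VZ_normal 2
  obtain ⟨hVQ, hVc, hV2⟩ := V_props h
  have hQK := h.Q_le_normalizer_K F hJT hTJ hJth c.gen c.comm
  have hKW := c.KnW
  -- odd elements
  have hodd : ∀ d ∈ K, Odd (orderOf d) → ∀ v ∈ VZ 2 L, ⁅v, d⁆ ∈ W := by
    intro d hd hdodd v hv
    set D := zpowers d with hD
    have hDK : D ≤ K := zpowers_le.mpr hd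
    have hDn : D ≤ normalizer ((VZ 2 L : Subgroup L) : Set L) := by
      rw [Subgroup.normalizer_eq_top_iff.mpr hVn]; exact le_top
    have hV2g : IsPGroup 2 (VZ 2 L) := h.Q2.to_le hVQ
    have hcop : (Nat.card D).Coprime (Nat.card (VZ 2 L)) := by
      obtain ⟨m, hm⟩ := IsPGroup.iff_card.mp hV2g
      rw [hm, Nat.card_zpowers]
      exact Nat.Coprime.pow_right m hdodd.coprime_two_right
    have hsolvV : Group.IsSolvable (VZ 2 L) := inferInstance
    have heq := Cfsg.Agent.Helper24.commutator_commutator_eq (VZ 2 L) D hDn hcop hsolvV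
    have h1 : ⁅VZ 2 L, D⁆ ≤ omegaZ P := by
      rw [Subgroup.commutator_le]
      intro v hv x hx
      have hcV : ⁅v, x⁆ ∈ VZ 2 L := by
        rw [commutatorElement_def]
        have : x * v⁻¹ * x⁻¹ ∈ VZ 2 L := hVn.conj_mem _ (Subgroup.inv_mem _ hv) x
        have := Subgroup.mul_mem _ hv this
        convert this using 1
        group
      have hcK : ⁅v, x⁆ ∈ K := by
        rw [commutatorElement_def]
        have h1 : v * x * v⁻¹ ∈ K := conj_mem_of_le_normalizer hQK (hVQ hv) (hDK hx)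
        exact K.mul_mem h1 (K.inv_mem (hDK hx))
      rw [mem_omegaZ]
      refine ⟨mem_P_of_mem_Q h F hJT hTJ hJth c hcK (hVQ hcV), ?_, hV2 _ hcV⟩
      intro q hq
      exact (hVc _ hcV q (P_le_Q h F hJT hTJ hJth c hq)).symm
    have h2 : ⁅omegaZ P, D⁆ ≤ W := by
      rw [c.hW]
      exact Subgroup.commutator_mono le_rfl hDK
    have h3 : ⁅VZ 2 L, D⁆ ≤ W := by
      rw [← heq]
      exact (Subgroup.commutator_mono h1 le_rfl).trans h2
    exact h3 (Subgroup.commutator_mem_commutator hv (mem_zpowers d))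
  have hk' : k ∈ closure {g : L | g ∈ K ∧ Odd (orderOf g)} := by rw [c.gen]; exact hk
  refine Subgroup.closure_induction (p := fun k _ => ∀ v ∈ VZ 2 L, ⁅v, k⁆ ∈ W) ?_ ?_ ?_ ?_ hk' v hv
  · rintro d ⟨hd, hdodd⟩ v hv
    exact hodd d hd hdodd v hv
  · intro v _
    simp
  · intro x y hx hy ihx ihy v hv
    have hxK : x ∈ K := c.gen ▸ hx
    have e : ⁅v, x * y⁆ = ⁅v, x⁆ * (x * ⁅v, y⁆ * x⁻¹) := by
      simp only [commutatorElement_def]; group
    rw [e]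
    exact W.mul_mem (ihx v hv) (conj_mem_of_le_normalizer hKW hxK (ihy v hv))
  · intro x hx ihx v hv
    have hxK : x ∈ K := c.gen ▸ hx
    have e : ⁅v, x⁻¹⁆ = x⁻¹ * ⁅v, x⁆⁻¹ * x⁻¹⁻¹ := by
      simp only [commutatorElement_def]; group
    rw [e]
    exact conj_mem_of_le_normalizer hKW (K.inv_mem hxK) (W.inv_mem (ihx v hv))

/-- `W = [V, K]` -/
theorem W_eq : W = ⁅VZ 2 L, K⁆ := by
  haveI hVn : (VZ 2 L).Normal := Cfsg.Agent.Helper1.FF.VZ_normal 2
  symm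
  apply c.irreducible
  · rw [Subgroup.commutator_le]
    intro v hv k hk
    exact comm_V_K_mem h F hJT hTJ hJth c hv hk
  · intro hbot
    apply not_le_C h F hJT hTJ hJth c
    intro k hk
    rw [mem_centralizer_iff]
    intro v hv
    have : ⁅v, k⁆ ∈ (⊥ : Subgroup L) := hbot ▸ Subgroup.commutator_mem_commutator hv hk
    rw [mem_bot, commutatorElement_eq_one_iff_mul_comm] at this
    exact this
  · apply le_normalizer_commutator _ le_normalizer
    rw [Subgroup.normalizer_eq_top_iff.mpr hVn]; exact le_top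

theorem W_le_V : W ≤ VZ 2 L := by
  haveI hVn : (VZ 2 L).Normal := Cfsg.Agent.Helper1.FF.VZ_normal 2
  rw [W_eq h F hJT hTJ hJth c]
  exact Subgroup.commutator_le_left _ _

end single

section pair

variable {T : Sylow 2 L} (h : Setup T) {Hh N J : Subgroup L} (F : FFData Hh N)
  (hJT : J ≤ (T : Subgroup L)) (hTJ : (T : Subgroup L) ≤ normalizer (J : Set L))
  (hJth : J ≤ Cfsg.thompsonSubgroup 2 L) {K₁ P₁ W₁ K₂ P₂ W₂ : Subgroup L}
  (c₁ : Comp J K₁ P₁ W₁) (c₂ : Comp J K₂ P₂ W₂)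
include h F hJT hTJ hJth c₁ c₂

/-- `K₁` normalizes `W₂` -/
theorem K_normalizes_W : K₁ ≤ normalizer (W₂ : Set L) := by
  haveI hVn : (VZ 2 L).Normal := Cfsg.Agent.Helper1.FF.VZ_normal 2
  have hK₁N := h.K_le_N F hJT hTJ hJth c₁.gen c₁.comm
  have hK₂N := h.K_le_N F hJT hTJ hJth c₂.gen c₂.comm
  rw [W_eq h F hJT hTJ hJth c₂]
  apply le_normalizer_of_conj_mem
  intro k hk x hx
  rw [Subgroup.commutator_def] at hx
  refine Subgroup.closure_induction (p := fun x _ => k * x * k⁻¹ ∈ ⁅VZ 2 L, K₂⁆) ?_ ?_ ?_ ?_ hx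
  · rintro _ ⟨v, hv, k₂, hk₂, rfl⟩
    obtain ⟨v', hv'⟩ : ∃ v', v' = k * v * k⁻¹ := ⟨_, rfl⟩
    obtain ⟨c, hc⟩ : ∃ c, c = ⁅k, k₂⁆ := ⟨_, rfl⟩
    have hv'V : v' ∈ VZ 2 L := by rw [hv']; exact hVn.conj_mem v hv k
    have hcC : c ∈ centralizer (VZ 2 L : Set L) := by
      rw [hc]
      exact F.comm (Subgroup.commutator_mem_commutator (hK₁N hk) (hK₂N hk₂))
    have e1 : k * ⁅v, k₂⁆ * k⁻¹ = ⁅v', c * k₂⁆ := by
      rw [hv', hc]
      simp only [commutatorElement_def]; group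
    have e2 : ⁅v', c * k₂⁆ = ⁅v', c⁆ * (c * ⁅v', k₂⁆ * c⁻¹) := by
      simp only [commutatorElement_def]; group
    have e3 : ⁅v', c⁆ = 1 := by
      rw [commutatorElement_eq_one_iff_mul_comm]
      exact mem_centralizer_iff.mp hcC v' hv'V
    have hwV : ⁅v', k₂⁆ ∈ VZ 2 L := by
      have : ⁅VZ 2 L, K₂⁆ ≤ VZ 2 L := Subgroup.commutator_le_left _ _
      exact this (Subgroup.commutator_mem_commutator hv'V hk₂)
    have e4 : c * ⁅v', k₂⁆ * c⁻¹ = ⁅v', k₂⁆ := by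
      have := mem_centralizer_iff.mp hcC _ hwV
      rw [← this]; group
    rw [e1, e2, e3, e4, one_mul]
    exact Subgroup.commutator_mem_commutator hv'V hk₂
  · simp
  · intro x y _ _ hx hy
    have : k * (x * y) * k⁻¹ = (k * x * k⁻¹) * (k * y * k⁻¹) := by group
    rw [this]; exact Subgroup.mul_mem _ hx hy
  · intro x _ hx
    have : k * x⁻¹ * k⁻¹ = (k * x * k⁻¹)⁻¹ := by group
    rw [this]; exact Subgroup.inv_mem _ hx

end pair

section pair2

variable {T : Sylow 2 L} (h : Setup T) {Hh N J : Subgroup L} (F : FFData Hh N)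
  (hJT : J ≤ (T : Subgroup L)) (hTJ : (T : Subgroup L) ≤ normalizer (J : Set L))
  (hJth : J ≤ Cfsg.thompsonSubgroup 2 L) {K₁ P₁ W₁ K₂ P₂ W₂ : Subgroup L}
  (c₁ : Comp J K₁ P₁ W₁) (c₂ : Comp J K₂ P₂ W₂)
include h F hJT hTJ hJth c₁ c₂

theorem W_eq_W (hW : W₁ ⊓ W₂ ≠ ⊥) : W₁ = W₂ := by
  have h1 : W₁ ⊓ W₂ = W₁ := by
    apply c₁.irreducible inf_le_left hW
    apply le_normalizer_of_conj_mem
    intro k hk x hx
    exact mem_inf.mpr ⟨conj_mem_of_le_normalizer c₁.KnW hk (mem_inf.mp hx).1,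
      conj_mem_of_le_normalizer (K_normalizes_W h F hJT hTJ hJth c₁ c₂) hk (mem_inf.mp hx).2⟩
  have h2 : W₁ ⊓ W₂ = W₂ := by
    apply c₂.irreducible inf_le_right hW
    apply le_normalizer_of_conj_mem
    intro k hk x hx
    exact mem_inf.mpr ⟨conj_mem_of_le_normalizer (K_normalizes_W h F hJT hTJ hJth c₂ c₁) hk
      (mem_inf.mp hx).1, conj_mem_of_le_normalizer c₂.KnW hk (mem_inf.mp hx).2⟩
  rw [← h1]
  exact h2

/-- `K₁ ≤ K₂ C_L(V)` when the four-groups meet -/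
theorem le_sup_C (hW : W₁ ⊓ W₂ ≠ ⊥) : K₁ ≤ K₂ ⊔ centralizer (VZ 2 L : Set L) := by
  haveI hVn : (VZ 2 L).Normal := Cfsg.Agent.Helper1.FF.VZ_normal 2
  have hK₁N := h.K_le_N F hJT hTJ hJth c₁.gen c₁.comm
  have hK₂N := h.K_le_N F hJT hTJ hJth c₂.gen c₂.comm
  have hWW := W_eq_W h F hJT hTJ hJth c₁ c₂ hW
  subst hWW
  have hWV := W_le_V h F hJT hTJ hJth c₁
  obtain ⟨d₁, hd₁K, -, hd₁P⟩ := c₁.exists_odd
  obtain ⟨d₂, hd₂K, -, hd₂P⟩ := c₂.exists_odd
  have hW1 : W₁ ≠ ⊥ := by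
    intro hb
    have := c₁.W4
    rw [hb] at this
    simp at this
  obtain ⟨⟨a, haW⟩, ha1'⟩ := (Subgroup.ne_bot_iff_exists_ne_one).mp hW1
  have ha1 : a ≠ 1 := fun hh => ha1' (Subtype.ext hh)
  have ha2 : a * a = 1 := c₁.W2 a haW
  have conj_ne_one : ∀ g x : L, x ≠ 1 → g * x * g⁻¹ ≠ 1 := by
    intro g x hx hh
    apply hx
    calc x = g⁻¹ * (g * x * g⁻¹) * g := by group
      _ = 1 := by rw [hh]; group
  obtain ⟨b, hb⟩ : ∃ b, b = d₂ * a * d₂⁻¹ := ⟨_, rfl⟩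
  have hbW : b ∈ W₁ := by rw [hb]; exact conj_mem_of_le_normalizer c₂.KnW hd₂K haW
  have hba : b ≠ a := by
    intro hfix
    rw [hb] at hfix
    exact ha1 (c₂.fpf d₂ hd₂K hd₂P a haW hfix)
  have hb1 : b ≠ 1 := by rw [hb]; exact conj_ne_one _ _ ha1
  have hbz : b ∉ zpowers a := by
    intro hz
    rcases zpowers_cases ha2 hz with hh | hh
    · exact hb1 hh
    · exact hba hh
  -- an element of `K₁` moving `a` to `b`
  have hex : ∃ e ∈ K₁, e ∉ P₁ ∧ e * a * e⁻¹ = b := by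
    obtain ⟨a₁, ha₁⟩ : ∃ a₁, a₁ = d₁ * a * d₁⁻¹ := ⟨_, rfl⟩
    have ha₁W : a₁ ∈ W₁ := by rw [ha₁]; exact conj_mem_of_le_normalizer c₁.KnW hd₁K haW
    have ha₁a : a₁ ≠ a := by
      intro hfix
      rw [ha₁] at hfix
      exact ha1 (c₁.fpf d₁ hd₁K hd₁P a haW hfix)
    have ha₁1 : a₁ ≠ 1 := by rw [ha₁]; exact conj_ne_one _ _ ha1
    have ha₁z : a₁ ∉ zpowers a := by
      intro hz
      rcases zpowers_cases ha2 hz with hh | hh
      · exact ha₁1 hh
      · exact ha₁a hh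
    have hfour := four_cases c₁.W4 c₁.W2 haW ha₁W ha1 ha₁z
    have hd₁sq : d₁ * d₁ ∉ P₁ := by
      intro hsq
      apply hd₁P
      have h3 := c₁.cube_mem hd₁K
      have : d₁ = d₁ ^ 3 * (d₁ * d₁)⁻¹ := by
        rw [pow_succ, pow_two]; group
      rw [this]
      exact P₁.mul_mem h3 (P₁.inv_mem hsq)
    obtain ⟨a₂, ha₂⟩ : ∃ a₂, a₂ = d₁ * a₁ * d₁⁻¹ := ⟨_, rfl⟩
    have ha₂W : a₂ ∈ W₁ := by rw [ha₂]; exact conj_mem_of_le_normalizer c₁.KnW hd₁K ha₁W
    have ha₂eq : a₂ = a * a₁ := by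
      rcases hfour a₂ ha₂W with hh | hh | hh | hh
      · exfalso
        rw [ha₂] at hh
        exact conj_ne_one _ _ ha₁1 hh
      · exfalso
        have hfix : (d₁ * d₁) * a * (d₁ * d₁)⁻¹ = a := by
          calc (d₁ * d₁) * a * (d₁ * d₁)⁻¹ = d₁ * (d₁ * a * d₁⁻¹) * d₁⁻¹ := by group
            _ = d₁ * a₁ * d₁⁻¹ := by rw [ha₁]
            _ = a₂ := ha₂.symm
            _ = a := hh
        exact ha1 (c₁.fpf _ (K₁.mul_mem hd₁K hd₁K) hd₁sq a haW hfix)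
      · exfalso
        rw [ha₂] at hh
        exact ha₁1 (c₁.fpf d₁ hd₁K hd₁P a₁ ha₁W hh)
      · exact hh
    rcases hfour b hbW with hh | hh | hh | hh
    · exact absurd hh hb1
    · exact absurd hh hba
    · exact ⟨d₁, hd₁K, hd₁P, by rw [hh, ha₁]⟩
    · refine ⟨d₁ * d₁, K₁.mul_mem hd₁K hd₁K, hd₁sq, ?_⟩
      calc (d₁ * d₁) * a * (d₁ * d₁)⁻¹ = d₁ * (d₁ * a * d₁⁻¹) * d₁⁻¹ := by group
        _ = d₁ * a₁ * d₁⁻¹ := by rw [ha₁]
        _ = a₂ := ha₂.symm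
        _ = a * a₁ := ha₂eq
        _ = b := hh.symm
  obtain ⟨e, heK, heP, hea⟩ := hex
  obtain ⟨y, hy⟩ : ∃ y, y = d₂⁻¹ * e := ⟨_, rfl⟩
  have hyN : y ∈ N := by
    rw [hy]; exact N.mul_mem (N.inv_mem (hK₂N hd₂K)) (hK₁N heK)
  have hya : y * a * y⁻¹ = a := by
    calc y * a * y⁻¹ = d₂⁻¹ * (e * a * e⁻¹) * d₂ := by rw [hy]; group
      _ = a := by rw [hea, hb]; group
  have haV : a ∈ VZ 2 L := hWV haW
  have hyb : y * b * y⁻¹ = b := by
    obtain ⟨c, hc⟩ : ∃ c, c = ⁅y⁻¹, d₂⁻¹⁆ := ⟨_, rfl⟩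
    have hcC : c ∈ centralizer (VZ 2 L : Set L) := by
      rw [hc]
      exact F.comm (Subgroup.commutator_mem_commutator (N.inv_mem hyN)
        (N.inv_mem (hK₂N hd₂K)))
    have hca : c * a * c⁻¹ = a := by
      have := mem_centralizer_iff.mp hcC a haV
      rw [← this]; group
    calc y * b * y⁻¹ = d₂ * (y * (c * a * c⁻¹) * y⁻¹) * d₂⁻¹ := by
          rw [hb, hc, commutatorElement_def]; group
      _ = d₂ * (y * a * y⁻¹) * d₂⁻¹ := by rw [hca]
      _ = b := by rw [hya, hb]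
  have hyW : ∀ w ∈ W₁, y * w * y⁻¹ = w := by
    intro w hw
    rcases four_cases c₁.W4 c₁.W2 haW hbW ha1 hbz w hw with hh | hh | hh | hh
    · rw [hh]; group
    · rw [hh]; exact hya
    · rw [hh]; exact hyb
    · rw [hh]
      calc y * (a * b) * y⁻¹ = (y * a * y⁻¹) * (y * b * y⁻¹) := by group
        _ = a * b := by rw [hya, hyb]
  have hyV : ∀ v ∈ VZ 2 L, y * v * y⁻¹ * v⁻¹ ∈ W₁ := by
    intro v hv
    have h1 : ⁅v, e⁆ ∈ W₁ := comm_V_K_mem h F hJT hTJ hJth c₁ hv heK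
    have h2 : ⁅v, d₂⁻¹⁆ ∈ W₁ := comm_V_K_mem h F hJT hTJ hJth c₂ hv (K₂.inv_mem hd₂K)
    have h3 : d₂⁻¹ * ⁅v, e⁆⁻¹ * d₂⁻¹⁻¹ ∈ W₁ :=
      conj_mem_of_le_normalizer c₂.KnW (K₂.inv_mem hd₂K) (W₁.inv_mem h1)
    have := W₁.mul_mem h3 (W₁.inv_mem h2)
    convert this using 1
    rw [hy]
    simp only [commutatorElement_def]; group
  have hyC : y ∈ centralizer (VZ 2 L : Set L) := by
    rw [mem_centralizer_iff]
    intro v hv
    obtain ⟨w, hw⟩ : ∃ w, w = y * v * y⁻¹ * v⁻¹ := ⟨_, rfl⟩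
    have hwW : w ∈ W₁ := by rw [hw]; exact hyV v hv
    have hwfix := hyW w hwW
    have hw2 := c₁.W2 w hwW
    have e1 : y * v * y⁻¹ = w * v := by rw [hw]; group
    have hy2 : (y * y) * v * (y * y)⁻¹ = v := by
      calc (y * y) * v * (y * y)⁻¹ = y * (y * v * y⁻¹) * y⁻¹ := by group
        _ = y * (w * v) * y⁻¹ := by rw [e1]
        _ = (y * w * y⁻¹) * (y * v * y⁻¹) := by group
        _ = w * (w * v) := by rw [hwfix, e1]
        _ = v := by rw [← mul_assoc, hw2, one_mul]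
    have hy3 := mem_centralizer_iff.mp (F.cube y hyN) v hv
    -- v * y^3 = y^3 * v
    have e2 : y = y ^ 3 * (y * y)⁻¹ := by rw [pow_succ, pow_two]; group
    have hy2' : (y * y)⁻¹ * v = v * (y * y)⁻¹ := by
      calc (y * y)⁻¹ * v = (y * y)⁻¹ * ((y * y) * v * (y * y)⁻¹) := by rw [hy2]
        _ = v * (y * y)⁻¹ := by group
    calc v * y = v * (y ^ 3 * (y * y)⁻¹) := by rw [← e2]
      _ = (v * y ^ 3) * (y * y)⁻¹ := by group
      _ = (y ^ 3 * v) * (y * y)⁻¹ := by rw [hy3]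
      _ = y ^ 3 * (v * (y * y)⁻¹) := by group
      _ = y ^ 3 * ((y * y)⁻¹ * v) := by rw [hy2']
      _ = (y ^ 3 * (y * y)⁻¹) * v := by group
      _ = y * v := by rw [← e2]
  rw [c₁.K_eq heK heP]
  apply sup_le
  · exact (P_le_C h F hJT hTJ hJth c₁).trans le_sup_right
  · rw [zpowers_le]
    have : e = d₂ * y := by rw [hy]; group
    rw [this]
    exact Subgroup.mul_mem _ (mem_sup_left hd₂K) (mem_sup_right hyC)

/-- `K₁ ≤ K₂ O₂(L)` -/
theorem le_sup_Q (hC : K₁ ≤ K₂ ⊔ centralizer (VZ 2 L : Set L)) :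
    K₁ ≤ K₂ ⊔ Cfsg.pCore 2 L := by
  haveI := h.Cn
  have hJK₂ := h.JnK F hJT hTJ hJth c₂.gen c₂.comm
  rw [← c₁.comm, Subgroup.commutator_le]
  intro k hk t ht
  have hk' := hC hk
  -- k = k₂ * c
  obtain ⟨k₂, hk₂, c, hc, rfl⟩ : ∃ k₂ ∈ K₂, ∃ c ∈ centralizer (VZ 2 L : Set L), k = k₂ * c := by
    have hKn : K₂ ≤ normalizer ((centralizer (VZ 2 L : Set L) : Subgroup L) : Set L) := by
      rw [Subgroup.normalizer_eq_top_iff.mpr h.Cn]; exact le_top
    rw [sup_comm] at hk'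
    obtain ⟨c, hc, k₂, hk₂, hkk⟩ := exists_mul_of_mem_sup hKn hk'
    -- k = c * k₂ = k₂ * (k₂⁻¹ c k₂)
    refine ⟨k₂, hk₂, k₂⁻¹ * c * k₂⁻¹⁻¹, h.Cn.conj_mem c hc k₂⁻¹, ?_⟩
    rw [hkk]; group
  have hq : c * t * c⁻¹ * t⁻¹ ∈ Cfsg.pCore 2 L := h.comm_C_T hc (hJT ht)
  have hk₂t : t * k₂⁻¹ * t⁻¹ ∈ K₂ := conj_mem_of_le_normalizer hJK₂ ht (K₂.inv_mem hk₂)
  have e : ⁅k₂ * c, t⁆ = k₂ * (c * t * c⁻¹ * t⁻¹) * (t * k₂⁻¹ * t⁻¹) := by
    rw [commutatorElement_def]; group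
  rw [e]
  exact Subgroup.mul_mem _ (Subgroup.mul_mem _ (mem_sup_left hk₂) (mem_sup_right hq))
    (mem_sup_left hk₂t)

/-- `K₁ ≤ K₂` -/
theorem le_of_le_sup_Q (hQ : K₁ ≤ K₂ ⊔ Cfsg.pCore 2 L) : K₁ ≤ K₂ := by
  have hQK₂ := h.Q_le_normalizer_K F hJT hTJ hJth c₂.gen c₂.comm
  rw [← c₁.gen, closure_le]
  rintro x ⟨hxK, hodd⟩
  obtain ⟨k, hk, q, hq, rfl⟩ := exists_mul_of_mem_sup hQK₂ (hQ hxK)
  -- powers
  have hpow : ∀ n : ℕ, ∃ k' ∈ K₂, (k * q) ^ n = k' * q ^ n := by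
    intro n
    induction n with
    | zero => exact ⟨1, K₂.one_mem, by simp⟩
    | succ n ih =>
      obtain ⟨k', hk', he⟩ := ih
      refine ⟨k' * (q ^ n * k * (q ^ n)⁻¹), K₂.mul_mem hk'
        (conj_mem_of_le_normalizer hQK₂ (Subgroup.pow_mem _ hq n) hk), ?_⟩
      rw [pow_succ, he, pow_succ]; group
  obtain ⟨m, hm⟩ := IsPGroup.iff_card.mp h.Q2
  have hqm : q ^ (2 ^ m) = 1 := by
    have := pow_card_eq_one' (G := ↥(Cfsg.pCore 2 L)) (x := ⟨q, hq⟩)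
    rw [hm] at this
    simpa using congrArg Subtype.val this
  obtain ⟨k', hk', he⟩ := hpow (2 ^ m)
  rw [hqm, mul_one] at he
  have hcop : Nat.Coprime (2 ^ m) (orderOf (k * q)) :=
    (Nat.Coprime.pow_right m hodd.coprime_two_right).symm
  obtain ⟨j, hj⟩ := exists_pow_eq_self_of_coprime hcop
  rw [← hj, he]
  exact K₂.pow_mem hk' j

end pair2

section final

variable {T : Sylow 2 L} (h : Setup T) {Hh N J : Subgroup L} (F : FFData Hh N)
  (hJT : J ≤ (T : Subgroup L)) (hTJ : (T : Subgroup L) ≤ normalizer (J : Set L))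
  (hJth : J ≤ Cfsg.thompsonSubgroup 2 L) {K₁ P₁ W₁ K₂ P₂ W₂ : Subgroup L}
  (c₁ : Comp J K₁ P₁ W₁) (c₂ : Comp J K₂ P₂ W₂)
include h F hJT hTJ hJth c₁ c₂

/-- **Uniqueness**: two `J`-components whose four-groups meet nontrivially coincide. -/
theorem eq_of_inf_ne_bot (hW : W₁ ⊓ W₂ ≠ ⊥) : K₁ = K₂ := by
  have hW' : W₂ ⊓ W₁ ≠ ⊥ := by rwa [inf_comm]
  apply le_antisymm
  · exact le_of_le_sup_Q h F hJT hTJ hJth c₁ c₂
      (le_sup_Q h F hJT hTJ hJth c₁ c₂ (le_sup_C h F hJT hTJ hJth c₁ c₂ hW))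
  · exact le_of_le_sup_Q h F hJT hTJ hJth c₂ c₁
      (le_sup_Q h F hJT hTJ hJth c₂ c₁ (le_sup_C h F hJT hTJ hJth c₂ c₁ hW'))

end final

section conj

/-- conjugating a `J`-component by an element normalizing `J` -/
theorem Comp.conj {J K P W : Subgroup L} (c : Comp J K P W) {t : L}
    (ht : t ∈ normalizer (J : Set L)) :
    Comp J (K.map (MulAut.conj t).toMonoidHom) (P.map (MulAut.conj t).toMonoidHom)
      (W.map (MulAut.conj t).toMonoidHom) := by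
  set φ := (MulAut.conj t).toMonoidHom with hφ
  have hinj : Function.Injective φ := (MulAut.conj t).injective
  have happ : ∀ x, φ x = t * x * t⁻¹ := fun x => by simp [hφ]
  have hJ : J.map φ = J := (Subgroup.mem_normalizer_iff_map_conj_eq).mp ht
  have hord : ∀ x, orderOf (φ x) = orderOf x := fun x => orderOf_injective φ hinj x
  have hmem : ∀ (S : Subgroup L) (x : L), φ x ∈ S.map φ ↔ x ∈ S := fun S x =>
    ⟨fun ⟨y, hy, hyx⟩ => hinj hyx ▸ hy, fun hx => Subgroup.mem_map_of_mem φ hx⟩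
  refine ⟨?_, ?_, Subgroup.map_mono c.PK, c.P2.map φ, ?_, ?_, ?_, ?_, ?_, ?_, ?_⟩
  · -- gen
    conv_rhs => rw [← c.gen]
    rw [MonoidHom.map_closure]
    congr 1
    ext x
    constructor
    · rintro ⟨⟨y, hy, rfl⟩, hodd⟩
      exact ⟨y, ⟨hy, by rwa [hord] at hodd⟩, rfl⟩
    · rintro ⟨y, ⟨hy, hodd⟩, rfl⟩
      exact ⟨Subgroup.mem_map_of_mem φ hy, by rwa [hord]⟩
  · -- comm
    conv_lhs => rw [← hJ]
    rw [← Subgroup.map_commutator, c.comm]
  · -- idx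
    rw [Subgroup.relIndex_map_map_of_injective _ _ hinj]
    exact c.idx
  · -- KnP
    rintro _ ⟨k, hk, rfl⟩
    apply Cfsg.Agent.Helper49.mem_normalizer_of_conj_le
    rintro _ ⟨p, hp, rfl⟩
    have := conj_mem_of_le_normalizer c.KnP hk hp
    have e : φ k * φ p * (φ k)⁻¹ = φ (k * p * k⁻¹) := by simp
    rw [e]
    exact Subgroup.mem_map_of_mem φ this
  · -- sub2
    rintro _ ⟨x, hx, rfl⟩ k hk
    have : x ^ (2 ^ k) = 1 := by
      apply hinj
      rw [map_pow, hk, map_one]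
    exact Subgroup.mem_map_of_mem φ (c.sub2 x hx k this)
  · -- hW
    have hom : omegaZ (P.map φ) = (omegaZ P).map φ := by
      ext z
      constructor
      · rintro ⟨⟨p, hp, rfl⟩, hc, h2⟩
        refine ⟨p, ⟨hp, ?_, ?_⟩, rfl⟩
        · intro q hq
          apply hinj
          rw [map_mul, map_mul]
          exact hc _ (Subgroup.mem_map_of_mem φ hq)
        · apply hinj
          rw [map_mul, map_one]
          exact h2
      · rintro ⟨p, ⟨hp, hc, h2⟩, rfl⟩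
        refine ⟨Subgroup.mem_map_of_mem φ hp, ?_, ?_⟩
        · rintro _ ⟨q, hq, rfl⟩
          rw [← map_mul, ← map_mul, hc q hq]
        · rw [← map_mul, h2, map_one]
    rw [hom, ← Subgroup.map_commutator, ← c.hW]
  · -- W4
    rw [Subgroup.card_map_of_injective hinj]
    exact c.W4
  · -- W2
    rintro _ ⟨w, hw, rfl⟩
    rw [← map_mul, c.W2 w hw, map_one]
  · -- fpf
    rintro _ ⟨k, hk, rfl⟩ hkP _ ⟨w, hw, rfl⟩ hfix
    have hkP' : k ∉ P := fun hh => hkP (Subgroup.mem_map_of_mem φ hh)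
    have : k * w * k⁻¹ = w := by
      apply hinj
      rw [map_mul, map_mul, map_inv]
      exact hfix
    rw [c.fpf k hk hkP' w hw this, map_one]

end conj

end Cfsg.Agent.Helper10.JCompUniq
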