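import Mathlib
import Cfsg.Prelude.Def_JComponents
import Cfsg.Agent.Lib.Helper10.JCompSub
import Cfsg.Agent.Lib.Helper50.JComp1
import Cfsg.Agent.Lib.Helper23.ThompsonJ
import Cfsg.Agent.Lib.Helper49.InvSylow

/-!
# Transport of the `J(T)`-component set-up from `L ≤ G` to the group `↥L`
-/

set_option autoImplicit false

namespace Cfsg.Agent.Helper10.JCompTr

open Subgroup
open Cfsg.Agent.Helper10.JCompSub
open Cfsg.Agent.Helper50.JComp (MaxEA thompsonTwo_eq conj_mem_of_le_normalizer
  le_normalizer_of_conj_mem)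

variable {G : Type*} [Group G] [Finite G]

/-- `O₂(L) ≤ T` for `T` a Sylow 2-subgroup of `L`, and the Sylow structure on `↥L` -/
theorem exists_sylow {T L : Subgroup G} (hTL : Cfsg.IsSylowTwoIn T L) :
    ∃ TL : Sylow 2 ↥L, (TL : Subgroup ↥L) = T.subgroupOf L := by
  obtain ⟨hle, hT2, hodd⟩ := hTL
  have h2 : IsPGroup 2 ↥(T.subgroupOf L) := hT2.comap_subtype
  have hidx : ¬ 2 ∣ (T.subgroupOf L).index := by
    show ¬ 2 ∣ T.relIndex L
    rw [← even_iff_two_dvd, Nat.not_even_iff_odd]
    exact hodd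
  exact ⟨h2.toSylow hidx, IsPGroup.toSylow_coe h2 hidx⟩

theorem exists_setup (hN : ∀ N : Subgroup G, Cfsg.IsTwoLocal N → Group.IsSolvable ↥N)
    (hZ : ∀ S : Sylow 2 G, Subgroup.centralizer (Cfsg.omegaCenterOf (S : Subgroup G) : Set G) ≤
      Subgroup.normalizer ((S : Subgroup G) : Set G))
    {T L : Subgroup G} (hT1 : T ≠ ⊥) (hLT : L ∈ Cfsg.jOvergroups T) :
    ∃ TL : Sylow 2 ↥L, (TL : Subgroup ↥L) = T.subgroupOf L ∧ Setup TL := by
  obtain ⟨hSyl, -, hchar⟩ := hLT
  obtain ⟨TL, hTLeq⟩ := exists_sylow hSyl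
  obtain ⟨hle, hT2, hodd⟩ := hSyl
  refine ⟨TL, hTLeq, ?_⟩
  set O := Cfsg.pCoreOf 2 L with hO
  have hOdef : O = (Cfsg.pCore 2 ↥L).map L.subtype := rfl
  have hO2 : IsPGroup 2 O := Cfsg.Agent.Helper23.pCoreOf_isPGroup L
  have hOT : O ≤ T := by
    rw [hOdef]
    have h1 : Cfsg.pCore 2 ↥L ≤ (TL : Subgroup ↥L) := Cfsg.Agent.Helper54.pCore_le_sylow TL
    rw [hTLeq] at h1
    have := Subgroup.map_mono (f := L.subtype) h1
    rwa [Subgroup.map_subgroupOf_eq_of_le hle] at this
  have hO1 : O ≠ ⊥ := by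
    intro h0
    apply hT1
    rw [eq_bot_iff]
    intro t _
    have : t ∈ centralizer ((O : Subgroup G) : Set G) := by
      rw [h0, mem_centralizer_iff]
      intro y hy
      have hy1 : y = 1 := hy
      rw [hy1]; simp
    have := hchar this
    rwa [h0] at this
  have hLn : L ≤ normalizer (O : Set G) := Cfsg.Agent.Helper23.le_normalizer_pCoreOf L
  constructor
  · -- solvable
    haveI : Group.IsSolvable ↥(normalizer (O : Set G)) := hN _ ⟨O, hO2, hO1, rfl⟩
    exact Group.isSolvable_of_isSolvable_injective (Subgroup.inclusion_injective hLn)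
  · -- characteristic 2
    intro x hx
    have hxc : (x : G) ∈ centralizer ((O : Subgroup G) : Set G) := by
      rw [mem_centralizer_iff]
      rintro _ ⟨y, hy, rfl⟩
      have := mem_centralizer_iff.mp hx y hy
      exact congrArg Subtype.val this
    obtain ⟨y, hy, hyx⟩ := hchar hxc
    have : y = x := Subtype.ext hyx
    rwa [← this]
  · -- the Z-hypothesis
    obtain ⟨S, hTS⟩ := hT2.exists_le_sylow
    intro x hx
    have hxS : (x : G) ∈ centralizer (Cfsg.omegaCenterOf (S : Subgroup G) : Set G) := by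
      have hcl : Cfsg.omegaCenterOf (S : Subgroup G) ≤ centralizer ({(x : G)} : Set G) := by
        unfold Cfsg.omegaCenterOf Cfsg.omegaOne
        rw [closure_le]
        rintro z ⟨hz, hz2⟩
        have hzS : z ∈ (S : Subgroup G) := (mem_inf.mp hz).1
        have hzc : z ∈ centralizer ((S : Subgroup G) : Set G) := (mem_inf.mp hz).2
        -- z ∈ O
        have hzO : z ∈ O := by
          apply hchar
          rw [mem_centralizer_iff]
          intro y hy
          exact mem_centralizer_iff.mp hzc y (hTS (hOT hy))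
        have hzT : z ∈ T := hOT hzO
        have hzL : z ∈ L := hle hzT
        have hz' : (⟨z, hzL⟩ : ↥L) ∈ Cfsg.omegaCenterOf (TL : Subgroup ↥L) := by
          unfold Cfsg.omegaCenterOf Cfsg.omegaOne
          apply Subgroup.subset_closure
          refine ⟨mem_inf.mpr ⟨?_, ?_⟩, ?_⟩
          · rw [hTLeq, mem_subgroupOf]; exact hzT
          · rw [mem_centralizer_iff]
            intro y hy
            rw [SetLike.mem_coe, hTLeq, mem_subgroupOf] at hy
            apply Subtype.ext
            exact mem_centralizer_iff.mp hzc y (hTS hy)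
          · apply Subtype.ext
            simpa using hz2
        have := mem_centralizer_iff.mp hx _ hz'
        rw [SetLike.mem_coe, mem_centralizer_iff]
        intro w hw
        rw [Set.mem_singleton_iff] at hw
        rw [hw]
        exact (congrArg Subtype.val this).symm
      rw [mem_centralizer_iff]
      intro z hz
      have := mem_centralizer_iff.mp (hcl hz) (x : G) rfl
      exact this.symm
    have hxn : (x : G) ∈ normalizer ((S : Subgroup G) : Set G) := hZ S hxS
    -- `S ⊓ L` restricted to `L` is `TL`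
    have hSL : ((S : Subgroup G) ⊓ L).subgroupOf L = (TL : Subgroup ↥L) := by
      apply TL.is_maximal'
      · exact (S.2.to_le inf_le_left).comap_subtype
      · rw [hTLeq]
        intro y hy
        rw [mem_subgroupOf] at hy ⊢
        exact mem_inf.mpr ⟨hTS hy, y.2⟩
    apply Cfsg.Agent.Helper49.mem_normalizer_of_conj_le
    intro y hy
    rw [← hSL, mem_subgroupOf]
    have hyT : (y : G) ∈ T := by
      rw [hTLeq, mem_subgroupOf] at hy
      exact hy
    refine mem_inf.mpr ⟨?_, (x * y * x⁻¹).2⟩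
    have := conj_mem_of_le_normalizer (le_refl _) hxn (hTS hyT)
    simpa using this

/-- the Thompson subgroup of `T`, restricted to `L` -/
theorem thompson_props {T L : Subgroup G} (hSyl : Cfsg.IsSylowTwoIn T L) (TL : Sylow 2 ↥L)
    (hTLeq : (TL : Subgroup ↥L) = T.subgroupOf L) :
    (Cfsg.thompsonSubgroupOf 2 T).subgroupOf L ≤ (TL : Subgroup ↥L) ∧
      (TL : Subgroup ↥L) ≤ normalizer (((Cfsg.thompsonSubgroupOf 2 T).subgroupOf L : Subgroup ↥L) : Set ↥L) ∧
      (Cfsg.thompsonSubgroupOf 2 T).subgroupOf L ≤ Cfsg.thompsonSubgroup 2 ↥L := by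
  obtain ⟨hle, hT2, hodd⟩ := hSyl
  have hJT : Cfsg.thompsonSubgroupOf 2 T ≤ T := by
    unfold Cfsg.thompsonSubgroupOf; exact Subgroup.map_subtype_le _
  refine ⟨?_, ?_, ?_⟩
  · rw [hTLeq]
    intro y hy
    rw [mem_subgroupOf] at hy ⊢
    exact hJT hy
  · have hn : T ≤ normalizer ((Cfsg.thompsonSubgroupOf 2 T : Subgroup G) : Set G) :=
      le_normalizer.trans (Cfsg.Agent.Helper23.normalizer_le_normalizer_thompsonSubgroupOf 2 T)
    apply le_normalizer_of_conj_mem
    intro x hx y hy
    rw [hTLeq, mem_subgroupOf] at hx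
    rw [mem_subgroupOf] at hy ⊢
    have := conj_mem_of_le_normalizer hn hx hy
    simpa using this
  · -- a maximal elementary abelian subgroup of `↥L` inside `TL`
    obtain ⟨A₀, hA₀, hA₀T⟩ :=
      Cfsg.Agent.Helper10.exists_mem_maxElementaryAbelianSubgroups_le_sylow TL
    have hA₀G : A₀.map L.subtype ≤ T := by
      rw [hTLeq] at hA₀T
      have := Subgroup.map_mono (f := L.subtype) hA₀T
      rwa [Subgroup.map_subgroupOf_eq_of_le hle] at this
    have hA₀2 : ∀ x ∈ A₀.map L.subtype, x * x = 1 := by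
      rintro _ ⟨x, hx, rfl⟩
      have := hA₀.1.2 x hx
      rw [pow_two] at this
      exact congrArg Subtype.val this
    have hA₀c : ∀ x ∈ A₀.map L.subtype, ∀ y ∈ A₀.map L.subtype, x * y = y * x := by
      rintro _ ⟨x, hx, rfl⟩ _ ⟨y, hy, rfl⟩
      have := hA₀.1.1.is_comm.comm (⟨x, hx⟩ : ↥A₀) ⟨y, hy⟩
      have h3 : x * y = y * x := congrArg Subtype.val this
      exact congrArg Subtype.val h3
    have hsub : Cfsg.thompsonSubgroupOf 2 T ≤ (Cfsg.thompsonSubgroup 2 ↥L).map L.subtype := by
      rw [thompsonTwo_eq]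
      apply sSup_le
      rintro A ⟨hAT, hA2, hAc, hAm⟩
      have hAL : A ≤ L := hAT.trans hle
      have hmem : A.subgroupOf L ∈ Cfsg.maxElementaryAbelianSubgroups 2 ↥L := by
        refine ⟨⟨⟨⟨?_⟩⟩, ?_⟩, ?_⟩
        · intro x y
          apply Subtype.ext
          apply Subtype.ext
          exact hAc _ (mem_subgroupOf.mp x.2) _ (mem_subgroupOf.mp y.2)
        · intro x hx
          rw [pow_two]
          apply Subtype.ext
          exact hA2 _ (mem_subgroupOf.mp hx)
        · intro B hB
          have h1 := hA₀.2 B hB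
          have h2 := hAm _ hA₀G hA₀2 hA₀c
          rw [Subgroup.card_map_of_injective L.subtype_injective] at h2
          have h3 : Nat.card ↥(A.subgroupOf L) = Nat.card A :=
            Nat.card_congr (Subgroup.subgroupOfEquivOfLe hAL).toEquiv
          rw [h3]
          exact h1.trans h2
      have h4 : A.subgroupOf L ≤ Cfsg.thompsonSubgroup 2 ↥L := le_sSup hmem
      have h5 := Subgroup.map_mono (f := L.subtype) h4
      rwa [Subgroup.map_subgroupOf_eq_of_le hAL] at h5
    intro y hy
    rw [mem_subgroupOf] at hy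
    obtain ⟨z, hz, hzy⟩ := hsub hy
    have : z = y := Subtype.ext hzy
    rwa [← this]

/-- generation by elements of odd order passes to `↥L` -/
theorem closure_odd {K L : Subgroup G} (hKL : K ≤ L)
    (hK : closure {g : G | g ∈ K ∧ Odd (orderOf g)} = K) :
    closure {g : ↥L | g ∈ K.subgroupOf L ∧ Odd (orderOf g)} = K.subgroupOf L := by
  apply le_antisymm
  · rw [closure_le]
    rintro g ⟨hg, -⟩
    exact hg
  · intro k hk
    rw [mem_subgroupOf] at hk
    have key : ∀ g : G, g ∈ closure {g : G | g ∈ K ∧ Odd (orderOf g)} →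
        ∀ hg : g ∈ L, (⟨g, hg⟩ : ↥L) ∈ closure {g : ↥L | g ∈ K.subgroupOf L ∧ Odd (orderOf g)} := by
      intro g hg
      refine Subgroup.closure_induction (p := fun g _ => ∀ hg : g ∈ L,
        (⟨g, hg⟩ : ↥L) ∈ closure {g : ↥L | g ∈ K.subgroupOf L ∧ Odd (orderOf g)}) ?_ ?_ ?_ ?_ hg
      · rintro g ⟨hgK, hodd⟩ hgL
        apply Subgroup.subset_closure
        refine ⟨mem_subgroupOf.mpr hgK, ?_⟩
        rwa [← Subgroup.orderOf_coe] 
      · intro _
        exact Subgroup.one_mem _
      · intro x y hx hy ihx ihy hxy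
        have hxK : x ∈ K := hK ▸ hx
        have hyK : y ∈ K := hK ▸ hy
        have := Subgroup.mul_mem _ (ihx (hKL hxK)) (ihy (hKL hyK))
        exact this
      · intro x hx ihx hxL
        have hxK : x ∈ K := hK ▸ hx
        have := Subgroup.inv_mem _ (ihx (hKL hxK))
        exact this
    have hk' : (k : G) ∈ closure {g : G | g ∈ K ∧ Odd (orderOf g)} := by rw [hK]; exact hk
    have := key (k : G) hk' k.2
    exact this

theorem commutator_subgroupOf {K J L : Subgroup G} (hKL : K ≤ L) (hJL : J ≤ L)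
    (hKJ : ⁅K, J⁆ = K) : ⁅K.subgroupOf L, J.subgroupOf L⁆ = K.subgroupOf L := by
  apply Subgroup.map_injective L.subtype_injective
  rw [Subgroup.map_commutator, Subgroup.map_subgroupOf_eq_of_le hKL,
    Subgroup.map_subgroupOf_eq_of_le hJL, hKJ]

end Cfsg.Agent.Helper10.JCompTr
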