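import Mathlib
import Cfsg.Agent.Lib.Helper10.JCompTr
import Cfsg.Agent.Lib.Helper10.JCompUniq
import Cfsg.Agent.Lib.Helper50.JComp6

/-!
# Transport of `J(T)`-components of `G` inside `L` to the group `↥L`
-/

set_option autoImplicit false

namespace Cfsg.Agent.Helper10.JCompTr

open Subgroup
open Cfsg.Agent.Helper10.JCompUniq
open Cfsg.Agent.Helper50.Higman (omegaZ mem_omegaZ)
open Cfsg.Agent.Helper50.JComp (conj_mem_of_le_normalizer le_normalizer_of_conj_mem JD
  omegaCenterOf_eq)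

variable {G : Type*} [Group G] [Finite G]

omit [Finite G] in
theorem omegaZ_subgroupOf {P L : Subgroup G} (hPL : P ≤ L) :
    omegaZ (P.subgroupOf L) = (omegaZ P).subgroupOf L := by
  ext z
  rw [mem_omegaZ, mem_subgroupOf, mem_subgroupOf, mem_omegaZ]
  constructor
  · rintro ⟨h1, h2, h3⟩
    refine ⟨h1, ?_, congrArg Subtype.val h3⟩
    intro q hq
    exact congrArg Subtype.val (h2 ⟨q, hPL hq⟩ (mem_subgroupOf.mpr hq))
  · rintro ⟨h1, h2, h3⟩
    refine ⟨h1, ?_, Subtype.ext h3⟩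
    intro q hq
    exact Subtype.ext (h2 q (mem_subgroupOf.mp hq))

omit [Finite G] in
theorem commutator_subgroupOf' {U K L : Subgroup G} (hUL : U ≤ L) (hKL : K ≤ L) :
    (⁅U, K⁆).subgroupOf L = ⁅U.subgroupOf L, K.subgroupOf L⁆ := by
  apply Subgroup.map_injective L.subtype_injective
  have hle : ⁅U, K⁆ ≤ L := (Subgroup.commutator_mono hUL hKL).trans (by
    rw [Subgroup.commutator_le]
    intro a ha b hb
    exact L.mul_mem (L.mul_mem (L.mul_mem ha hb) (L.inv_mem ha)) (L.inv_mem hb))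
  rw [Subgroup.map_commutator, Subgroup.map_subgroupOf_eq_of_le hUL,
    Subgroup.map_subgroupOf_eq_of_le hKL, Subgroup.map_subgroupOf_eq_of_le hle]

/-- a `J(T)`-component of `G` contained in `L` gives the abstract data in `↥L` -/
theorem comp_of_isJComponent {T K L : Subgroup G} (hT : IsPGroup 2 ↥T)
    (hK : Cfsg.IsJComponent T K) (hKL : K ≤ L) (hJL : Cfsg.thompsonSubgroupOf 2 T ≤ L) :
    Comp ((Cfsg.thompsonSubgroupOf 2 T).subgroupOf L) (K.subgroupOf L)
      ((Cfsg.pCoreOf 2 K).subgroupOf L) ((Cfsg.wOf K).subgroupOf L) := by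
  have hD := JD.of_isJComponent hK hT
  obtain ⟨hgen, hcomm, hidx, -, hW4, hW2⟩ := hK
  have hPK : Cfsg.pCoreOf 2 K ≤ K := hD.QK
  have hPL : Cfsg.pCoreOf 2 K ≤ L := hPK.trans hKL
  have hWK : Cfsg.wOf K ≤ K := hD.WK
  have hWL : Cfsg.wOf K ≤ L := hWK.trans hKL
  refine ⟨closure_odd hKL hgen, commutator_subgroupOf hKL hJL hcomm, ?_, hD.Q2.comap_subtype,
    ?_, ?_, ?_, ?_, ?_, ?_, ?_⟩
  · intro x hx
    rw [mem_subgroupOf] at hx ⊢
    exact hPK hx
  · rw [Subgroup.relIndex_subgroupOf hKL]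
    exact hidx
  · apply le_normalizer_of_conj_mem
    intro x hx y hy
    rw [mem_subgroupOf] at hx hy ⊢
    have := conj_mem_of_le_normalizer hD.KnQ hx hy
    simpa using this
  · intro x hx k hk
    rw [mem_subgroupOf] at hx ⊢
    have hk' : (x : G) ^ (2 ^ k) = 1 := by
      have := congrArg Subtype.val hk
      simpa using this
    have hz : IsPGroup 2 (zpowers (x : G)) := by
      have : orderOf (x : G) ∣ 2 ^ k := orderOf_dvd_of_pow_eq_one hk'
      obtain ⟨m, -, hm⟩ := (Nat.dvd_prime_pow Nat.prime_two).mp this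
      apply IsPGroup.of_card (n := m)
      rw [Nat.card_zpowers, hm]
    exact hD.sub2 _ (zpowers_le.mpr hx) hz (mem_zpowers _)
  · rw [omegaZ_subgroupOf hPL, ← commutator_subgroupOf' ((Cfsg.Agent.Helper50.Higman.omegaZ_le _).trans hPL) hKL]
    congr 1
    exact hD.hW
  · rw [Nat.card_congr (Subgroup.subgroupOfEquivOfLe hWL).toEquiv]
    exact hW4
  · intro w hw
    rw [mem_subgroupOf] at hw
    exact Subtype.ext (hW2 _ hw)
  · intro k hk hkP w hw hfix
    rw [mem_subgroupOf] at hk hkP hw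
    have hfix' : (k : G) * w * (k : G)⁻¹ = w := by
      have := congrArg Subtype.val hfix
      simpa using this
    exact Subtype.ext (hD.fixed_eq_one' hk hkP hw hfix')

end Cfsg.Agent.Helper10.JCompTr
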