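import Mathlib
import Cfsg.Prelude.Def_OddOrder
import Cfsg.Prelude.Def_OddOrderLocal
import Cfsg.Agent.Lib.Helper48.HallHigmanPCore

/-!
# BG139 request R4 (helper53): Frobenius step

`T` a `t`-group, `S` an abelian `q`-group normalizing `T`, `x` of order dividing `p` normalizing both and
fixed-point-free on both (`t, q, p` distinct primes, `q` odd): then `S` centralizes `T`.
-/

set_option autoImplicit false

namespace Cfsg.Agent.Helper10.BG139Req

open Subgroup

/-- (R4) Frobenius step. -/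
theorem le_centralizer_of_fpf {G : Type*} [Group G] [Finite G] {t q p : ℕ} (ht : t.Prime) (hq : q.Prime)
    (hp : p.Prime) (htq : t ≠ q) (htp : t ≠ p) (hqp : q ≠ p) (hq2 : q ≠ 2)
    (T S : Subgroup G) (x : G) (hT : IsPGroup t T) (hS : IsPGroup q S) (hSc : IsMulCommutative S)
    (hST : S ≤ Subgroup.normalizer (T : Set G)) (hxT : x ∈ Subgroup.normalizer (T : Set G))
    (hxS : x ∈ Subgroup.normalizer (S : Set G)) (hx : x ^ p = 1)
    (hfS : S ⊓ Subgroup.centralizer ({x} : Set G) = ⊥)
    (hfT : T ⊓ Subgroup.centralizer ({x} : Set G) = ⊥) :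
    S ≤ Subgroup.centralizer (T : Set G) := by
  classical
  have hxSmem : ∀ u ∈ S, x * u * x⁻¹ ∈ S := fun u hu => (hxS u).mp hu
  -- step 1: the commutators `[x, u]`, `u ∈ S`, centralize `T`
  have key : ∀ u ∈ S, x * u * x⁻¹ * u⁻¹ ∈ centralizer (T : Set G) := by
    intro u hu
    have hPn : (T.subgroupOf (normalizer (T : Set G))).Normal := Subgroup.normal_in_normalizer
    have hP : IsPGroup t (T.subgroupOf (normalizer (T : Set G))) :=
      hT.comap_of_injective _ (Subgroup.subtype_injective _)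
    have hQ : IsPGroup q (S.subgroupOf (normalizer (T : Set G))) :=
      hS.comap_of_injective _ (Subgroup.subtype_injective _)
    have hxr : (⟨x, hxT⟩ : normalizer (T : Set G)) ^ p = 1 := Subtype.ext (by simpa using hx)
    have hfix : (T.subgroupOf (normalizer (T : Set G))) ⊓
        centralizer ({(⟨x, hxT⟩ : normalizer (T : Set G))} : Set (normalizer (T : Set G))) = ⊥ := by
      rw [eq_bot_iff]
      rintro y ⟨hyP, hyC⟩
      have hyT : (y : G) ∈ T := hyP
      have hyx : (y : G) ∈ centralizer ({x} : Set G) := by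
        rw [mem_centralizer_iff]
        intro z hz
        rw [Set.mem_singleton_iff] at hz
        subst hz
        have := (mem_centralizer_iff.mp hyC) ⟨z, hxT⟩ (Set.mem_singleton _)
        exact congrArg Subtype.val this
      have h1 : (y : G) ∈ T ⊓ centralizer ({x} : Set G) := ⟨hyT, hyx⟩
      rw [hfT, mem_bot] at h1
      rw [mem_bot]
      exact Subtype.ext h1
    have hxQ : ∀ v ∈ S.subgroupOf (normalizer (T : Set G)),
        (⟨x, hxT⟩ : normalizer (T : Set G)) * v * (⟨x, hxT⟩ : normalizer (T : Set G))⁻¹ ∈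
          S.subgroupOf (normalizer (T : Set G)) := by
      intro v hv
      rw [mem_subgroupOf] at hv ⊢
      simpa using hxSmem _ hv
    have h2 := Cfsg.Agent.Helper48.HHC.commutator_centralizes_normal_pgroup ht hq hp htq htp hqp hq2
      (T.subgroupOf (normalizer (T : Set G))) (S.subgroupOf (normalizer (T : Set G))) hP
      (⟨x, hxT⟩ : normalizer (T : Set G)) hxr hfix hQ hxQ ⟨u, hST hu⟩ (by rw [mem_subgroupOf]; exact hu)
    rw [mem_centralizer_iff] at h2 ⊢
    intro y hy
    have h3 := h2 ⟨y, le_normalizer hy⟩ (by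
      show (⟨y, le_normalizer hy⟩ : normalizer (T : Set G)) ∈ T.subgroupOf (normalizer (T : Set G))
      rw [mem_subgroupOf]; exact hy)
    have h4 := congrArg Subtype.val h3
    simpa using h4
  -- step 2: `u ↦ [x, u]` is an injective self-map of the finite set `S`, hence onto
  let φ : S → S := fun u => ⟨x * u * x⁻¹ * u⁻¹, S.mul_mem (hxSmem _ u.2) (S.inv_mem u.2)⟩
  have hφinj : Function.Injective φ := by
    intro u v huv
    have h1 : x * (u : G) * x⁻¹ * (u : G)⁻¹ = x * (v : G) * x⁻¹ * (v : G)⁻¹ := congrArg Subtype.val huv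
    -- `w = v⁻¹ u` is fixed by `x`
    have hw : ((v : G)⁻¹ * (u : G)) ∈ S ⊓ centralizer ({x} : Set G) := by
      refine ⟨S.mul_mem (S.inv_mem v.2) u.2, ?_⟩
      show (v : G)⁻¹ * (u : G) ∈ centralizer ({x} : Set G)
      rw [mem_centralizer_iff]
      intro z hz
      rw [Set.mem_singleton_iff] at hz
      subst hz
      -- x u x⁻¹ u⁻¹ = x v x⁻¹ v⁻¹, all in abelian S
      have e1 : z * (u : G) * z⁻¹ * (u : G)⁻¹ * (v : G) = z * (v : G) * z⁻¹ := by
        rw [h1]; group
      -- (x v⁻¹ x⁻¹) (x u x⁻¹) = v⁻¹ u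
      have e2 : (z * (v : G) * z⁻¹)⁻¹ * (z * (u : G) * z⁻¹) = (v : G)⁻¹ * (u : G) := by
        rw [← e1]
        calc (z * (u : G) * z⁻¹ * (u : G)⁻¹ * (v : G))⁻¹ * (z * (u : G) * z⁻¹)
            = (v : G)⁻¹ * ((u : G) * (z * (u : G) * z⁻¹)⁻¹ * (z * (u : G) * z⁻¹)) := by group
          _ = (v : G)⁻¹ * (u : G) := by group
      have e3 : z * ((v : G)⁻¹ * (u : G)) * z⁻¹ = (v : G)⁻¹ * (u : G) := by
        calc z * ((v : G)⁻¹ * (u : G)) * z⁻¹
            = (z * (v : G) * z⁻¹)⁻¹ * (z * (u : G) * z⁻¹) := by group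
          _ = (v : G)⁻¹ * (u : G) := e2
      calc z * ((v : G)⁻¹ * (u : G)) = z * ((v : G)⁻¹ * (u : G)) * z⁻¹ * z := by group
        _ = (v : G)⁻¹ * (u : G) * z := by rw [e3]
    rw [hfS, mem_bot] at hw
    apply Subtype.ext
    calc (u : G) = (v : G) * ((v : G)⁻¹ * (u : G)) := by group
      _ = (v : G) := by rw [hw, mul_one]
  have hφsurj : Function.Surjective φ := Finite.injective_iff_surjective.mp hφinj
  intro s hs
  obtain ⟨u, hu⟩ := hφsurj ⟨s, hs⟩
  have h1 : x * (u : G) * x⁻¹ * (u : G)⁻¹ = s := congrArg Subtype.val hu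
  rw [← h1]
  exact key u u.2

end Cfsg.Agent.Helper10.BG139Req
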