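import Mathlib
import Cfsg.Prelude.Def_OddOrder
import Cfsg.Prelude.Def_OddOrderLocal
import Cfsg.Agent.Lib.Helper1.Hall
import Cfsg.Agent.Lib.Helper1.Solv

/-!
# BG139 request R5 (helper53): Hall `{r,s}`-subgroup + normal elementary abelian subgroup

`C` solvable, `R, Rs ≤ C` of distinct prime orders `r, s`: there are a nontrivial elementary abelian
subgroup `V ≤ C` and `c ∈ C` such that either `V` is an `s`-group normalized by `R^c`, or `V` is an
`r`-group normalized by `Rs^c`.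
-/

set_option autoImplicit false

namespace Cfsg.Agent.Helper10.BG139Req

open Subgroup
open scoped Pointwise commutatorElement

theorem mem_normalizer_of_conj_mem' {G : Type*} [Group G] [Finite G] (V : Subgroup G) (g : G)
    (h : ∀ v ∈ V, g * v * g⁻¹ ∈ V) : g ∈ normalizer (V : Set G) := by
  rw [mem_normalizer_iff]
  intro v
  refine ⟨h v, fun hv => ?_⟩
  let φ : V → V := fun w => ⟨g * w * g⁻¹, h w w.2⟩
  have hφ : Function.Injective φ := by
    intro a b hab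
    have h1 : g * (a : G) * g⁻¹ = g * (b : G) * g⁻¹ := congrArg Subtype.val hab
    apply Subtype.ext
    calc (a : G) = g⁻¹ * (g * (a : G) * g⁻¹) * g := by group
      _ = g⁻¹ * (g * (b : G) * g⁻¹) * g := by rw [h1]
      _ = (b : G) := by group
  obtain ⟨w, hw⟩ := (Finite.injective_iff_surjective.mp hφ) ⟨g * v * g⁻¹, hv⟩
  have h1 : g * (w : G) * g⁻¹ = g * v * g⁻¹ := congrArg Subtype.val hw
  have h2 : (w : G) = v := by
    calc (w : G) = g⁻¹ * (g * (w : G) * g⁻¹) * g := by group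
      _ = g⁻¹ * (g * v * g⁻¹) * g := by rw [h1]
      _ = v := by group
  rw [← h2]
  exact w.2

/-- (R5) Hall `{r,s}`-subgroup + minimal normal subgroup. -/
theorem exists_elemAb_normalized {G : Type*} [Group G] [Finite G] (C : Subgroup G)
    (hC : Group.IsSolvable C) (r s : ℕ) [Fact r.Prime] [Fact s.Prime] (hrs : r ≠ s)
    (R Rs : Subgroup G) (hRC : R ≤ C) (hRsC : Rs ≤ C) (hR : Nat.card R = r) (hRs : Nat.card Rs = s) :
    ∃ (V : Subgroup G) (c : G), c ∈ C ∧ V ≤ C ∧ V ≠ ⊥ ∧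
      ((Cfsg.IsElementaryAbelian s V ∧
          R.map (MulAut.conj c).toMonoidHom ≤ Subgroup.normalizer (V : Set G)) ∨
       (Cfsg.IsElementaryAbelian r V ∧
          Rs.map (MulAut.conj c).toMonoidHom ≤ Subgroup.normalizer (V : Set G))) := by
  classical
  have hr : r.Prime := Fact.out
  have hs : s.Prime := Fact.out
  -- the `{r,s}`-part and the `{r,s}'`-part of `|C|`
  obtain ⟨N, hN⟩ : ∃ N : ℕ, N = Nat.card C := ⟨_, rfl⟩
  have hN0 : N ≠ 0 := by rw [hN]; exact Nat.card_pos.ne'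
  obtain ⟨N1, hN1⟩ : ∃ N1 : ℕ, N1 = ordCompl[r] N := ⟨_, rfl⟩
  have hN10 : N1 ≠ 0 := by
    rw [hN1]; exact (Nat.ordCompl_pos r hN0).ne'
  obtain ⟨m, hm⟩ : ∃ m : ℕ, m = ordProj[r] N * ordProj[s] N1 := ⟨_, rfl⟩
  obtain ⟨n, hn⟩ : ∃ n : ℕ, n = ordCompl[s] N1 := ⟨_, rfl⟩
  have hcard : Nat.card C = m * n := by
    rw [← hN, hm, hn, mul_assoc, Nat.ordProj_mul_ordCompl_eq_self N1 s, hN1,
      Nat.ordProj_mul_ordCompl_eq_self N r]
  have hsn : s.Coprime n := by rw [hn]; exact Nat.coprime_ordCompl hs hN10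
  have hrn : r.Coprime n := by
    have h1 : r.Coprime N1 := by rw [hN1]; exact Nat.coprime_ordCompl hr hN0
    have h2 : n ∣ N1 := by rw [hn]; exact Nat.ordCompl_dvd N1 s
    exact Nat.Coprime.coprime_dvd_right h2 h1
  have hmn : m.Coprime n := by
    rw [hm]
    exact Nat.Coprime.mul_left (Nat.Coprime.pow_left _ hrn) (Nat.Coprime.pow_left _ hsn)
  have : Group.IsSolvable C := hC
  obtain ⟨H, hHm, hHdom⟩ := Cfsg.Agent.Helper1.hall_exists_dominant (G := C) m n hcard hmn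
  -- `R` and `Rs` are conjugate into `H`
  have hR' : Nat.card (R.subgroupOf C) = r := by
    rw [Nat.card_congr (subgroupOfEquivOfLe hRC).toEquiv, hR]
  have hRs' : Nat.card (Rs.subgroupOf C) = s := by
    rw [Nat.card_congr (subgroupOfEquivOfLe hRsC).toEquiv, hRs]
  obtain ⟨g1, hg1⟩ := hHdom (R.subgroupOf C) (by rw [hR']; exact hrn)
  obtain ⟨g2, hg2⟩ := hHdom (Rs.subgroupOf C) (by rw [hRs']; exact hsn)
  have hconj1 : ∀ k ∈ R, ∃ h : C, h ∈ H ∧ ((h : C) : G) = (g1⁻¹ : C) * k * ((g1⁻¹ : C) : G)⁻¹ := by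
    intro k hk
    have h1 : (⟨k, hRC hk⟩ : C) ∈ MulAut.conj g1 • H := hg1 (by rw [mem_subgroupOf]; exact hk)
    rw [Subgroup.mem_pointwise_smul_iff_inv_smul_mem] at h1
    refine ⟨_, h1, ?_⟩
    rw [← map_inv, MulAut.smul_def, MulAut.conj_apply]
    simp
  have hconj2 : ∀ k ∈ Rs, ∃ h : C, h ∈ H ∧ ((h : C) : G) = (g2⁻¹ : C) * k * ((g2⁻¹ : C) : G)⁻¹ := by
    intro k hk
    have h1 : (⟨k, hRsC hk⟩ : C) ∈ MulAut.conj g2 • H := hg2 (by rw [mem_subgroupOf]; exact hk)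
    rw [Subgroup.mem_pointwise_smul_iff_inv_smul_mem] at h1
    refine ⟨_, h1, ?_⟩
    rw [← map_inv, MulAut.smul_def, MulAut.conj_apply]
    simp
  -- `H` is nontrivial
  have hHnt : Nontrivial H := by
    have hRnt : Nontrivial R := by
      rw [← Finite.one_lt_card_iff_nontrivial, hR]; exact hr.one_lt
    obtain ⟨k, hk1⟩ := exists_ne (1 : R)
    obtain ⟨h, hhH, hh⟩ := hconj1 k k.2
    refine ⟨⟨⟨h, hhH⟩, 1, ?_⟩⟩
    intro he
    have h1 : h = 1 := congrArg Subtype.val he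
    rw [h1] at hh
    apply hk1
    apply Subtype.ext
    have h2 : ((g1⁻¹ : C) : G) * k * ((g1⁻¹ : C) : G)⁻¹ = 1 := by rw [← hh]; rfl
    calc (k : G) = ((g1⁻¹ : C) : G)⁻¹ * (((g1⁻¹ : C) : G) * k * ((g1⁻¹ : C) : G)⁻¹) * ((g1⁻¹ : C) : G) := by
          group
      _ = 1 := by rw [h2]; group
  obtain ⟨u, hu, A, hAn, hA1, hAc, hAu⟩ := Cfsg.Agent.Helper1.exists_normal_elementary_of_solvable H
  -- the image of `A` in `G`
  obtain ⟨V, hV⟩ : ∃ V : Subgroup G, V = (A.map H.subtype).map C.subtype := ⟨_, rfl⟩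
  have hVmem : ∀ v : G, v ∈ V ↔ ∃ a : H, a ∈ A ∧ (((a : H) : C) : G) = v := by
    intro v
    rw [hV]
    constructor
    · rintro ⟨c, ⟨a, ha, rfl⟩, rfl⟩
      exact ⟨a, ha, rfl⟩
    · rintro ⟨a, ha, rfl⟩
      exact ⟨_, ⟨a, ha, rfl⟩, rfl⟩
  have hVC : V ≤ C := by
    rw [hV]; exact Subgroup.map_subtype_le _
  have hV1 : V ≠ ⊥ := by
    rw [hV]
    intro h
    rw [Subgroup.map_eq_bot_iff_of_injective _ (Subgroup.subtype_injective _),
      Subgroup.map_eq_bot_iff_of_injective _ (Subgroup.subtype_injective _)] at h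
    exact hA1 h
  have hVel : Cfsg.IsElementaryAbelian u V := by
    refine ⟨?_, ?_⟩
    · rw [← Subgroup.le_centralizer_iff_isMulCommutative]
      intro v hv
      rw [mem_centralizer_iff]
      intro w hw
      obtain ⟨a, ha, rfl⟩ := (hVmem v).mp hv
      obtain ⟨b, hb, rfl⟩ := (hVmem w).mp hw
      have h1 : ⁅a, b⁆ ∈ ⁅A, A⁆ := Subgroup.commutator_mem_commutator ha hb
      rw [hAc, mem_bot, commutatorElement_eq_one_iff_mul_comm] at h1
      have h2 := congrArg (fun z : H => (((z : H) : C) : G)) h1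
      simpa using h2.symm
    · intro v hv
      obtain ⟨a, ha, rfl⟩ := (hVmem v).mp hv
      have h1 := hAu a ha
      have h2 := congrArg (fun z : H => (((z : H) : C) : G)) h1
      simpa using h2
  -- elements of `H` normalize `V`
  have hHnorm : ∀ h : C, h ∈ H → ((h : C) : G) ∈ normalizer (V : Set G) := by
    intro h hh
    apply mem_normalizer_of_conj_mem'
    intro v hv
    obtain ⟨a, ha, rfl⟩ := (hVmem v).mp hv
    rw [hVmem]
    refine ⟨(⟨h, hh⟩ : H) * a * (⟨h, hh⟩ : H)⁻¹, hAn.conj_mem a ha _, ?_⟩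
    simp
  -- `u ∈ {r, s}`
  have hu_rs : u = r ∨ u = s := by
    obtain ⟨a, haA, ha1⟩ : ∃ a ∈ A, a ≠ 1 := by
      by_contra hcon
      push Not at hcon
      apply hA1
      rw [eq_bot_iff]
      intro a ha
      rw [mem_bot]
      exact hcon a ha
    have ho : orderOf a = u := by
      have h1 : orderOf a ∣ u := orderOf_dvd_of_pow_eq_one (hAu a haA)
      rcases (Nat.dvd_prime hu).mp h1 with h | h
      · exact absurd (orderOf_eq_one_iff.mp h) ha1
      · exact h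
    have h2 : u ∣ Nat.card H := by rw [← ho]; exact orderOf_dvd_natCard a
    rw [hHm, hm] at h2
    rcases (Nat.Prime.dvd_mul hu).mp h2 with h | h
    · left
      exact (Nat.prime_dvd_prime_iff_eq hu hr).mp (hu.dvd_of_dvd_pow h)
    · right
      exact (Nat.prime_dvd_prime_iff_eq hu hs).mp (hu.dvd_of_dvd_pow h)
  rcases hu_rs with rfl | rfl
  · -- `V` is an `r`-group: use `Rs`
    refine ⟨V, ((g2⁻¹ : C) : G), (g2⁻¹ : C).2, hVC, hV1, Or.inr ⟨hVel, ?_⟩⟩
    rintro _ ⟨k, hk, rfl⟩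
    obtain ⟨h, hhH, hh⟩ := hconj2 k hk
    have := hHnorm h hhH
    rw [hh] at this
    simpa using this
  · -- `V` is an `s`-group: use `R`
    refine ⟨V, ((g1⁻¹ : C) : G), (g1⁻¹ : C).2, hVC, hV1, Or.inl ⟨hVel, ?_⟩⟩
    rintro _ ⟨k, hk, rfl⟩
    obtain ⟨h, hhH, hh⟩ := hconj1 k hk
    have := hHnorm h hhH
    rw [hh] at this
    simpa using this

end Cfsg.Agent.Helper10.BG139Req
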