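import Cfsg.Agent.Lib.Helper1.CD3.Defs
import Cfsg.Agent.Lib.Helper74.LinChar
import Mathlib

/-!
# CD3B (Q1) for helper1's S4460 server: `exists_extension`
(a linear character `ν` of `W ⊴ G` extends to its inertia group when `G = W N`, `W ∩ N ≤ W'`.)
-/

set_option autoImplicit false

namespace Cfsg.Agent.Helper10.CD3B

open Cfsg Cfsg.Agent.Helper81 Cfsg.Agent.Helper1.CD3

universe u

open scoped commutatorElement in
/-- (Q1) -/
theorem exists_extension {G : Type u} [Group G] [Finite G] (W : Subgroup G) (hW : W.Normal) (N : Subgroup G)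
    (hsup : W ⊔ N = ⊤) (hint : W ⊓ N ≤ ⁅W, W⁆) (ν : W → ℂ) (hν : IsIrrCharacter W ν) (h1 : ν 1 = 1) :
    ∃ (hle : W ≤ stab W hW ν) (μ : stab W hW ν → ℂ), IsIrrCharacter (stab W hW ν) μ ∧ μ 1 = 1 ∧
      ∀ w : W, μ ⟨(w : G), hle w.2⟩ = ν w := by
  classical
  have hWi : W.Normal := hW
  obtain ⟨φ, hφ⟩ : ∃ φ : W →* ℂˣ, φ = Cfsg.Agent.Helper74.Lin.toHom ⟨ν, hν⟩ h1 := ⟨_, rfl⟩
  have hφv : ∀ w : W, ((φ w : ℂˣ) : ℂ) = ν w := fun w => by rw [hφ]; rfl
  -- `W` lies in the inertia group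
  have hle : W ≤ stab W hW ν := by
    intro w hw
    rw [mem_stab]
    funext n
    rw [conjFun_apply]
    have e1 : (⟨w * n * w⁻¹, hW.conj_mem n n.2 w⟩ : W) = ⟨w, hw⟩ * n * (⟨w, hw⟩ : W)⁻¹ :=
      Subtype.ext rfl
    rw [e1, ← hφv, ← hφv, map_mul, map_mul, map_inv, mul_comm (φ ⟨w, hw⟩) (φ n),
      mul_inv_cancel_right]
  -- `φ` kills `W ∩ N`
  have hker : ∀ x : W, (x : G) ∈ N → φ x = 1 := by
    intro x hx
    have h2 : (x : G) ∈ ⁅W, W⁆ := hint ⟨x.2, hx⟩
    have h3 : ⁅W, W⁆ ≤ (φ.ker).map W.subtype := by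
      rw [Subgroup.commutator_le]
      intro a ha b hb
      refine ⟨⁅(⟨a, ha⟩ : W), (⟨b, hb⟩ : W)⁆, ?_, rfl⟩
      rw [SetLike.mem_coe, MonoidHom.mem_ker, map_commutatorElement,
        commutatorElement_eq_one_iff_commute]
      exact Commute.all _ _
    obtain ⟨y, hy, hyx⟩ := h3 h2
    have : y = x := Subtype.ext hyx
    rw [← this]
    exact hy
  -- decomposition `g = w h`
  have hdec : ∀ g : G, ∃ w : W, ∃ h : G, h ∈ N ∧ (w : G) * h = g := by
    intro g
    have hg : g ∈ W ⊔ N := by rw [hsup]; trivial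
    rw [Subgroup.mem_sup_of_normal_left] at hg
    obtain ⟨w, hw, h, hh, rfl⟩ := hg
    exact ⟨⟨w, hw⟩, h, hh, rfl⟩
  choose wf hf hfN hfe using hdec
  -- well-definedness
  have hwd : ∀ (w w' : W) (h h' : G), h ∈ N → h' ∈ N → (w : G) * h = (w' : G) * h' →
      φ w = φ w' := by
    intro w w' h h' hh hh' he
    have h2 : ((w'⁻¹ * w : W) : G) ∈ N := by
      have : ((w'⁻¹ * w : W) : G) = h' * h⁻¹ := by
        rw [Subgroup.coe_mul, Subgroup.coe_inv]
        calc (w' : G)⁻¹ * (w : G) = (w' : G)⁻¹ * ((w : G) * h) * h⁻¹ := by group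
          _ = (w' : G)⁻¹ * ((w' : G) * h') * h⁻¹ := by rw [he]
          _ = h' * h⁻¹ := by group
      rw [this]
      exact N.mul_mem hh' (N.inv_mem hh)
    have h3 := hker _ h2
    rw [map_mul, map_inv, inv_mul_eq_one] at h3
    exact h3.symm
  have hstar : ∀ (t : G) (w : W) (h : G), h ∈ N → (w : G) * h = t → φ (wf t) = φ w := by
    intro t w h hh he
    exact hwd (wf t) w (hf t) h (hfN t) hh ((hfe t).trans he.symm)
  -- the `N`-part of an element of the inertia group lies in the inertia group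
  have hhT : ∀ t : G, t ∈ stab W hW ν → hf t ∈ stab W hW ν := by
    intro t ht
    have : hf t = ((wf t : W) : G)⁻¹ * t := by
      calc hf t = ((wf t : W) : G)⁻¹ * (((wf t : W) : G) * hf t) := by group
        _ = ((wf t : W) : G)⁻¹ * t := by rw [hfe t]
    rw [this]
    exact (stab W hW ν).mul_mem ((stab W hW ν).inv_mem (hle (wf t).2)) ht
  -- the extension as a homomorphism
  let μ : stab W hW ν →* ℂˣ :=
    { toFun := fun t => φ (wf (t : G))
      map_one' := by
        have := hstar 1 1 1 N.one_mem (by simp)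
        rw [Subgroup.coe_one, this, map_one]
      map_mul' := by
        intro t t'
        have hconj : hf (t : G) * ((wf (t' : G) : W) : G) * (hf (t : G))⁻¹ ∈ W :=
          hW.conj_mem _ (wf (t' : G)).2 _
        have e1 : ((t * t' : stab W hW ν) : G) =
            ((wf (t : G) * ⟨hf (t : G) * ((wf (t' : G) : W) : G) * (hf (t : G))⁻¹, hconj⟩ : W) : G) *
              (hf (t : G) * hf (t' : G)) := by
          rw [Subgroup.coe_mul, Subgroup.coe_mul]
          conv_lhs => rw [← hfe (t : G), ← hfe (t' : G)]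
          simp only
          group
        have e2 := hstar _ _ _ (N.mul_mem (hfN (t : G)) (hfN (t' : G))) e1.symm
        rw [e2, map_mul]
        congr 1
        apply Units.ext
        rw [hφv, hφv]
        have h3 := (mem_stab W hW ν (hf (t : G))).1 (hhT (t : G) t.2)
        have h4 := congrFun h3 (wf (t' : G))
        rw [conjFun_apply] at h4
        exact h4 }
  refine ⟨hle, fun t => ((μ t : ℂˣ) : ℂ), (Cfsg.Agent.Helper74.Lin.ofHom μ).2, ?_, ?_⟩
  · show ((μ 1 : ℂˣ) : ℂ) = 1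
    rw [map_one, Units.val_one]
  · intro w
    have := hstar (w : G) w 1 N.one_mem (by simp)
    show ((φ (wf (w : G)) : ℂˣ) : ℂ) = ν w
    rw [this, hφv]

end Cfsg.Agent.Helper10.CD3B
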