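import Mathlib
import Cfsg.Prelude.Def_Transfer
import Cfsg.Agent.Lib.Helper24.CYCDefs

/-!
# CYC (E5) for helper24's S4016 server: two non-commuting involutions lie in `Ivs P` for exactly one `P`
-/

set_option autoImplicit false

namespace Cfsg.Agent.Helper10.CYC

open Subgroup Cfsg.Agent.Helper24.CYC

universe u

variable {G : Type u} [Group G] [Finite G] {p : ℕ} [Fact p.Prime]

omit [Finite G] in
/-- an element inverting `x` normalises `⟨x⟩` -/
theorem h10_mem_nrm_zpowers (s x : G) (h : s * x * s⁻¹ = x⁻¹) : s ∈ nrm (zpowers x) := by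
  have h' : s⁻¹ * x * s = x⁻¹ := by
    have : x = s⁻¹ * (s * x * s⁻¹) * s := by group
    rw [h] at this
    have h2 : x⁻¹ = (s⁻¹ * x⁻¹ * s)⁻¹ := by rw [← this]
    rw [h2]; group
  rw [Subgroup.mem_normalizer_iff]
  intro y
  constructor
  · intro hy
    obtain ⟨k, rfl⟩ := Subgroup.mem_zpowers_iff.mp hy
    have : s * x ^ k * s⁻¹ = (s * x * s⁻¹) ^ k := by rw [conj_zpow]
    rw [this, h]
    exact Subgroup.zpow_mem _ (inv_mem (Subgroup.mem_zpowers x)) k
  · intro hy
    obtain ⟨k, hk⟩ := Subgroup.mem_zpowers_iff.mp hy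
    have : y = s⁻¹ * (s * y * s⁻¹) * s := by group
    rw [this, ← hk]
    have h3 : s⁻¹ * x ^ k * s = (s⁻¹ * x * s) ^ k := by
      have := conj_zpow (a := s⁻¹) (b := x) (i := k)
      rw [inv_inv] at this
      exact this.symm
    rw [h3, h']
    exact Subgroup.zpow_mem _ (inv_mem (Subgroup.mem_zpowers x)) k

omit [Finite G] [Fact p.Prime] in
/-- a `p`-subgroup of `N_G(P)` lies in `P` -/
theorem h10_le_sylow_of_le_normalizer (P : Sylow p G) (Q : Subgroup G) (hQ : IsPGroup p Q)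
    (hQN : Q ≤ NP P) : Q ≤ P := by
  have h1 : IsPGroup p (Q ⊔ (P : Subgroup G) : Subgroup G) :=
    IsPGroup.to_sup_of_normal_right' hQ P.isPGroup' hQN
  have h2 := P.is_maximal' h1 le_sup_right
  calc Q ≤ Q ⊔ (P : Subgroup G) := le_sup_left
    _ = P := h2

omit [Finite G] [Fact p.Prime] in
theorem h10_inv_eq_self (s : G) (hs : s * s = 1) : s⁻¹ = s := inv_eq_of_mul_eq_one_left hs

/-- uniqueness part of (E5) -/
theorem h10_E5_unique (hC : Core p G) (s t : G) (hs : s * s = 1) (ht : t * t = 1) (hst : s * t ≠ t * s)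
    (P₁ P₂ : Sylow p G) (h1 : s ∈ Ivs P₁ ∧ t ∈ Ivs P₁) (h2 : s ∈ Ivs P₂ ∧ t ∈ Ivs P₂) : P₁ = P₂ := by
  classical
  have hp : p.Prime := Fact.out
  have hsi := h10_inv_eq_self s hs
  have hti := h10_inv_eq_self t ht
  -- w = s t centralises both
  have hwc : ∀ P : Sylow p G, s ∈ Ivs P → t ∈ Ivs P → ∀ b ∈ P, (s * t) * b = b * (s * t) := by
    intro P hsP htP b hb
    have e1 := hC.invert P t htP b hb
    have e2 := hC.invert P s hsP b⁻¹ (inv_mem hb)
    rw [inv_inv] at e2
    have : (s * t) * b * (s * t)⁻¹ = b := by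
      calc (s * t) * b * (s * t)⁻¹ = s * (t * b * t⁻¹) * s⁻¹ := by group
        _ = b := by rw [e1, e2]
    calc (s * t) * b = ((s * t) * b * (s * t)⁻¹) * (s * t) := by group
      _ = b * (s * t) := by rw [this]
  have hw1 : s * t ≠ 1 := by
    intro h
    apply hst
    have : t = s := by
      have : t = s⁻¹ := (inv_eq_of_mul_eq_one_right h).symm ▸ rfl
      rw [this, hsi]
    rw [this]
  -- nontrivial elements of P₁ and P₂
  have hb : ∀ P : Sylow p G, s ∈ Ivs P → ∃ b ∈ P, b ≠ 1 := by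
    intro P hsP
    by_contra hcon
    push Not at hcon
    apply hsP.2.2
    rw [Subgroup.mem_centralizer_iff]
    intro b hb
    rw [hcon b hb, one_mul, mul_one]
  obtain ⟨b₁, hb₁, hb₁1⟩ := hb P₁ h1.1
  obtain ⟨b₂, hb₂, hb₂1⟩ := hb P₂ h2.1
  have hord : orderOf (s * t) ≠ 0 := (orderOf_pos (s * t)).ne'
  by_cases hall : ∀ d : ℕ, d.Prime → d ∣ orderOf (s * t) → d = p
  · -- w is a p-element
    have hpow : orderOf (s * t) = p ^ (orderOf (s * t)).primeFactorsList.length :=
      Nat.eq_prime_pow_of_unique_prime_dvd hord (fun {d} hd hdd => hall d hd hdd)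
    have hQ : IsPGroup p (zpowers (s * t)) := by
      apply IsPGroup.of_card (n := (orderOf (s * t)).primeFactorsList.length)
      rw [Nat.card_zpowers]; exact hpow
    have hle : ∀ P : Sylow p G, s ∈ Ivs P → t ∈ Ivs P → s * t ∈ P := by
      intro P hsP htP
      apply h10_le_sylow_of_le_normalizer P (zpowers (s * t)) hQ _ (Subgroup.mem_zpowers _)
      rw [Subgroup.zpowers_le]
      apply Subgroup.centralizer_le_normalizer
      rw [Subgroup.mem_centralizer_iff]
      intro b hb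
      exact (hwc P hsP htP b hb).symm
    exact hC.c1.ti P₁ P₂ (s * t) (hle P₁ h1.1 h1.2) (hle P₂ h2.1 h2.2) hw1
  · -- a prime r ≠ p divides o(w)
    push Not at hall
    obtain ⟨r, hr, hrd, hrp⟩ := hall
    obtain ⟨w', hw'⟩ : ∃ w', w' = (s * t) ^ (orderOf (s * t) / r) := ⟨_, rfl⟩
    have hw'o : orderOf w' = r := by rw [hw']; exact orderOf_pow_orderOf_div hord hrd
    have hw'1 : w' ≠ 1 := by
      intro h
      rw [h, orderOf_one] at hw'o
      exact hr.one_lt.ne hw'o
    have hw'p : (orderOf w').Coprime p := by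
      rw [hw'o]; exact (Nat.coprime_primes hr hp).mpr hrp
    have hkey : ∀ P : Sylow p G, s ∈ Ivs P → t ∈ Ivs P → ∀ b ∈ P, b ≠ 1 →
        Subgroup.centralizer {w'} = NP P := by
      intro P hsP htP b hb hb1
      apply hC.key P b w' hb hb1 hw'1 hw'p
      have hc : Commute (s * t) b := hwc P hsP htP b hb
      rw [hw']
      exact ((hc.pow_left _).eq).symm
    have hN : NP P₁ = NP P₂ := by
      rw [← hkey P₁ h1.1 h1.2 b₁ hb₁ hb₁1, ← hkey P₂ h2.1 h2.2 b₂ hb₂ hb₂1]
    have hle : (P₂ : Subgroup G) ≤ P₁ := by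
      apply h10_le_sylow_of_le_normalizer P₁ P₂ P₂.isPGroup'
      rw [hN]
      exact Subgroup.le_normalizer
    exact Sylow.ext (P₂.is_maximal' P₁.isPGroup' hle)

/-- **(E5)** two non-commuting involutions lie in `Ivs P` for exactly one `P`. -/
theorem exists_unique_sylow_of_not_comm (hC : Core p G) (s t : G) (hs : s * s = 1) (ht : t * t = 1) (hst : s * t ≠ t * s) :
    ∃! P : Sylow p G, s ∈ Ivs P ∧ t ∈ Ivs P := by
  classical
  have hp : p.Prime := Fact.out
  have hp2 : p ≠ 2 := hC.c1.podd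
  have hsi := h10_inv_eq_self s hs
  have hti := h10_inv_eq_self t ht
  have hs1 : s ≠ 1 := by
    rintro rfl
    exact hst (by rw [one_mul, mul_one])
  have ht1 : t ≠ 1 := by
    rintro rfl
    exact hst (by rw [one_mul, mul_one])
  -- s and t invert w = s t
  have hsw : s * (s * t) * s⁻¹ = (s * t)⁻¹ := by
    rw [mul_inv_rev, hsi, hti, ← mul_assoc, hs, one_mul]
  have htw : t * (s * t) * t⁻¹ = (s * t)⁻¹ := by
    rw [mul_inv_rev, hsi, hti, mul_assoc, mul_assoc, ht, mul_one]
  have h2p : (2 : ℕ).Coprime p := (Nat.coprime_primes Nat.prime_two hp).mpr (Ne.symm hp2)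
  have hos : orderOf s = 2 := by
    have : Fact (Nat.Prime 2) := ⟨Nat.prime_two⟩
    exact orderOf_eq_prime (by rw [pow_two]; exact hs) hs1
  -- p ∣ o(w)
  have hpw : p ∣ orderOf (s * t) := by
    by_contra hnd
    have hR : ¬ p ∣ Nat.card (zpowers (s * t)) := by rw [Nat.card_zpowers]; exact hnd
    have hsN : s ∈ nrm (zpowers (s * t)) := h10_mem_nrm_zpowers s (s * t) hsw
    have hsC := hC.c1.pcent (zpowers (s * t)) hR s hsN (by rw [hos]; exact h2p)
    rw [Subgroup.mem_centralizer_iff] at hsC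
    have h := hsC (s * t) (Subgroup.mem_zpowers _)
    -- s t s = s s t = t
    apply hst
    have h3 : s * t * s = t := by rw [h, ← mul_assoc, hs, one_mul]
    calc s * t = (s * t * s) * s⁻¹ := by group
      _ = t * s := by rw [h3, hsi]
  have hord : orderOf (s * t) ≠ 0 := (orderOf_pos (s * t)).ne'
  obtain ⟨v, hv⟩ : ∃ v, v = (s * t) ^ (orderOf (s * t) / p) := ⟨_, rfl⟩
  have hvo : orderOf v = p := by rw [hv]; exact orderOf_pow_orderOf_div hord hpw
  have hv1 : v ≠ 1 := by
    intro h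
    rw [h, orderOf_one] at hvo
    exact hp.one_lt.ne hvo
  have hsv : s * v * s⁻¹ = v⁻¹ := by
    rw [hv, ← conj_pow, hsw, inv_pow]
  have htv : t * v * t⁻¹ = v⁻¹ := by
    rw [hv, ← conj_pow, htw, inv_pow]
  have hQ : IsPGroup p (zpowers v) := by
    apply IsPGroup.of_card (n := 1)
    rw [Nat.card_zpowers, hvo, pow_one]
  obtain ⟨P, hP⟩ := hQ.exists_le_sylow
  have hvP : v ∈ P := hP (Subgroup.mem_zpowers v)
  have hQ1 : zpowers v ≠ ⊥ := by
    intro h
    rw [Subgroup.zpowers_eq_bot] at h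
    exact hv1 h
  have hnq := hC.c1.nq P (zpowers v) hP hQ1
  have hvne : v⁻¹ ≠ v := by
    intro h
    have h2 : v ^ 2 = 1 := by
      rw [pow_two]
      nth_rewrite 1 [← h]
      exact inv_mul_cancel v
    have := orderOf_dvd_of_pow_eq_one h2
    rw [hvo] at this
    exact hp2 ((Nat.prime_dvd_prime_iff_eq hp Nat.prime_two).mp this)
  have hmem : ∀ x : G, x * x = 1 → x * v * x⁻¹ = v⁻¹ → x ∈ Ivs P := by
    intro x hx hxv
    refine ⟨hx, ?_, ?_⟩
    · have : x ∈ nrm (zpowers v) := h10_mem_nrm_zpowers x v hxv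
      rw [hnq] at this
      exact this
    · intro hxC
      rw [Subgroup.mem_centralizer_iff] at hxC
      have h := hxC v hvP
      apply hvne
      rw [← hxv, ← h, mul_assoc, mul_inv_cancel, mul_one]
  refine ⟨P, ⟨hmem s hs hsv, hmem t ht htv⟩, ?_⟩
  intro P' hP'
  exact h10_E5_unique hC s t hs ht hst P' P hP' ⟨hmem s hs hsv, hmem t ht htv⟩

end Cfsg.Agent.Helper10.CYC
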