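import Mathlib
import Cfsg.Prelude.Def_Transfer
import Cfsg.Agent.Lib.Helper24.CYCDefs

/-!
# CYC (I3) for helper24's S4016 server: `caseI_dvd` (free conjugation action on the involutions of `S`)
-/

set_option autoImplicit false

namespace Cfsg.Agent.Helper10.CYC

open Subgroup Cfsg.Agent.Helper24.CYC

universe u

variable {G : Type u} [Group G] [Finite G] {p : ℕ} [Fact p.Prime]

omit [Finite G] in
theorem h10_conj_mem (S : Subgroup G) (d t : G) (hd : d ∈ nrm S)
    (ht : t ∈ S ∧ t * t = 1 ∧ t ≠ 1) :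
    d * t * d⁻¹ ∈ S ∧ (d * t * d⁻¹) * (d * t * d⁻¹) = 1 ∧ d * t * d⁻¹ ≠ 1 := by
  refine ⟨(Subgroup.mem_normalizer_iff.mp hd t).mp ht.1, ?_, ?_⟩
  · have : (d * t * d⁻¹) * (d * t * d⁻¹) = d * (t * t) * d⁻¹ := by group
    rw [this, ht.2.1, mul_one, mul_inv_cancel]
  · intro h
    apply ht.2.2
    have : t = d⁻¹ * (d * t * d⁻¹) * d := by group
    rw [this, h, mul_one, inv_mul_cancel]

/-- the conjugation action of `D ≤ N_G(S)` on the involutions of `S` -/
@[instance_reducible]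
def h10ConjAct (S : Subgroup G) (D : Subgroup G) (hDN : D ≤ nrm S) :
    MulAction D {t : G // t ∈ S ∧ t * t = 1 ∧ t ≠ 1} where
  smul d t := ⟨(d : G) * t.1 * (d : G)⁻¹, h10_conj_mem S d t.1 (hDN d.2) t.2⟩
  one_smul t := by
    apply Subtype.ext
    show ((1 : D) : G) * t.1 * ((1 : D) : G)⁻¹ = t.1
    simp
  mul_smul a b t := by
    apply Subtype.ext
    show ((a * b : D) : G) * t.1 * ((a * b : D) : G)⁻¹ = (a : G) * ((b : G) * t.1 * (b : G)⁻¹) * (a : G)⁻¹
    simp [mul_assoc]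

/-- (I3) `|D| ∣ ω`. -/
theorem caseI_dvd (S : Sylow 2 G) (D : Subgroup G) (hDN : D ≤ nrm (S : Subgroup G)) (hDp : IsPGroup p D)
    (hfpf : ∀ u : G, orderOf u = p → u ∈ nrm (S : Subgroup G) → ∀ t ∈ S, t * u = u * t → t = 1) :
    Nat.card D ∣ Nat.card {t : G // t ∈ S ∧ t * t = 1 ∧ t ≠ 1} := by
  classical
  let _ : MulAction D {t : G // t ∈ (S : Subgroup G) ∧ t * t = 1 ∧ t ≠ 1} :=
    h10ConjAct (S : Subgroup G) D hDN
  have hp : p.Prime := Fact.out
  have hfree : ∀ t : {t : G // t ∈ (S : Subgroup G) ∧ t * t = 1 ∧ t ≠ 1},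
      MulAction.stabilizer D t = ⊥ := by
    intro t
    rw [eq_bot_iff]
    intro d hd
    rw [Subgroup.mem_bot]
    by_contra hd1
    rw [MulAction.mem_stabilizer_iff] at hd
    have hd' : (d : G) * t.1 * (d : G)⁻¹ = t.1 := congrArg Subtype.val hd
    obtain ⟨k, hk⟩ := (IsPGroup.iff_orderOf.mp hDp) d
    have hk0 : k ≠ 0 := by
      rintro rfl
      rw [pow_zero, orderOf_eq_one_iff] at hk
      exact hd1 hk
    have hkG : orderOf (d : G) = p ^ k := by rw [Subgroup.orderOf_coe]; exact hk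
    have hu : orderOf ((d : G) ^ (p ^ (k - 1))) = p := by
      rw [orderOf_pow_of_dvd (pow_ne_zero _ hp.ne_zero) (by rw [hkG]; exact pow_dvd_pow p (Nat.sub_le k 1)),
        hkG, Nat.pow_div (Nat.sub_le k 1) hp.pos]
      have : k - (k - 1) = 1 := by omega
      rw [this, pow_one]
    have hcomm : Commute (d : G) t.1 := by
      show (d : G) * t.1 = t.1 * (d : G)
      calc (d : G) * t.1 = ((d : G) * t.1 * (d : G)⁻¹) * (d : G) := by group
        _ = t.1 * (d : G) := by rw [hd']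
    have hcomm2 : t.1 * (d : G) ^ (p ^ (k - 1)) = (d : G) ^ (p ^ (k - 1)) * t.1 :=
      ((hcomm.pow_left _).eq).symm
    exact t.2.2.2 (hfpf _ hu (pow_mem (hDN d.2) _) t.1 t.2.1 hcomm2)
  have e := MulAction.selfEquivOrbitsQuotientProd hfree
  change Nat.card D ∣ Nat.card {t : G // t ∈ (S : Subgroup G) ∧ t * t = 1 ∧ t ≠ 1}
  rw [Nat.card_congr e, Nat.card_prod]
  exact dvd_mul_left _ _

end Cfsg.Agent.Helper10.CYC
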