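import Mathlib
import Cfsg.Prelude.Def_Transfer
import Cfsg.Agent.Lib.Helper24.CYCDefs

/-!
# CYC (I4) for helper24's S4016 server: `caseI_arith` (pure ℕ arithmetic)
-/

set_option autoImplicit false

namespace Cfsg.Agent.Helper10.CYC

open Subgroup Cfsg.Agent.Helper24.CYC

universe u

variable {G : Type u} [Group G] [Finite G] {p : ℕ} [Fact p.Prime]

/-- (I4) arithmetic. -/
theorem caseI_arith {q π j α δ κ ω i n2 np g : ℕ} (hq : q.Prime) (hq2 : q ≠ 2) (hπ : ∃ n : ℕ, n ≠ 0 ∧ π = q ^ n)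
    (hj : j = 0 ∨ ∃ m : ℕ, j = 2 ^ m) (hα : ¬ q ∣ α) (hδq : q ∣ δ) (hδω : δ ∣ ω) (hω : ω ≠ 0) (hκ : κ ≠ 0) (hg : g ≠ 0)
    (hnp : np * (π * κ) = g) (hn2 : n2 * (α * δ) = g) (hi : i = n2 * ω)
    (hsum : np * (π * j) * (π * j - j) = i * (i - ω)) : n2 = 1 := by
  have hn20 : n2 ≠ 0 := by
    rintro rfl
    rw [zero_mul] at hn2
    exact hg hn2.symm
  obtain ⟨N, rfl⟩ := Nat.exists_eq_succ_of_ne_zero hn20
  have hiω : i - ω = N * ω := by
    rw [hi, Nat.succ_eq_add_one, add_mul, one_mul, Nat.add_sub_cancel]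
  rw [hiω] at hsum
  rcases hj with rfl | ⟨m, rfl⟩
  · -- j = 0: the left side vanishes
    rw [mul_zero, mul_zero, zero_mul] at hsum
    have hi0 : i ≠ 0 := by
      rw [hi]; exact Nat.mul_ne_zero hn20 hω
    rcases Nat.mul_eq_zero.mp hsum.symm with h | h
    · exact absurd h hi0
    · rcases Nat.mul_eq_zero.mp h with h | h
      · rw [h]
      · exact absurd h hω
  · exfalso
    obtain ⟨n, hn0, hπq⟩ := hπ
    have hqπ : q ∣ π := by rw [hπq]; exact dvd_pow_self q hn0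
    have hπ1 : π ≠ 0 := by rw [hπq]; exact pow_ne_zero _ hq.ne_zero
    obtain ⟨π', rfl⟩ := Nat.exists_eq_succ_of_ne_zero hπ1
    have hπj : (π' + 1) * 2 ^ m - 2 ^ m = π' * 2 ^ m := by
      rw [add_mul, one_mul, Nat.add_sub_cancel]
    rw [Nat.succ_eq_add_one] at hsum hnp hqπ
    rw [hπj] at hsum
    obtain ⟨c, rfl⟩ := hδω
    have hδ0 : δ ≠ 0 := by
      rintro rfl
      exact hω (zero_mul c)
    -- multiply by κ α δ and cancel g
    have h1 : g * (α * δ * (2 ^ m * 2 ^ m) * π')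
        = (np * ((π' + 1) * 2 ^ m) * (π' * 2 ^ m)) * (κ * α * δ) := by
      rw [← hnp]; ring
    have h2 : (i * (N * (δ * c))) * (κ * α * δ) = g * (κ * (δ * c) * (δ * c) * N) := by
      rw [hi, ← hn2]; ring
    rw [hsum, h2] at h1
    have h3 := Nat.eq_of_mul_eq_mul_left (Nat.pos_of_ne_zero hg) h1
    have h4 : δ * (α * (2 ^ m * 2 ^ m) * π') = δ * (κ * c * c * δ * N) := by
      calc δ * (α * (2 ^ m * 2 ^ m) * π') = α * δ * (2 ^ m * 2 ^ m) * π' := by ring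
        _ = κ * (δ * c) * (δ * c) * N := h3
        _ = δ * (κ * c * c * δ * N) := by ring
    have h5 := Nat.eq_of_mul_eq_mul_left (Nat.pos_of_ne_zero hδ0) h4
    have h6 : q ∣ α * (2 ^ m * 2 ^ m) * π' := by
      rw [h5]
      exact Dvd.dvd.mul_right (Dvd.dvd.mul_left hδq _) _
    rcases (Nat.Prime.dvd_mul hq).mp h6 with h | h
    · rcases (Nat.Prime.dvd_mul hq).mp h with h | h
      · exact hα h
      · have h7 : q ∣ 2 ^ m := by
          rcases (Nat.Prime.dvd_mul hq).mp h with h | h <;> exact h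
        have h8 := hq.dvd_of_dvd_pow h7
        exact hq2 ((Nat.prime_dvd_prime_iff_eq hq Nat.prime_two).mp h8)
    · have h7 : q ∣ 1 := (Nat.dvd_add_right h).mp hqπ
      exact hq.one_lt.ne' (Nat.dvd_one.mp h7)

end Cfsg.Agent.Helper10.CYC
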