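import Mathlib

/-!
# `|[V, a]| · |C_V(a)| = |V|` for an abelian subgroup `V` normalized by `a`
-/

set_option autoImplicit false

namespace Cfsg.Agent.Helper10

open scoped commutatorElement

variable {G : Type*} [Group G]

theorem centralizer_zpowers_eq (a : G) :
    Subgroup.centralizer ((Subgroup.zpowers a : Subgroup G) : Set G) =
      Subgroup.centralizer ({a} : Set G) := by
  rw [Subgroup.zpowers_eq_closure, Subgroup.centralizer_closure]

/-- the commutator map `v ↦ a v a⁻¹ v⁻¹` on an abelian subgroup normalized by `a` -/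
def commHom (V : Subgroup G) (hVc : ∀ x ∈ V, ∀ y ∈ V, x * y = y * x) (a : G)
    (ha : a ∈ Subgroup.normalizer (V : Set G)) : V →* V :=
  MonoidHom.mk' (fun v => ⟨a * v * a⁻¹ * (v : G)⁻¹, V.mul_mem ((ha v).mp v.2) (V.inv_mem v.2)⟩) (by
    intro v w
    apply Subtype.ext
    simp only [Subgroup.coe_mul]
    have h1 : a * (w : G) * a⁻¹ * (w : G)⁻¹ ∈ V := V.mul_mem ((ha w).mp w.2) (V.inv_mem w.2)
    have h2 := hVc _ h1 _ (V.inv_mem v.2)
    calc a * (v * w) * a⁻¹ * ((v : G) * w)⁻¹
        = a * v * a⁻¹ * ((a * w * a⁻¹ * (w : G)⁻¹) * (v : G)⁻¹) := by group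
      _ = a * v * a⁻¹ * ((v : G)⁻¹ * (a * w * a⁻¹ * (w : G)⁻¹)) := by rw [h2]
      _ = a * v * a⁻¹ * (v : G)⁻¹ * (a * w * a⁻¹ * (w : G)⁻¹) := by group)

theorem commHom_apply (V : Subgroup G) (hVc : ∀ x ∈ V, ∀ y ∈ V, x * y = y * x) (a : G)
    (ha : a ∈ Subgroup.normalizer (V : Set G)) (v : V) :
    ((commHom V hVc a ha v : V) : G) = a * v * a⁻¹ * (v : G)⁻¹ := rfl

theorem commHom_ker (V : Subgroup G) (hVc : ∀ x ∈ V, ∀ y ∈ V, x * y = y * x) (a : G)
    (ha : a ∈ Subgroup.normalizer (V : Set G)) :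
    (commHom V hVc a ha).ker =
      (Subgroup.centralizer ((Subgroup.zpowers a : Subgroup G) : Set G)).subgroupOf V := by
  ext v
  rw [MonoidHom.mem_ker, Subgroup.mem_subgroupOf, centralizer_zpowers_eq,
    Subgroup.mem_centralizer_iff]
  constructor
  · intro h x hx
    rw [Set.mem_singleton_iff] at hx; subst hx
    have h1 := congrArg Subtype.val h
    rw [commHom_apply, Subgroup.coe_one, mul_inv_eq_one, mul_inv_eq_iff_eq_mul] at h1
    exact h1
  · intro h
    apply Subtype.ext
    rw [commHom_apply, Subgroup.coe_one, mul_inv_eq_one, mul_inv_eq_iff_eq_mul]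
    exact h a rfl

theorem commutator_zpowers_eq (V : Subgroup G) (hVc : ∀ x ∈ V, ∀ y ∈ V, x * y = y * x) (a : G)
    (ha : a ∈ Subgroup.normalizer (V : Set G)) :
    ⁅V, Subgroup.zpowers a⁆ = (commHom V hVc a ha).range.map V.subtype := by
  set D := (commHom V hVc a ha).range.map V.subtype with hD
  have hmemD : ∀ v ∈ V, a * v * a⁻¹ * v⁻¹ ∈ D := by
    intro v hv
    exact ⟨commHom V hVc a ha ⟨v, hv⟩, ⟨⟨v, hv⟩, rfl⟩, rfl⟩
  have hDV : D ≤ V := Subgroup.map_subtype_le _
  apply le_antisymm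
  · -- the subgroup of elements acting trivially on `V / D`
    have hDa : ∀ d ∈ D, a * d * a⁻¹ ∈ D := by
      rintro _ ⟨_, ⟨v, rfl⟩, rfl⟩
      simp only [Subgroup.coe_subtype, commHom_apply]
      have := hmemD (a * v * a⁻¹) ((ha v).mp v.2)
      have e : a * (a * (v : G) * a⁻¹ * (v : G)⁻¹) * a⁻¹ =
          a * (a * v * a⁻¹) * a⁻¹ * (a * v * a⁻¹)⁻¹ := by group
      rw [e]; exact this
    have hDa' : ∀ d ∈ D, a⁻¹ * d * a ∈ D := by
      -- conjugation by `a` is an injective self-map of the finite... avoid: use explicit formula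
      rintro _ ⟨_, ⟨v, rfl⟩, rfl⟩
      simp only [Subgroup.coe_subtype, commHom_apply]
      have hv' : a⁻¹ * v * a ∈ V := by
        have := (Subgroup.inv_mem _ ha) v
        rw [inv_inv] at this
        exact this.mp v.2
      have := hmemD (a⁻¹ * v * a) hv'
      have e : a⁻¹ * (a * (v : G) * a⁻¹ * (v : G)⁻¹) * a =
          a * (a⁻¹ * v * a) * a⁻¹ * (a⁻¹ * v * a)⁻¹ := by group
      rw [e]; exact this
    let X : Subgroup G :=
      { carrier := {x | (∀ d ∈ D, x * d * x⁻¹ ∈ D) ∧ (∀ d ∈ D, x⁻¹ * d * x ∈ D) ∧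
          (∀ v ∈ V, v * x * v⁻¹ * x⁻¹ ∈ D) }
        one_mem' := by
          refine ⟨fun d hd => by simpa using hd, fun d hd => by simpa using hd, fun v _ => ?_⟩
          simp
        mul_mem' := by
          rintro x y ⟨hx1, hx2, hx3⟩ ⟨hy1, hy2, hy3⟩
          refine ⟨fun d hd => ?_, fun d hd => ?_, fun v hv => ?_⟩
          · have := hx1 _ (hy1 d hd)
            have e : x * y * d * (x * y)⁻¹ = x * (y * d * y⁻¹) * x⁻¹ := by group
            rw [e]; exact this
          · have := hy2 _ (hx2 d hd)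
            have e : (x * y)⁻¹ * d * (x * y) = y⁻¹ * (x⁻¹ * d * x) * y := by group
            rw [e]; exact this
          · have h1 := hx3 v hv
            have h2 := hx1 _ (hy3 v hv)
            have e : v * (x * y) * v⁻¹ * (x * y)⁻¹ =
                (v * x * v⁻¹ * x⁻¹) * (x * (v * y * v⁻¹ * y⁻¹) * x⁻¹) := by group
            rw [e]; exact D.mul_mem h1 h2
        inv_mem' := by
          rintro x ⟨hx1, hx2, hx3⟩
          refine ⟨fun d hd => by simpa using hx2 d hd, fun d hd => by simpa using hx1 d hd,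
            fun v hv => ?_⟩
          have h1 := hx2 _ (D.inv_mem (hx3 v hv))
          have e : v * x⁻¹ * v⁻¹ * x⁻¹⁻¹ = x⁻¹ * (v * x * v⁻¹ * x⁻¹)⁻¹ * x := by group
          rw [e]; exact h1 }
    have haX : a ∈ X := by
      refine ⟨hDa, hDa', fun v hv => ?_⟩
      have := D.inv_mem (hmemD v hv)
      have e : v * a * v⁻¹ * a⁻¹ = (a * v * a⁻¹ * v⁻¹)⁻¹ := by group
      rw [e]; exact this
    have hzX : Subgroup.zpowers a ≤ X := by
      rw [Subgroup.zpowers_le]; exact haX
    rw [Subgroup.commutator_le]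
    intro v hv x hx
    rw [commutatorElement_def]
    exact (hzX hx).2.2 v hv
  · rw [hD, Subgroup.map_le_iff_le_comap]
    rintro _ ⟨v, rfl⟩
    rw [Subgroup.mem_comap, Subgroup.coe_subtype, commHom_apply, Subgroup.commutator_comm]
    have := Subgroup.commutator_mem_commutator (Subgroup.mem_zpowers a) v.2
    rw [commutatorElement_def] at this
    exact this

/-- `|[V, a]| · |C_V(a)| = |V|`. -/
theorem card_commutator_mul_card_centralizer [Finite G] (V : Subgroup G)
    (hVc : ∀ x ∈ V, ∀ y ∈ V, x * y = y * x) (a : G) (ha : a ∈ Subgroup.normalizer (V : Set G)) :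
    Nat.card ↥⁅V, Subgroup.zpowers a⁆ *
      Nat.card ↥(V ⊓ Subgroup.centralizer ((Subgroup.zpowers a : Subgroup G) : Set G)) =
        Nat.card V := by
  rw [commutator_zpowers_eq V hVc a ha,
    Subgroup.card_map_of_injective V.subtype_injective, ← Subgroup.index_ker, commHom_ker]
  have h1 : Nat.card ↥(V ⊓ Subgroup.centralizer ((Subgroup.zpowers a : Subgroup G) : Set G)) =
      Nat.card ↥((Subgroup.centralizer ((Subgroup.zpowers a : Subgroup G) : Set G)).subgroupOf V) := by
    rw [← Subgroup.inf_subgroupOf_left]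
    exact (Nat.card_congr (Subgroup.subgroupOfEquivOfLe inf_le_left).toEquiv).symm
  rw [h1]
  exact Subgroup.index_mul_card _

end Cfsg.Agent.Helper10
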