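import Mathlib
import Cfsg.Prelude.Def_Transfer

/-!
# The conjugation representation on an elementary abelian subgroup

For `V` elementary abelian and `H ≤ N_G(V)`, the `ZMod p`-linear representation of `H` on
(an additive copy of) `V`.
-/

set_option autoImplicit false

namespace Cfsg.Agent.Helper10

open Cfsg

open scoped commutatorElement

universe u

variable {G : Type u} [Group G]

/-- Additive copy of an elementary abelian subgroup. -/
def ElemAbAdd (p : ℕ) (V : Subgroup G) (_hV : IsElementaryAbelian p V) : Type u := Additive V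

namespace ElemAbAdd

variable {p : ℕ} {V : Subgroup G} (hV : IsElementaryAbelian p V)

/-- the identification `V → ElemAbAdd p V hV` -/
def ofV (v : V) : ElemAbAdd p V hV := Additive.ofMul v

/-- the identification `ElemAbAdd p V hV → V` -/
def toV (x : ElemAbAdd p V hV) : V := Additive.toMul x

@[simp] theorem toV_ofV (v : V) : toV hV (ofV hV v) = v := rfl
@[simp] theorem ofV_toV (x : ElemAbAdd p V hV) : ofV hV (toV hV x) = x := rfl

theorem ofV_injective : Function.Injective (ofV hV) := fun _ _ h => h

instance instAddGroup : AddGroup (ElemAbAdd p V hV) := inferInstanceAs (AddGroup (Additive V))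

instance instAddCommGroup : AddCommGroup (ElemAbAdd p V hV) :=
  { instAddGroup hV with
    add_comm := fun a b => by
      haveI := hV.1
      exact congrArg Additive.ofMul (mul_comm' (Additive.toMul a) (Additive.toMul b)) }

theorem ofV_mul (v w : V) : ofV hV (v * w) = ofV hV v + ofV hV w := rfl
theorem ofV_one : ofV hV 1 = 0 := rfl
theorem ofV_inv (v : V) : ofV hV v⁻¹ = - ofV hV v := rfl
theorem ofV_div (v w : V) : ofV hV (v / w) = ofV hV v - ofV hV w := rfl
theorem ofV_pow (v : V) (n : ℕ) : ofV hV (v ^ n) = n • ofV hV v := rfl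

theorem nsmul_eq_zero (x : ElemAbAdd p V hV) : p • x = 0 := by
  have h := hV.2 (toV hV x) (toV hV x).2
  have h' : (toV hV x) ^ p = 1 := Subtype.ext (by simpa using h)
  rw [← ofV_toV hV x, ← ofV_pow, h', ofV_one]

noncomputable instance instModule : Module (ZMod p) (ElemAbAdd p V hV) :=
  AddCommGroup.zmodModule (n := p) (nsmul_eq_zero hV)

instance instFinite [Finite V] : Finite (ElemAbAdd p V hV) :=
  inferInstanceAs (Finite (Additive V))

end ElemAbAdd

/-- conjugation by a normalizing element as an endomorphism of `V` -/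
def conjHomOfNormalizer (V : Subgroup G) (g : G) (hg : g ∈ Subgroup.normalizer (V : Set G)) :
    V →* V where
  toFun v := ⟨g * v * g⁻¹, (hg v).mp v.2⟩
  map_one' := by ext; simp
  map_mul' x y := by ext; simp

variable {p : ℕ} {V H : Subgroup G} (hV : IsElementaryAbelian p V)
  (hHV : H ≤ Subgroup.normalizer (V : Set G))

/-- The conjugation representation of `H ≤ N_G(V)` on the elementary abelian subgroup `V`. -/
noncomputable def conjRep : H →* Module.End (ZMod p) (ElemAbAdd p V hV) where
  toFun h := AddMonoidHom.toZModLinearMap p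
    (MonoidHom.toAdditive (conjHomOfNormalizer V h (hHV h.2)) :
      ElemAbAdd p V hV →+ ElemAbAdd p V hV)
  map_one' := by
    ext x
    change ElemAbAdd.ofV hV ⟨(1 : G) * (ElemAbAdd.toV hV x : G) * (1 : G)⁻¹, _⟩ = x
    simp
  map_mul' h k := by
    ext x
    change ElemAbAdd.ofV hV ⟨((h : G) * k) * (ElemAbAdd.toV hV x : G) * ((h : G) * k)⁻¹, _⟩ =
      ElemAbAdd.ofV hV ⟨(h : G) * ((k : G) * (ElemAbAdd.toV hV x : G) * (k : G)⁻¹) * (h : G)⁻¹, _⟩
    congr 2
    group

theorem conjRep_apply (h : H) (v : V) :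
    conjRep hV hHV h (ElemAbAdd.ofV hV v) =
      ElemAbAdd.ofV hV ⟨(h : G) * v * (h : G)⁻¹, (hHV h.2 v).mp v.2⟩ := rfl

theorem conjRep_eq_one_iff (h : H) :
    conjRep hV hHV h = 1 ↔ (h : G) ∈ Subgroup.centralizer (V : Set G) := by
  rw [Subgroup.mem_centralizer_iff]
  constructor
  · intro h1 v hv
    have := congrArg (fun f => f (ElemAbAdd.ofV hV ⟨v, hv⟩)) h1
    simp only [conjRep_apply, Module.End.one_apply] at this
    have h2 := congrArg Subtype.val (ElemAbAdd.ofV_injective hV this)
    simp only at h2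
    rw [mul_inv_eq_iff_eq_mul] at h2
    exact h2.symm
  · intro h1
    ext x
    rw [← ElemAbAdd.ofV_toV hV x, conjRep_apply, Module.End.one_apply]
    congr 1
    apply Subtype.ext
    simp only
    rw [← h1 _ (ElemAbAdd.toV hV x).2]
    group

theorem conjRep_injective (hf : H ⊓ Subgroup.centralizer (V : Set G) = ⊥) :
    Function.Injective (conjRep hV hHV) := by
  rw [injective_iff_map_eq_one]
  intro h h1
  rw [conjRep_eq_one_iff] at h1
  have : (h : G) ∈ H ⊓ Subgroup.centralizer (V : Set G) := ⟨h.2, h1⟩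
  rw [hf, Subgroup.mem_bot] at this
  exact Subtype.ext this

/-- quadratic action in commutator form gives the pointwise quadratic identity -/
theorem conjRep_quadratic (a : H)
    (hq : ⁅⁅V, Subgroup.zpowers (a : G)⁆, Subgroup.zpowers (a : G)⁆ = ⊥)
    (x : ElemAbAdd p V hV) :
    conjRep hV hHV a (conjRep hV hHV a x - x) = conjRep hV hHV a x - x := by
  rw [← ElemAbAdd.ofV_toV hV x]
  set v := ElemAbAdd.toV hV x with hv
  rw [conjRep_apply, ← ElemAbAdd.ofV_div, conjRep_apply]
  congr 1
  apply Subtype.ext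
  simp only [Subgroup.coe_div]
  -- c = a v a⁻¹ v⁻¹ commutes with a
  have hc1 : ⁅(a : G), (v : G)⁆ ∈ ⁅V, Subgroup.zpowers (a : G)⁆ := by
    rw [Subgroup.commutator_comm]
    exact Subgroup.commutator_mem_commutator (Subgroup.mem_zpowers _) v.2
  have hc2 : ⁅⁅(a : G), (v : G)⁆, (a : G)⁆ = 1 := by
    have := Subgroup.commutator_mem_commutator hc1 (Subgroup.mem_zpowers (a : G))
    rw [hq, Subgroup.mem_bot] at this
    exact this
  rw [commutatorElement_def] at hc2
  have hc3 : (a : G) * ⁅(a : G), (v : G)⁆ * (a : G)⁻¹ = ⁅(a : G), (v : G)⁆ := by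
    have h4 := mul_inv_eq_one.mp hc2
    have h5 := mul_inv_eq_iff_eq_mul.mp h4
    rw [← h5]
    group
  rw [commutatorElement_def] at hc3
  rw [div_eq_mul_inv]
  exact hc3

end Cfsg.Agent.Helper10
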