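import Mathlib

set_option autoImplicit false

/-!
# Transvection-like actions on an elementary abelian group (helper10)

`G` acts on an additive commutative group `M` of exponent `p` via `φ : G →* AddMonoid.End M`.
An element `a` is a `Trans φ a b` if it fixes `b` and moves every `w` by a multiple of `b`.
For two such elements `a, a'` we show: either the group they generate acts as a `p`-group
(degenerate case), or there is an element inverting `b` whose action commutes with `a`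
(nondegenerate case).
-/

namespace Cfsg.Agent.Helper10.CycAct

variable {G : Type*} [Group G] {M : Type*} [AddCommGroup M] (φ : G →* AddMonoid.End M)

theorem act_mul (x y : G) (w : M) : φ (x * y) w = φ x (φ y w) := by
  rw [map_mul]; rfl

theorem act_one (w : M) : φ 1 w = w := by rw [map_one]; rfl

theorem act_inv_act (x : G) (w : M) : φ x⁻¹ (φ x w) = w := by
  rw [← act_mul, inv_mul_cancel, act_one]

theorem act_act_inv (x : G) (w : M) : φ x (φ x⁻¹ w) = w := by
  rw [← act_mul, mul_inv_cancel, act_one]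

theorem act_pow_fix {x : G} {k : M} (hk : φ x k = k) (n : ℕ) : φ (x ^ n) k = k := by
  induction n with
  | zero => rw [pow_zero, act_one]
  | succ n ih => rw [pow_succ, act_mul, hk, ih]

theorem act_pow {x : G} {w k : M} (hw : φ x w = k + w) (hk : φ x k = k) (n : ℕ) :
    φ (x ^ n) w = n • k + w := by
  induction n with
  | zero => simp
  | succ n ih =>
    rw [pow_succ, act_mul, hw, map_add, ih, act_pow_fix φ hk]
    module

/-- `a` fixes `b` and moves every element by a multiple of `b`. -/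
structure Trans (a : G) (b : M) : Prop where
  fix : φ a b = b
  sub : ∀ w, ∃ i : ℤ, φ a w = i • b + w

variable {φ}

theorem Trans.fix_zsmul {a : G} {b : M} (h : Trans φ a b) (i : ℤ) : φ a (i • b) = i • b := by
  rw [map_zsmul, h.fix]

theorem Trans.act_pow_exp {a : G} {b : M} (h : Trans φ a b) {p : ℕ} (hexp : ∀ w : M, p • w = 0)
    (w : M) : φ (a ^ p) w = w := by
  obtain ⟨i, hi⟩ := h.sub w
  rw [act_pow φ hi (h.fix_zsmul i), hexp, zero_add]

/-- Degenerate case: if `a` fixes `b'` then `⟨a, a'⟩` stabilizes the chain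
`0 ≤ ⟨b'⟩ ≤ ⟨b, b'⟩ ≤ M`, hence every element `s` of it has `s ^ (p * p)` acting trivially. -/
theorem act_pow_sq_of_degenerate [Finite G] {p : ℕ} (hexp : ∀ w : M, p • w = 0) {a a' : G}
    {b b' : M} (ha : Trans φ a b) (ha' : Trans φ a' b') (hdeg : φ a b' = b') :
    ∀ s ∈ Subgroup.zpowers a ⊔ Subgroup.zpowers a', ∀ w, φ (s ^ (p * p)) w = w := by
  set N₁ : AddSubgroup M := AddSubgroup.zmultiples b' with hN₁
  set N₂ : AddSubgroup M := AddSubgroup.zmultiples b ⊔ AddSubgroup.zmultiples b' with hN₂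
  have hN12 : N₁ ≤ N₂ := le_sup_right
  have hbN₂ : AddSubgroup.zmultiples b ≤ N₂ := le_sup_left
  let P : G → Prop := fun d =>
    (∀ w, φ d w - w ∈ N₂) ∧ (∀ w ∈ N₂, φ d w - w ∈ N₁) ∧ (∀ w ∈ N₁, φ d w = w)
  have hP1 : P 1 := by
    refine ⟨fun w => ?_, fun w _ => ?_, fun w _ => act_one φ w⟩
    · rw [act_one, sub_self]; exact N₂.zero_mem
    · rw [act_one, sub_self]; exact N₁.zero_mem
  have hkey : ∀ d e w, φ (d * e) w - w
      = (φ d (φ e w - w) - (φ e w - w)) + (φ e w - w) + (φ d w - w) := by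
    intro d e w
    rw [act_mul, map_sub]; abel
  have hPmul : ∀ d e, P d → P e → P (d * e) := by
    rintro d e ⟨hd1, hd2, hd3⟩ ⟨he1, he2, he3⟩
    refine ⟨fun w => ?_, fun w hw => ?_, fun w hw => ?_⟩
    · rw [hkey]
      exact add_mem (add_mem (hN12 (hd2 _ (he1 w))) (he1 w)) (hd1 w)
    · rw [hkey, hd3 _ (he2 w hw), sub_self, zero_add]
      exact add_mem (he2 w hw) (hd2 w hw)
    · rw [act_mul, he3 w hw, hd3 w hw]
  have hPpow : ∀ d, P d → ∀ n : ℕ, P (d ^ n) := by
    intro d hd n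
    induction n with
    | zero => rw [pow_zero]; exact hP1
    | succ n ih => rw [pow_succ]; exact hPmul _ _ ih hd
  have hPinv : ∀ d, P d → P d⁻¹ := by
    intro d hd
    have : d⁻¹ = d ^ (orderOf d - 1) := by
      apply inv_eq_of_mul_eq_one_right
      rw [← pow_succ', Nat.sub_add_cancel (orderOf_pos d), pow_orderOf_eq_one]
    rw [this]; exact hPpow d hd _
  let S : Subgroup G :=
    { carrier := {d | P d}
      mul_mem' := fun {d e} hd he => hPmul d e hd he
      one_mem' := hP1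
      inv_mem' := fun {d} hd => hPinv d hd }
  have haS : a ∈ S := by
    show P a
    refine ⟨fun w => ?_, fun w hw => ?_, fun w hw => ?_⟩
    · obtain ⟨i, hi⟩ := ha.sub w
      rw [hi, add_sub_cancel_right]
      exact hbN₂ (AddSubgroup.zsmul_mem_zmultiples b i)
    · obtain ⟨y, hy, z, hz, rfl⟩ := AddSubgroup.mem_sup.1 hw
      obtain ⟨m, rfl⟩ := AddSubgroup.mem_zmultiples_iff.1 hy
      obtain ⟨n, rfl⟩ := AddSubgroup.mem_zmultiples_iff.1 hz
      rw [map_add, map_zsmul, map_zsmul, ha.fix, hdeg, sub_self]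
      exact N₁.zero_mem
    · obtain ⟨n, rfl⟩ := AddSubgroup.mem_zmultiples_iff.1 hw
      rw [map_zsmul, hdeg]
  have ha'S : a' ∈ S := by
    show P a'
    refine ⟨fun w => ?_, fun w hw => ?_, fun w hw => ?_⟩
    · obtain ⟨i, hi⟩ := ha'.sub w
      rw [hi, add_sub_cancel_right]
      exact hN12 (AddSubgroup.zsmul_mem_zmultiples b' i)
    · obtain ⟨y, hy, z, hz, rfl⟩ := AddSubgroup.mem_sup.1 hw
      obtain ⟨m, rfl⟩ := AddSubgroup.mem_zmultiples_iff.1 hy
      obtain ⟨n, rfl⟩ := AddSubgroup.mem_zmultiples_iff.1 hz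
      obtain ⟨i, hi⟩ := ha'.sub b
      rw [map_add, map_zsmul, map_zsmul, ha'.fix, hi]
      have : m • (i • b' + b) + n • b' - (m • b + n • b') = (m * i) • b' := by module
      rw [this]
      exact AddSubgroup.zsmul_mem_zmultiples b' _
    · obtain ⟨n, rfl⟩ := AddSubgroup.mem_zmultiples_iff.1 hw
      rw [map_zsmul, ha'.fix]
  have hle : Subgroup.zpowers a ⊔ Subgroup.zpowers a' ≤ S :=
    sup_le ((Subgroup.zpowers_le).2 haS) ((Subgroup.zpowers_le).2 ha'S)
  intro s hs w
  have hPs : P s := hle hs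
  -- step 1: `s ^ p` is trivial on `N₂`
  have h1 : ∀ v ∈ N₂, φ (s ^ p) v = v := by
    intro v hv
    have hk : φ s (φ s v - v) = φ s v - v := hPs.2.2 _ (hPs.2.1 v hv)
    have hv' : φ s v = (φ s v - v) + v := by abel
    rw [act_pow φ hv' hk, hexp, zero_add]
  have hPsp : P (s ^ p) := hPpow s hPs p
  have hk : φ (s ^ p) (φ (s ^ p) w - w) = φ (s ^ p) w - w := h1 _ (hPsp.1 w)
  have hw' : φ (s ^ p) w = (φ (s ^ p) w - w) + w := by abel
  rw [pow_mul, act_pow φ hw' hk, hexp, zero_add]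

/-- Nondegenerate case: there is an element inverting `b` and `b'` whose square acts trivially and
whose action commutes with that of `a`. -/
theorem exists_inverting {p : ℕ} [hp : Fact p.Prime] (hexp : ∀ w : M, p • w = 0) {a a' : G}
    {b b' : M} (ha : Trans φ a b) (ha' : Trans φ a' b') (hnd : φ a b' ≠ b') (hnd' : φ a' b ≠ b) :
    ∃ z : G, (∀ w, φ (z * z) w = w) ∧ (∀ w, φ z (φ a w) = φ a (φ z w)) ∧
      φ z b = -b ∧ φ z b' = -b' := by
  have hpz : ∀ w : M, (p : ℤ) • w = 0 := fun w => by rw [natCast_zsmul]; exact hexp w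
  obtain ⟨α, hα⟩ := ha.sub b'
  obtain ⟨β, hβ⟩ := ha'.sub b
  have hα0 : α • b ≠ 0 := fun h0 => hnd (by rw [hα, h0, zero_add])
  have hβ0 : β • b' ≠ 0 := fun h0 => hnd' (by rw [hβ, h0, zero_add])
  have hpα : ¬ (p : ℤ) ∣ α := by
    rintro ⟨k, rfl⟩
    exact hα0 (by rw [mul_comm, mul_smul, hpz, smul_zero])
  have hpβ : ¬ (p : ℤ) ∣ β := by
    rintro ⟨k, rfl⟩
    exact hβ0 (by rw [mul_comm, mul_smul, hpz, smul_zero])
  have hprime : Prime (p : ℤ) := Nat.prime_iff_prime_int.mp hp.out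
  obtain ⟨xα, yα, hxα⟩ : IsCoprime α (p : ℤ) :=
    (hprime.irreducible.coprime_iff_not_dvd.2 hpα).symm
  obtain ⟨xβ, yβ, hxβ⟩ : IsCoprime β (p : ℤ) :=
    (hprime.irreducible.coprime_iff_not_dvd.2 hpβ).symm
  have hp0 : (p : ℤ) ≠ 0 := by exact_mod_cast hp.out.ne_zero
  set j : ℤ := (-(xα * xβ)) % p with hj
  have hj0 : 0 ≤ j := Int.emod_nonneg _ hp0
  obtain ⟨n, hn⟩ : ∃ n : ℕ, (n : ℤ) = j := ⟨j.toNat, Int.toNat_of_nonneg hj0⟩
  obtain ⟨k, hk⟩ : ∃ k : ℤ, α * n * β + 1 = p * k := by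
    refine ⟨yα + yβ - yα * yβ * p - α * β * (-(xα * xβ) / p), ?_⟩
    have h1 : j = -(xα * xβ) - p * (-(xα * xβ) / p) := by rw [hj, Int.emod_def]
    rw [hn, h1]
    linear_combination (-(xβ * β)) * hxα - (1 - yα * p) * hxβ
  have kb : (α * n * β + 1) • b = 0 := by rw [hk, mul_smul, hpz]
  have kb' : (α * n * β + 1) • b' = 0 := by rw [hk, mul_smul, hpz]
  have hb1 : (xα * α) • b = b := by
    have : xα * α = 1 - p * yα := by linarith
    rw [this, sub_smul, one_smul, mul_smul, hpz, sub_zero]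
  have hb1' : (xβ * β) • b' = b' := by
    have : xβ * β = 1 - p * yβ := by linarith
    rw [this, sub_smul, one_smul, mul_smul, hpz, sub_zero]
  set w₁ : G := a * a' ^ n * a with hw₁
  have h1 : φ (a' ^ n) b = n • (β • b') + b := act_pow φ hβ (ha'.fix_zsmul β) n
  have h2 : φ (a' ^ n) b' = b' := act_pow_fix φ ha'.fix n
  have hw₁b : φ w₁ b = ((n : ℤ) * β) • b' := by
    rw [hw₁, act_mul, act_mul, ha.fix, h1, map_add, map_nsmul, map_zsmul, hα, ha.fix,
      ← natCast_zsmul]
    linear_combination (norm := module) kb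
  have hw₁b' : φ w₁ b' = α • b := by
    rw [hw₁, act_mul, act_mul, hα, map_add, map_zsmul, h1, h2, map_add, map_zsmul, map_add,
      map_nsmul, map_zsmul, hα, ha.fix, ← natCast_zsmul]
    linear_combination (norm := module) α • kb + kb'
  set z : G := w₁ * w₁ with hz
  have hzb : φ z b = -b := by
    rw [hz, act_mul, hw₁b, map_zsmul, hw₁b']
    linear_combination (norm := module) kb
  have hzb' : φ z b' = -b' := by
    rw [hz, act_mul, hw₁b', map_zsmul, hw₁b]
    linear_combination (norm := module) kb'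
  have hfix : ∀ w₀, φ a w₀ = w₀ → φ a' w₀ = w₀ → φ z w₀ = w₀ := by
    intro w₀ h h'
    have h3 : φ w₁ w₀ = w₀ := by
      rw [hw₁, act_mul, act_mul, h, act_pow_fix φ h', h]
    rw [hz, act_mul, h3, h3]
  have hdec : ∀ w, ∃ (m n' : ℤ) (w₀ : M), w = n' • b + m • b' + w₀ ∧ φ a w₀ = w₀ ∧
      φ a' w₀ = w₀ := by
    intro w
    obtain ⟨i, hi⟩ := ha.sub w
    obtain ⟨l, hl⟩ := ha'.sub w
    refine ⟨xα * i, xβ * l, w - (xβ * l) • b - (xα * i) • b', by abel, ?_, ?_⟩
    · rw [map_sub, map_sub, map_zsmul, map_zsmul, hi, ha.fix, hα]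
      linear_combination (norm := module) (-i) • hb1
    · rw [map_sub, map_sub, map_zsmul, map_zsmul, hl, ha'.fix, hβ]
      linear_combination (norm := module) (-l) • hb1'
  refine ⟨z, fun w => ?_, fun w => ?_, hzb, hzb'⟩
  · obtain ⟨m, n', w₀, rfl, h, h'⟩ := hdec w
    rw [act_mul]
    simp only [map_add, map_zsmul, map_neg, hzb, hzb', hfix w₀ h h', neg_neg]
  · obtain ⟨m, n', w₀, rfl, h, h'⟩ := hdec w
    simp only [map_add, map_zsmul, map_neg, hzb, hzb', hfix w₀ h h', h, hα, ha.fix]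
    module

end Cfsg.Agent.Helper10.CycAct
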