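import Mathlib
import Cfsg.Prelude.Def_LocalEven
import Cfsg.Agent.Lib.Helper10.CycAct
import Cfsg.Agent.Lib.Helper67.BaerSuzuki
import Cfsg.Agent.Lib.Helper34.TNC7
import Cfsg.Agent.Lib.Helper4.ElemAb

set_option autoImplicit false

/-!
# Elements whose cyclic group is normalized by a self-centralizing elementary abelian normal subgroup

Let `V` be an elementary abelian normal `p`-subgroup of the finite group `G` with `C_G(V) ≤ V`, and
let `a ∈ G` be such that `V` normalizes `⟨a⟩`.  If `p` is odd or `G` is `S₄`-free, then `a` lies in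
every Sylow `p`-subgroup of `G` (helper10).
-/

namespace Cfsg.Agent.Helper10.CycNormal

open Cfsg.Agent.Helper10.CycAct
open scoped IsMulCommutative

variable {G : Type*} [Group G]

section pure

theorem commute_of_involution {z a : G} (hz : z * z = 1) {q : ℕ}
    (ht : (z * a * z⁻¹ * a⁻¹) ^ (2 * q + 1) = 1) :
    z * (((z * a * z⁻¹ * a⁻¹) ^ q)⁻¹ * a) = ((z * a * z⁻¹ * a⁻¹) ^ q)⁻¹ * a * z := by
  set t := z * a * z⁻¹ * a⁻¹ with ht_def
  have hzinv : z⁻¹ = z := inv_eq_of_mul_eq_one_left hz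
  have h1 : z * t * z⁻¹ = t⁻¹ := by
    have e1 : z * t * z⁻¹ = (z * z) * a * z⁻¹ * a⁻¹ * z⁻¹ := by rw [ht_def]; group
    have e2 : t⁻¹ = a * z * a⁻¹ * z⁻¹ := by rw [ht_def]; group
    rw [e1, e2, hz, one_mul, hzinv]
  have h2 : z * t ^ q * z⁻¹ = (t ^ q)⁻¹ := by
    rw [← conj_pow, h1, inv_pow]
  have h3 : z * (t ^ q)⁻¹ = t ^ q * z := by
    have : z * (t ^ q)⁻¹ * z⁻¹ = t ^ q := by
      rw [← conj_inv, h2, inv_inv]
    calc z * (t ^ q)⁻¹ = (z * (t ^ q)⁻¹ * z⁻¹) * z := by group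
      _ = t ^ q * z := by rw [this]
  have h4 : z * a = t * a * z := by rw [ht_def]; group
  have h5 : t ^ q * t = (t ^ q)⁻¹ := by
    apply eq_inv_of_mul_eq_one_left
    rw [← pow_succ, ← pow_add]
    have : q + 1 + q = 2 * q + 1 := by ring
    rw [this, ht]
  calc z * ((t ^ q)⁻¹ * a) = (z * (t ^ q)⁻¹) * a := by rw [mul_assoc]
    _ = t ^ q * (z * a) := by rw [h3, mul_assoc]
    _ = t ^ q * t * a * z := by rw [h4]; simp only [mul_assoc]
    _ = (t ^ q)⁻¹ * a * z := by rw [h5]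

theorem pow_mul_comm_of {x a k : G} (hk : a * x = k * x * a) (hak : Commute a k) (n : ℕ) :
    a ^ n * x = k ^ n * x * a ^ n := by
  induction n with
  | zero => simp
  | succ n ih =>
    calc a ^ (n + 1) * x = a * (a ^ n * x) := by rw [pow_succ', mul_assoc]
      _ = a * (k ^ n * x * a ^ n) := by rw [ih]
      _ = (a * k ^ n) * x * a ^ n := by simp only [mul_assoc]
      _ = k ^ n * (a * x) * a ^ n := by rw [(hak.pow_right n).eq]; simp only [mul_assoc]
      _ = k ^ n * (k * x * a) * a ^ n := by rw [hk]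
      _ = k ^ (n + 1) * x * a ^ (n + 1) := by rw [pow_succ, pow_succ']; simp only [mul_assoc]

theorem mul_pow_formula {x a k : G} (hk : a * x = k * x * a) (hak : Commute a k)
    (hkx : Commute k x) (n : ℕ) :
    (x * a) ^ n = k ^ (n * (n - 1) / 2) * x ^ n * a ^ n := by
  induction n with
  | zero => simp
  | succ n ih =>
    rw [pow_succ, ih, Nat.triangle_succ]
    calc k ^ (n * (n - 1) / 2) * x ^ n * a ^ n * (x * a)
        = k ^ (n * (n - 1) / 2) * x ^ n * (a ^ n * x) * a := by simp only [mul_assoc]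
      _ = k ^ (n * (n - 1) / 2) * x ^ n * (k ^ n * x * a ^ n) * a := by
          rw [pow_mul_comm_of hk hak]
      _ = k ^ (n * (n - 1) / 2) * (x ^ n * k ^ n) * x * (a ^ n * a) := by simp only [mul_assoc]
      _ = k ^ (n * (n - 1) / 2) * (k ^ n * x ^ n) * x * (a ^ n * a) := by
          rw [(hkx.pow_pow n n).eq]
      _ = k ^ (n * (n - 1) / 2 + n) * x ^ (n + 1) * a ^ (n + 1) := by
          rw [pow_add, pow_succ, pow_succ]; simp only [mul_assoc]

/-- For odd `p`, if `k ^ p = 1 = x ^ p` then `(x * a) ^ p = a ^ p`. -/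
theorem mul_pow_odd {x a k : G} (hk : a * x = k * x * a) (hak : Commute a k)
    (hkx : Commute k x) {q : ℕ} (hkp : k ^ (2 * q + 1) = 1) (hxp : x ^ (2 * q + 1) = 1) :
    (x * a) ^ (2 * q + 1) = a ^ (2 * q + 1) := by
  rw [mul_pow_formula hk hak hkx, hxp, mul_one]
  have : (2 * q + 1) * (2 * q + 1 - 1) / 2 = (2 * q + 1) * q := by
    have : 2 * q + 1 - 1 = q * 2 := by omega
    rw [this, ← mul_assoc, Nat.mul_div_cancel _ (by norm_num)]
  rw [this, pow_mul, hkp, one_pow, one_mul]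

end pure

section act

variable (V : Subgroup G) [hVn : V.Normal]

/-- The conjugation action of `G` on a normal subgroup `V`, written additively. -/
def actHom : G →* AddMonoid.End (Additive V) where
  toFun g := MonoidHom.toAdditive ((MulAut.conjNormal g : MulAut V).toMonoidHom)
  map_one' := by
    apply AddMonoidHom.ext
    intro v
    simp
    rfl
  map_mul' := by
    intro g h
    apply AddMonoidHom.ext
    intro v
    simp
    rfl

theorem actHom_coe (g : G) (v : V) :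
    ((Additive.toMul (actHom V g (Additive.ofMul v)) : V) : G) = g * v * g⁻¹ := rfl

theorem actHom_eq_iff (g : G) (v w : V) :
    actHom V g (Additive.ofMul v) = Additive.ofMul w ↔ g * v * g⁻¹ = w := by
  constructor
  · intro h
    have := congrArg (fun u => ((Additive.toMul u : V) : G)) h
    exact this
  · intro h
    apply congrArg Additive.ofMul
    apply Subtype.ext
    exact h

theorem mem_of_act_trivial (hCV : Subgroup.centralizer (V : Set G) ≤ V) {g : G}
    (h : ∀ w, actHom V g w = w) : g ∈ V := by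
  apply hCV
  rw [Subgroup.mem_centralizer_iff]
  intro v hv
  have h1 : g * v * g⁻¹ = v := (actHom_eq_iff V g ⟨v, hv⟩ ⟨v, hv⟩).1 (h _)
  calc v * g = (g * v * g⁻¹) * g := by rw [h1]
    _ = g * v := by group

omit hVn in
/-- a generator of `⟨a⟩ ∩ V`. -/
theorem exists_gen (a : G) : ∃ b ∈ V, b ∈ Subgroup.zpowers a ∧
    ∀ x ∈ Subgroup.zpowers a, x ∈ V → x ∈ Subgroup.zpowers b := by
  set B : Subgroup G := Subgroup.zpowers a ⊓ V with hB
  have hBle : B ≤ Subgroup.zpowers a := inf_le_left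
  haveI : IsCyclic (B.subgroupOf (Subgroup.zpowers a)) := Subgroup.isCyclic _
  have hcyc : IsCyclic B := (Subgroup.subgroupOfEquivOfLe hBle).isCyclic.1 inferInstance
  obtain ⟨⟨b, hb⟩, hgen⟩ := hcyc.exists_generator
  refine ⟨b, hb.2, hb.1, fun x hx hxV => ?_⟩
  have h1 := hgen ⟨x, ⟨hx, hxV⟩⟩
  obtain ⟨i, hi⟩ := Subgroup.mem_zpowers_iff.1 h1
  refine Subgroup.mem_zpowers_iff.2 ⟨i, ?_⟩
  simpa using congrArg Subtype.val hi

variable [IsMulCommutative V]

theorem trans_of_gen {a b : G} (hbV : b ∈ V) (hba : b ∈ Subgroup.zpowers a)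
    (ha : ∀ v ∈ V, v * a * v⁻¹ ∈ Subgroup.zpowers a)
    (hgen : ∀ x ∈ Subgroup.zpowers a, x ∈ V → x ∈ Subgroup.zpowers b) :
    Trans (actHom V) a (Additive.ofMul (⟨b, hbV⟩ : V)) := by
  constructor
  · rw [actHom_eq_iff]
    obtain ⟨i, rfl⟩ := Subgroup.mem_zpowers_iff.1 hba
    show a * a ^ i * a⁻¹ = a ^ i
    rw [((Commute.refl a).zpow_right i).eq, mul_inv_cancel_right]
  · intro w
    obtain ⟨v, rfl⟩ := Additive.ofMul.surjective w
    have hk1 : a * (v : G) * a⁻¹ * (v : G)⁻¹ ∈ Subgroup.zpowers a := by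
      have h1 := ha v v.2
      have h2 : a * (v : G) * a⁻¹ * (v : G)⁻¹ = a * ((v : G) * a * (v : G)⁻¹)⁻¹ := by group
      rw [h2]; exact mul_mem (Subgroup.mem_zpowers a) (inv_mem h1)
    have hk2 : a * (v : G) * a⁻¹ * (v : G)⁻¹ ∈ V :=
      mul_mem (hVn.conj_mem v v.2 a) (inv_mem v.2)
    obtain ⟨i, hi⟩ := Subgroup.mem_zpowers_iff.1 (hgen _ hk1 hk2)
    refine ⟨i, ?_⟩
    rw [← ofMul_zpow, ← ofMul_mul, actHom_eq_iff]
    show a * (v : G) * a⁻¹ = ((⟨b, hbV⟩ : V) ^ i * v : V)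
    rw [Subgroup.coe_mul, Subgroup.coe_zpow]
    show a * (v : G) * a⁻¹ = b ^ i * v
    rw [hi]; group

end act

section four

open Cfsg.Agent.Helper4 in
theorem involves_S4_of_pair [Finite G] {a a' b b' : G} (hbb : b * b = 1) (hb'b' : b' * b' = 1)
    (hc : b * b' = b' * b) (hb1 : b ≠ 1) (hb'1 : b' ≠ 1) (hne : b ≠ b')
    (hA1 : a * b * a⁻¹ = b) (hA2 : a * b' * a⁻¹ = b * b') (hA3 : a' * b * a'⁻¹ = b' * b)
    (hA4 : a' * b' * a'⁻¹ = b') : Cfsg.Involves (Equiv.Perm (Fin 4)) G := by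
  set U := fourSub b b' hbb hb'b' hc with hU
  have hcard : Nat.card U = 4 := card_fourSub hbb hb'b' hc hb1 hb'1 hne
  have e1 : b * (b * b') = b' := by rw [← mul_assoc, hbb, one_mul]
  have e2 : b * b' * b = b' := by rw [hc, mul_assoc, hbb, mul_one]
  have e3 : b' * (b * b') = b := by rw [hc, ← mul_assoc, hb'b', one_mul]
  have hA5 : a * (b * b') * a⁻¹ = b' := by rw [← conj_mul, hA1, hA2, e1]
  have hgconj : ∀ x, (a * a') * x * (a * a')⁻¹ = a * (a' * x * a'⁻¹) * a⁻¹ := by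
    intro x; group
  have hG1 : (a * a') * b * (a * a')⁻¹ = b' := by
    rw [hgconj, hA3, ← conj_mul, hA1, hA2, e2]
  have hG2 : (a * a') * b' * (a * a')⁻¹ = b * b' := by
    rw [hgconj, hA4, hA2]
  have hG3 : (a * a') * (b * b') * (a * a')⁻¹ = b := by
    rw [← conj_mul, hG1, hG2, e3]
  have haaconj : ∀ x, (a * a) * x * (a * a)⁻¹ = a * (a * x * a⁻¹) * a⁻¹ := by
    intro x; group
  have hone : ∀ g : G, g * 1 * g⁻¹ = 1 := by intro g; group
  refine Cfsg.Agent.Helper34.TNC.involves_S4_of_fourGroup U hcard (a * a') a ?_ ?_ ?_ ?_ ?_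
  · apply Subgroup.mem_normalizer_fintype
    intro n hn
    rcases mem_fourSub.1 hn with rfl | rfl | rfl | rfl
    · rw [hone]; exact U.one_mem
    · rw [hG1]; exact mem_fourSub.2 (Or.inr (Or.inr (Or.inl rfl)))
    · rw [hG2]; exact mem_fourSub.2 (Or.inr (Or.inr (Or.inr rfl)))
    · rw [hG3]; exact mem_fourSub.2 (Or.inr (Or.inl rfl))
  · apply Subgroup.mem_normalizer_fintype
    intro n hn
    rcases mem_fourSub.1 hn with rfl | rfl | rfl | rfl
    · rw [hone]; exact U.one_mem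
    · rw [hA1]; exact mem_fourSub.2 (Or.inr (Or.inl rfl))
    · rw [hA2]; exact mem_fourSub.2 (Or.inr (Or.inr (Or.inr rfl)))
    · rw [hA5]; exact mem_fourSub.2 (Or.inr (Or.inr (Or.inl rfl)))
  · intro u hu h
    rcases mem_fourSub.1 hu with rfl | rfl | rfl | rfl
    · rfl
    · rw [hG1] at h; exact absurd h.symm hne
    · rw [hG2] at h
      exact absurd (mul_eq_right.1 h) hb1
    · rw [hG3] at h
      exact absurd (left_eq_mul.1 h) hb'1
  · refine ⟨b', mem_fourSub.2 (Or.inr (Or.inr (Or.inl rfl))), ?_⟩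
    rw [hA2]
    intro h
    exact hb1 (mul_eq_right.1 h)
  · intro u hu
    rcases mem_fourSub.1 hu with rfl | rfl | rfl | rfl
    · rw [hone]
    · rw [haaconj, hA1, hA1]
    · rw [haaconj, hA2, hA5]
    · rw [haaconj, hA5, hA2]

end four

section main

variable [Finite G] {p : ℕ} [hp : Fact p.Prime] (V : Subgroup G) [hVn : V.Normal]

include hp in
theorem isPGroup_sup_zpowers
    (hVab : ∀ x ∈ V, ∀ y ∈ V, x * y = y * x) (hVexp : ∀ x ∈ V, x ^ p = 1)
    (hCV : Subgroup.centralizer (V : Set G) ≤ V)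
    (hS4 : p ≠ 2 ∨ ¬ Cfsg.Involves (Equiv.Perm (Fin 4)) G)
    {a a' : G} (ha : ∀ v ∈ V, v * a * v⁻¹ ∈ Subgroup.zpowers a)
    (ha' : ∀ v ∈ V, v * a' * v⁻¹ ∈ Subgroup.zpowers a') :
    IsPGroup p ↥(Subgroup.zpowers a ⊔ Subgroup.zpowers a') := by
  haveI : IsMulCommutative V := ⟨⟨fun x y => Subtype.ext (hVab x x.2 y y.2)⟩⟩
  obtain ⟨b, hbV, hba, hbgen⟩ := exists_gen V a
  obtain ⟨b', hb'V, hb'a, hb'gen⟩ := exists_gen V a'
  have hT := trans_of_gen V hbV hba ha hbgen
  have hT' := trans_of_gen V hb'V hb'a ha' hb'gen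
  set φ := actHom V with hφ
  set β : Additive V := Additive.ofMul ⟨b, hbV⟩ with hβ
  set β' : Additive V := Additive.ofMul ⟨b', hb'V⟩ with hβ'
  have hexp : ∀ w : Additive V, p • w = 0 := by
    intro w
    obtain ⟨v, rfl⟩ := Additive.ofMul.surjective w
    rw [← ofMul_pow]
    apply congrArg Additive.ofMul
    exact Subtype.ext (by simpa using hVexp v v.2)
  have hfin : ∀ (x y : G),
      (∀ s ∈ Subgroup.zpowers x ⊔ Subgroup.zpowers y, ∀ w, φ (s ^ (p * p)) w = w) →
      IsPGroup p ↥(Subgroup.zpowers x ⊔ Subgroup.zpowers y) := by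
    intro x y h s
    refine ⟨3, ?_⟩
    have h1 : (s : G) ^ (p * p) ∈ V := mem_of_act_trivial V hCV (h s s.2)
    have h2 := hVexp _ h1
    apply Subtype.ext
    rw [Subgroup.coe_pow, Subgroup.coe_one, ← h2, ← pow_mul]
    congr 1; ring
  by_cases hd : φ a β' = β'
  · exact hfin a a' (act_pow_sq_of_degenerate hexp hT hT' hd)
  by_cases hd' : φ a' β = β
  · have := hfin a' a (act_pow_sq_of_degenerate hexp hT' hT hd')
    rwa [sup_comm] at this
  exfalso
  have hA1 : a * b * a⁻¹ = b := (actHom_eq_iff V a ⟨b, hbV⟩ ⟨b, hbV⟩).1 hT.fix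
  have hA4 : a' * b' * a'⁻¹ = b' := (actHom_eq_iff V a' ⟨b', hb'V⟩ ⟨b', hb'V⟩).1 hT'.fix
  have hb1 : b ≠ 1 := by
    intro h
    apply hd'
    have : β = 0 := by
      rw [hβ]; apply congrArg Additive.ofMul; exact Subtype.ext h
    rw [this, map_zero]
  have hb'1 : b' ≠ 1 := by
    intro h
    apply hd
    have : β' = 0 := by
      rw [hβ']; apply congrArg Additive.ofMul; exact Subtype.ext h
    rw [this, map_zero]
  by_cases hp2 : p = 2
  · -- the `S₄` case
    have hnI : ¬ Cfsg.Involves (Equiv.Perm (Fin 4)) G := hS4.resolve_left (not_not.2 hp2)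
    apply hnI
    have h2 : ∀ w : Additive V, (2 : ℤ) • w = 0 := by
      intro w
      have h := hexp w
      rw [hp2] at h
      rw [← h, ← natCast_zsmul]; rfl
    have hpar : ∀ (α : ℤ) (w : Additive V), α • w ≠ 0 → α • w = w := by
      intro α w hne
      have e : α • w = (α % 2) • w := by
        conv_lhs => rw [← Int.emod_add_mul_ediv α 2]
        rw [add_smul, mul_smul, h2, add_zero]
      rcases Int.emod_two_eq_zero_or_one α with h | h
      · rw [e, h, zero_smul] at hne; exact absurd rfl hne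
      · rw [e, h, one_smul]
    obtain ⟨α, hα⟩ := hT.sub β'
    obtain ⟨γ, hγ⟩ := hT'.sub β
    have hα0 : α • β ≠ 0 := fun h0 => hd (by rw [hα, h0, zero_add])
    have hγ0 : γ • β' ≠ 0 := fun h0 => hd' (by rw [hγ, h0, zero_add])
    rw [hpar α β hα0] at hα
    rw [hpar γ β' hγ0] at hγ
    have hA2 : a * b' * a⁻¹ = b * b' :=
      (actHom_eq_iff V a ⟨b', hb'V⟩ (⟨b, hbV⟩ * ⟨b', hb'V⟩)).1 hα
    have hA3 : a' * b * a'⁻¹ = b' * b :=
      (actHom_eq_iff V a' ⟨b, hbV⟩ (⟨b', hb'V⟩ * ⟨b, hbV⟩)).1 hγ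
    have hbb : b * b = 1 := by rw [← pow_two, ← hp2]; exact hVexp b hbV
    have hb'b' : b' * b' = 1 := by rw [← pow_two, ← hp2]; exact hVexp b' hb'V
    have hne : b ≠ b' := by
      intro h
      rw [← h, hA1] at hA2
      exact hb1 (left_eq_mul.1 hA2)
    exact involves_S4_of_pair hbb hb'b' (hVab b hbV b' hb'V) hb1 hb'1 hne hA1 hA2 hA3 hA4
  · -- the odd case
    obtain ⟨q, hq⟩ : ∃ q, p = 2 * q + 1 := by
      rcases hp.out.eq_two_or_odd' with h | h
      · exact absurd h hp2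
      · exact h
    obtain ⟨z₀, hz1, hz2, hz3, -⟩ := exists_inverting hexp hT hT' hd hd'
    have hz0V : z₀ * z₀ ∈ V := mem_of_act_trivial V hCV hz1
    set z := z₀ ^ p with hz
    have hzz : z * z = 1 := by
      rw [hz, ← pow_add, ← two_mul, pow_mul, pow_two]
      exact hVexp _ hz0V
    have hφz : ∀ w, φ z w = φ z₀ w := by
      intro w
      rw [hz, hq, pow_succ, pow_mul, pow_two, act_mul, act_pow_fix φ (hz1 (φ z₀ w))]
    have hcomm_za : ∀ w, φ z (φ a w) = φ a (φ z w) := by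
      intro w; rw [hφz, hφz, hz2]
    have hzb : φ z β = -β := by rw [hφz, hz3]
    set t := z * a * z⁻¹ * a⁻¹ with ht
    have htV : t ∈ V := mem_of_act_trivial V hCV (fun w => by
      rw [ht, act_mul, act_mul, act_mul, hcomm_za, act_act_inv, act_act_inv])
    have htp : t ^ (2 * q + 1) = 1 := by rw [← hq]; exact hVexp t htV
    have hzc : z * ((t ^ q)⁻¹ * a) = (t ^ q)⁻¹ * a * z := commute_of_involution hzz htp
    set x := (t ^ q)⁻¹ with hx
    have hxV : x ∈ V := inv_mem (pow_mem htV q)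
    obtain ⟨i, hi⟩ := hT.sub (Additive.ofMul ⟨x, hxV⟩)
    have hxi : a * x * a⁻¹ = b ^ i * x := by
      have := (actHom_eq_iff V a ⟨x, hxV⟩ (⟨b, hbV⟩ ^ i * ⟨x, hxV⟩)).1 hi
      simpa using this
    have hab : Commute a b := by
      show a * b = b * a
      calc a * b = (a * b * a⁻¹) * a := by group
        _ = b * a := by rw [hA1]
    have hbiV : b ^ i ∈ V := zpow_mem hbV i
    have hpow : (x * a) ^ (2 * q + 1) = a ^ (2 * q + 1) := by
      apply mul_pow_odd (k := b ^ i)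
      · calc a * x = (a * x * a⁻¹) * a := by group
          _ = b ^ i * x * a := by rw [hxi]
      · exact hab.zpow_right i
      · exact hVab _ hbiV _ hxV
      · rw [← hq]; exact hVexp _ hbiV
      · rw [← hq]; exact hVexp _ hxV
    have hzap : z * a ^ p = a ^ p * z := by
      have h1 : Commute z (x * a) := by
        show z * (x * a) = x * a * z
        exact hzc
      have h2 := h1.pow_right (2 * q + 1)
      rw [hpow, ← hq] at h2
      exact h2.eq
    have hapV : a ^ p ∈ V := mem_of_act_trivial V hCV (hT.act_pow_exp hexp)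
    obtain ⟨i', hi'⟩ := Subgroup.mem_zpowers_iff.1
      (hbgen (a ^ p) (Subgroup.npow_mem_zpowers a p) hapV)
    have hzbG : z * b * z⁻¹ = b⁻¹ := by
      have := (actHom_eq_iff V z ⟨b, hbV⟩ (⟨b, hbV⟩⁻¹)).1 hzb
      simpa using this
    have hzinv : z * a ^ p * z⁻¹ = (a ^ p)⁻¹ := by
      rw [← hi', ← conj_zpow, hzbG, inv_zpow]
    have hapsq : a ^ p * a ^ p = 1 := by
      have : z * a ^ p * z⁻¹ = a ^ p := by rw [hzap, mul_inv_cancel_right]
      rw [this] at hzinv
      exact mul_eq_one_iff_eq_inv.2 hzinv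
    have hap1 : a ^ p = 1 := by
      have h1 : (a ^ p) ^ (2 * q + 1) = 1 := by rw [← hq]; exact hVexp _ hapV
      rw [pow_succ, pow_mul, pow_two, hapsq, one_pow, one_mul] at h1
      exact h1
    -- hence `a ∈ V`
    obtain ⟨i₀, hi₀⟩ := Subgroup.mem_zpowers_iff.1 hba
    have hpi₀ : ¬ (p : ℤ) ∣ i₀ := by
      rintro ⟨m, rfl⟩
      apply hb1
      rw [← hi₀, zpow_mul, zpow_natCast, hap1, one_zpow]
    have hprime : Prime (p : ℤ) := Nat.prime_iff_prime_int.mp hp.out
    obtain ⟨x₀, y₀, hxy⟩ : IsCoprime i₀ (p : ℤ) :=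
      (hprime.irreducible.coprime_iff_not_dvd.2 hpi₀).symm
    have haV : a ∈ V := by
      have : a = b ^ x₀ := by
        calc a = a ^ (x₀ * i₀ + y₀ * p) := by rw [hxy, zpow_one]
          _ = (a ^ i₀) ^ x₀ * (a ^ (p : ℤ)) ^ y₀ := by
              rw [zpow_add, mul_comm x₀ i₀, zpow_mul, mul_comm y₀ (p : ℤ), zpow_mul]
          _ = b ^ x₀ := by rw [hi₀, zpow_natCast, hap1, one_zpow, mul_one]
      rw [this]; exact zpow_mem hbV x₀
    apply hd
    rw [actHom_eq_iff]
    show a * b' * a⁻¹ = b'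
    rw [hVab a haV b' hb'V, mul_inv_cancel_right]

include hp in
/-- If `V` normalizes `⟨a⟩` then `a` lies in a normal `p`-subgroup of `G`. -/
theorem exists_normal_isPGroup_of_normalizes
    (hVab : ∀ x ∈ V, ∀ y ∈ V, x * y = y * x) (hVexp : ∀ x ∈ V, x ^ p = 1)
    (hCV : Subgroup.centralizer (V : Set G) ≤ V)
    (hS4 : p ≠ 2 ∨ ¬ Cfsg.Involves (Equiv.Perm (Fin 4)) G)
    {a : G} (ha : ∀ v ∈ V, v * a * v⁻¹ ∈ Subgroup.zpowers a) :
    ∃ N : Subgroup G, N.Normal ∧ IsPGroup p N ∧ a ∈ N := by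
  obtain ⟨N, hNn, hNp, hle⟩ := Cfsg.Agent.Helper67.baer_suzuki (p := p) (Subgroup.zpowers a) (by
    intro g
    rw [MonoidHom.map_zpowers]
    apply isPGroup_sup_zpowers V hVab hVexp hCV hS4 ha
    intro v hv
    have hv' : g⁻¹ * v * g ∈ V := by simpa using hVn.conj_mem v hv g⁻¹
    obtain ⟨i, hi⟩ := Subgroup.mem_zpowers_iff.1 (ha _ hv')
    refine Subgroup.mem_zpowers_iff.2 ⟨i, ?_⟩
    show (g * a * g⁻¹) ^ i = v * (g * a * g⁻¹) * v⁻¹
    rw [conj_zpow, hi]; group)
  exact ⟨N, hNn, hNp, hle (Subgroup.mem_zpowers a)⟩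

end main

end Cfsg.Agent.Helper10.CycNormal
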