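import Mathlib
import Cfsg.Prelude.Def_Local
import Cfsg.Prelude.Def_LocalEven
import Cfsg.Agent.Lib.Helper10.CycNormal
import Cfsg.Agent.Lib.Helper24.HH125
import Cfsg.Agent.Lib.Helper2.PGroup
import Cfsg.Agent.Lib.Helper54.Solv
import Cfsg.Agent.Lib.Helper54.PxQ

set_option autoImplicit false

/-!
# Elements of a `p`-solvable group whose cyclic group is normalized by `O_p` (helper10)

In a finite `p`-solvable group `H` with `O_{p'}(H) = 1`, which is `S₄`-free if `p = 2`, an element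
`a` such that `O_p(H)` normalizes `⟨a⟩` lies in `O_p(H)`.
-/

namespace Cfsg.Agent.Helper10.CycCore

open Cfsg
open scoped commutatorElement

theorem mem_pCore_of_normalizes {H : Type*} [Group H] [Finite H] {p : ℕ} [hp : Fact p.Prime]
    (hH : IsPSolvable p H) (hcore : pPrimeCore p H = ⊥)
    (hS4 : p ≠ 2 ∨ ¬ Involves (Equiv.Perm (Fin 4)) H) (a : H)
    (hnorm : ∀ x ∈ pCore p H, x * a * x⁻¹ ∈ Subgroup.zpowers a) : a ∈ pCore p H := by
  set B := pCore p H with hB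
  have hBn : B.Normal := Cfsg.Agent.Helper54.pCore_normal' p
  have hBp : IsPGroup p B := Cfsg.Agent.Helper54.isPGroup_pCore
  set Φ := (frattini ↥B).map B.subtype with hΦ
  have hΦn : Φ.Normal := by
    rw [← Subgroup.normalizer_eq_top_iff, eq_top_iff]
    have h1 := Cfsg.Agent.Helper24.normalizer_le_normalizer_map_subtype_of_characteristic B
      (frattini ↥B)
    rw [Subgroup.normalizer_eq_top_iff.mpr hBn] at h1
    exact h1
  have hΦB : Φ ≤ B := Subgroup.map_subtype_le _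
  have hΦp : IsPGroup p Φ := hBp.to_le hΦB
  set π₂ := QuotientGroup.mk' Φ with hπ₂
  have hπ₂s : Function.Surjective π₂ := QuotientGroup.mk'_surjective Φ
  set V := B.map π₂ with hV
  haveI hVn : V.Normal := hBn.map π₂ hπ₂s
  have hmemΦ : ∀ x : H, π₂ x = 1 ↔ x ∈ Φ := fun x => QuotientGroup.eq_one_iff x
  have hVab : ∀ x ∈ V, ∀ y ∈ V, x * y = y * x := by
    rintro _ ⟨x, hx, rfl⟩ _ ⟨y, hy, rfl⟩
    have h1 : ⁅(⟨x, hx⟩ : B), ⟨y, hy⟩⁆ ∈ frattini ↥B :=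
      Cfsg.Agent.Helper2.commutatorElement_mem_frattini hBp _ _
    have h2 : x * y * x⁻¹ * y⁻¹ ∈ Φ := ⟨_, h1, rfl⟩
    have h3 : π₂ (x * y * x⁻¹ * y⁻¹) = 1 := (hmemΦ _).2 h2
    rw [map_mul, map_mul, map_mul, map_inv, map_inv] at h3
    have h4 := mul_inv_eq_one.1 h3
    calc π₂ x * π₂ y = (π₂ x * π₂ y * (π₂ x)⁻¹) * π₂ x := by group
      _ = π₂ y * π₂ x := by rw [h4]
  have hVexp : ∀ x ∈ V, x ^ p = 1 := by
    rintro _ ⟨x, hx, rfl⟩
    have h1 : (⟨x, hx⟩ : B) ^ p ∈ frattini ↥B := Cfsg.Agent.Helper2.pow_mem_frattini hBp _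
    have h2 : x ^ p ∈ Φ := ⟨_, h1, rfl⟩
    rw [← map_pow]; exact (hmemΦ _).2 h2
  have hCV : Subgroup.centralizer (V : Set (H ⧸ Φ)) ≤ V := by
    intro g hg
    obtain ⟨h, rfl⟩ := hπ₂s g
    refine ⟨h, ?_, rfl⟩
    apply Cfsg.Agent.Helper24.mem_pCore_of_commutator_mem_frattini hH hcore h
    intro x hx
    rw [← hmemΦ]
    rw [Subgroup.mem_centralizer_iff] at hg
    have h1 := hg (π₂ x) ⟨x, hx, rfl⟩
    rw [map_mul, map_mul, map_mul, map_inv, map_inv, ← h1]; group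
  have hS4' : p ≠ 2 ∨ ¬ Involves (Equiv.Perm (Fin 4)) (H ⧸ Φ) := by
    rcases hS4 with h | h
    · exact Or.inl h
    · exact Or.inr (fun hI => h (Cfsg.Agent.Helper34.TNC.involves_of_surjective' hI π₂ hπ₂s))
  have ha₂ : ∀ v ∈ V, v * π₂ a * v⁻¹ ∈ Subgroup.zpowers (π₂ a) := by
    rintro _ ⟨x, hx, rfl⟩
    obtain ⟨i, hi⟩ := Subgroup.mem_zpowers_iff.1 (hnorm x hx)
    refine Subgroup.mem_zpowers_iff.2 ⟨i, ?_⟩
    rw [← map_zpow, hi, map_mul, map_mul, map_inv]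
  obtain ⟨N, hNn, hNp, haN⟩ :=
    Cfsg.Agent.Helper10.CycNormal.exists_normal_isPGroup_of_normalizes V hVab hVexp hCV hS4' ha₂
  have h1 : (N.comap π₂).Normal := hNn.comap π₂
  have h2 : IsPGroup p (N.comap π₂) :=
    hNp.comap_of_ker_isPGroup π₂ (by rw [QuotientGroup.ker_mk']; exact hΦp)
  exact Cfsg.Agent.Helper54.le_pCore h1 h2 haN

end Cfsg.Agent.Helper10.CycCore
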