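import Mathlib
import Cfsg.Prelude.Def_GeometricClasses
import Cfsg.Agent.Lib.Helper97.ESDefs

/-!
# ES (A6) for helper97's S5877 server: `r ∣ n` (via determinants; no parity needed)
-/

set_option autoImplicit false

namespace Cfsg.Agent.Helper10.ES

open Cfsg Cfsg.Geo Cfsg.Agent.Helper97.ES
open scoped MatrixGroups commutatorElement

section grp

variable {F : Type*} [Field F] [Finite F] {n r : ℕ} {R : Subgroup (GL (Fin n) F)}

omit [Finite F] in
/-- (B1) an element of `R` commuting with all of `R` is a scalar matrix. -/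
theorem h10_scalar_of_comm (S : Setup r R) (y : GL (Fin n) F)
    (hc : ∀ x ∈ R, x * y = y * x) :
    ∃ c : F, (y : Matrix (Fin n) (Fin n) F) = c • (1 : Matrix (Fin n) (Fin n) F) := by
  refine S.hirr.2 (y : Matrix (Fin n) (Fin n) F) ?_
  rintro s ⟨x, hx, rfl⟩
  have h := hc x hx
  have h2 := congrArg (fun u : GL (Fin n) F => (u : Matrix (Fin n) (Fin n) F)) h
  simpa using h2.symm

omit [Finite F] in
/-- there is a non-trivial commutator in `R`, and it is a scalar `ξ • 1` with `ξ ^ r = 1`, `ξ ≠ 1`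
(when `0 < n`). -/
theorem h10_exists_comm (S : Setup r R) :
    ∃ x ∈ R, ∃ y ∈ R, ∃ ξ : F, x * y * x⁻¹ * y⁻¹ ≠ 1 ∧
      ((x * y * x⁻¹ * y⁻¹ : GL (Fin n) F) : Matrix (Fin n) (Fin n) F)
        = ξ • (1 : Matrix (Fin n) (Fin n) F) ∧
      (x * y * x⁻¹ * y⁻¹) ^ r = 1 := by
  classical
  have hr := S.hr
  -- the commutator subgroup is not trivial
  have hne : commutator R ≠ ⊥ := by
    intro h
    have h1 : Nat.card (commutator R) = r := by rw [S.hext]; exact S.hZ
    rw [h] at h1
    simp at h1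
    exact hr.one_lt.ne h1
  have hex : ∃ x y : R, ⁅x, y⁆ ≠ 1 := by
    by_contra hcon
    push Not at hcon
    apply hne
    rw [commutator_def, Subgroup.commutator_eq_bot_iff_le_centralizer]
    intro a _
    rw [Subgroup.mem_centralizer_iff]
    intro b _
    have := hcon b a
    rw [commutatorElement_def] at this
    calc b * a = (b * a * b⁻¹ * a⁻¹) * (a * b) := by group
      _ = a * b := by rw [this, one_mul]
  obtain ⟨x, y, hxy⟩ := hex
  have hk : ⁅x, y⁆ ∈ Subgroup.center R := by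
    rw [← S.hext, commutator_def]
    exact Subgroup.commutator_mem_commutator (Subgroup.mem_top x) (Subgroup.mem_top y)
  -- it is a scalar
  have hsc : ∃ c : F, (((⁅x, y⁆ : R) : GL (Fin n) F) : Matrix (Fin n) (Fin n) F)
      = c • (1 : Matrix (Fin n) (Fin n) F) := by
    apply h10_scalar_of_comm S
    intro u hu
    have := (Subgroup.mem_center_iff.mp hk) ⟨u, hu⟩
    have h2 := congrArg (fun w : R => (w : GL (Fin n) F)) this
    simpa using h2
  obtain ⟨ξ, hξ⟩ := hsc
  have hval : ((⁅x, y⁆ : R) : GL (Fin n) F) = (x : GL (Fin n) F) * y * (x : GL (Fin n) F)⁻¹ * (y : GL (Fin n) F)⁻¹ := by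
    rw [commutatorElement_def]; simp
  refine ⟨x, x.2, y, y.2, ξ, ?_, ?_, ?_⟩
  · intro h
    apply hxy
    apply Subtype.ext
    rw [hval, h]; rfl
  · rw [← hval]; exact hξ
  · rw [← hval]
    have h1 : (⟨⁅x, y⁆, hk⟩ : Subgroup.center R) ^ r = 1 := by
      have := pow_card_eq_one' (G := Subgroup.center R) (x := ⟨⁅x, y⁆, hk⟩)
      rwa [S.hZ] at this
    have h2 := congrArg (fun w : Subgroup.center R => ((w : R) : GL (Fin n) F)) h1
    simpa using h2

/-- **(A6) `r ∣ n`.** -/
theorem dvd_dim (S : Setup r R) (hodd : Odd r) : r ∣ n := by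
  classical
  obtain ⟨x, hx, y, hy, ξ, hne, hmat, hpow⟩ := h10_exists_comm S
  have hr := S.hr
  rcases Nat.eq_zero_or_pos n with h0 | hn
  · subst h0; exact dvd_zero r
  have : Nonempty (Fin n) := ⟨⟨0, hn⟩⟩
  -- ξ ≠ 1
  have hξ1 : ξ ≠ 1 := by
    intro h
    apply hne
    apply Units.ext
    rw [hmat, h, one_smul]; rfl
  -- ξ ^ r = 1
  have hξr : ξ ^ r = 1 := by
    have h2 := congrArg (fun w : GL (Fin n) F => (w : Matrix (Fin n) (Fin n) F)) hpow
    simp only [Units.val_pow_eq_pow_val, Units.val_one] at h2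
    rw [hmat, smul_pow, one_pow] at h2
    have h3 := congrFun (congrFun h2 ⟨0, hn⟩) ⟨0, hn⟩
    simpa using h3
  -- determinant: x y x⁻¹ = ξ • y
  have hconj : ((x * y * x⁻¹ : GL (Fin n) F) : Matrix (Fin n) (Fin n) F)
      = ξ • (y : Matrix (Fin n) (Fin n) F) := by
    have : (x * y * x⁻¹ : GL (Fin n) F) = (x * y * x⁻¹ * y⁻¹) * y := by group
    rw [this, Units.val_mul, hmat, Matrix.smul_mul, Matrix.one_mul]
  have hdet := congrArg Matrix.det hconj
  rw [Matrix.det_smul, Fintype.card_fin] at hdet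
  have hdet2 : Matrix.det ((x * y * x⁻¹ : GL (Fin n) F) : Matrix (Fin n) (Fin n) F)
      = Matrix.det (y : Matrix (Fin n) (Fin n) F) := by
    rw [Units.val_mul, Units.val_mul, Matrix.det_mul, Matrix.det_mul, mul_comm, ← mul_assoc,
      ← Matrix.det_mul]
    have : ((x⁻¹ : GL (Fin n) F) : Matrix (Fin n) (Fin n) F) * (x : Matrix (Fin n) (Fin n) F) = 1 := by
      rw [← Units.val_mul, inv_mul_cancel]; rfl
    rw [this, Matrix.det_one, one_mul]
  rw [hdet2] at hdet
  have hdy : Matrix.det (y : Matrix (Fin n) (Fin n) F) ≠ 0 := by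
    have := Matrix.GeneralLinearGroup.det_ne_zero y
    exact (Matrix.isUnit_iff_isUnit_det _).mp ⟨y, rfl⟩ |>.ne_zero
  have hξn : ξ ^ n = 1 := by
    have : (1 : F) * Matrix.det (y : Matrix (Fin n) (Fin n) F)
        = ξ ^ n * Matrix.det (y : Matrix (Fin n) (Fin n) F) := by rw [one_mul]; exact hdet
    exact (mul_right_cancel₀ hdy this).symm
  have hord : orderOf ξ = r := by
    have hd := orderOf_dvd_of_pow_eq_one hξr
    rcases (Nat.dvd_prime hr).mp hd with h | h
    · exact absurd (orderOf_eq_one_iff.mp h) hξ1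
    · exact h
  rw [← hord]
  exact orderOf_dvd_of_pow_eq_one hξn

end grp

end Cfsg.Agent.Helper10.ES
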