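import Mathlib
import Cfsg.Prelude.Def_GeometricClasses
import Cfsg.Agent.Lib.Helper97.ESDefs
import Cfsg.Agent.Lib.Helper10.ESA6

/-!
# ES (A4) for helper97's S5877 server: `two_bound` (r = 2, g of odd order: 2 w ≤ n)
-/

set_option autoImplicit false

namespace Cfsg.Agent.Helper10.ES

open Cfsg Cfsg.Geo Cfsg.Agent.Helper97.ES
open scoped MatrixGroups commutatorElement

/-! ### pure group theory -/

/-- polarisation with central commutators -/
theorem h10_polar {K : Type*} [Group K] (a a' b b' κ₁ κ₂ : K)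
    (hκ₁ : ∀ h, h * κ₁ = κ₁ * h) (hκ₂ : ∀ h, h * κ₂ = κ₂ * h)
    (h1 : a' * b = κ₁ * (b * a')) (h2 : b' * a = κ₂ * (a * b'))
    (haa : a' * a = a * a') (hbb : b' * b = b * b')
    (hab : a' * b' * (a * b) = a * b * (a' * b')) : κ₂ * κ₁ = 1 := by
  have e : a' * b' * (a * b) = κ₂ * κ₁ * (a * b * (a' * b')) := by
    calc a' * b' * (a * b) = a' * (b' * a) * b := by simp only [mul_assoc]
      _ = a' * (κ₂ * (a * b')) * b := by rw [h2]
      _ = (a' * κ₂) * (a * b') * b := by simp only [mul_assoc]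
      _ = (κ₂ * a') * (a * b') * b := by rw [hκ₂ a']
      _ = κ₂ * ((a' * a) * (b' * b)) := by simp only [mul_assoc]
      _ = κ₂ * ((a * a') * (b * b')) := by rw [haa, hbb]
      _ = κ₂ * (a * (a' * b) * b') := by simp only [mul_assoc]
      _ = κ₂ * (a * (κ₁ * (b * a')) * b') := by rw [h1]
      _ = κ₂ * ((a * κ₁) * (b * a') * b') := by simp only [mul_assoc]
      _ = κ₂ * ((κ₁ * a) * (b * a') * b') := by rw [hκ₁ a]
      _ = κ₂ * κ₁ * (a * b * (a' * b')) := by simp only [mul_assoc]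
  rw [hab] at e
  have e2 : 1 * (a * b * (a' * b')) = κ₂ * κ₁ * (a * b * (a' * b')) := by rw [one_mul]; exact e
  exact (mul_right_cancel e2).symm

/-- the polarisation argument: if `g x g⁻¹` commutes with `x` for `x = a, b, a b` and the relevant
commutators are central, then `(g⁻¹ a g)⁻¹ (g a g⁻¹)` commutes with `b`. -/
theorem h10_polar2 {K : Type*} [Group K] (g a b : K)
    (c1 : ∀ h, h * (g * a * g⁻¹ * b * (g * a * g⁻¹)⁻¹ * b⁻¹)
      = (g * a * g⁻¹ * b * (g * a * g⁻¹)⁻¹ * b⁻¹) * h)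
    (c2 : ∀ h, h * (g * b * g⁻¹ * a * (g * b * g⁻¹)⁻¹ * a⁻¹)
      = (g * b * g⁻¹ * a * (g * b * g⁻¹)⁻¹ * a⁻¹) * h)
    (haa : g * a * g⁻¹ * a = a * (g * a * g⁻¹)) (hbb : g * b * g⁻¹ * b = b * (g * b * g⁻¹))
    (hab : g * (a * b) * g⁻¹ * (a * b) = a * b * (g * (a * b) * g⁻¹)) :
    ((g⁻¹ * a * g)⁻¹ * (g * a * g⁻¹)) * b = b * ((g⁻¹ * a * g)⁻¹ * (g * a * g⁻¹)) := by
  obtain ⟨κ₁, hκ₁⟩ : ∃ κ₁, κ₁ = g * a * g⁻¹ * b * (g * a * g⁻¹)⁻¹ * b⁻¹ := ⟨_, rfl⟩
  obtain ⟨κ₂, hκ₂⟩ : ∃ κ₂, κ₂ = g * b * g⁻¹ * a * (g * b * g⁻¹)⁻¹ * a⁻¹ := ⟨_, rfl⟩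
  rw [← hκ₁] at c1
  rw [← hκ₂] at c2
  have h1 : (g * a * g⁻¹) * b = κ₁ * (b * (g * a * g⁻¹)) := by rw [hκ₁]; group
  have h2 : (g * b * g⁻¹) * a = κ₂ * (a * (g * b * g⁻¹)) := by rw [hκ₂]; group
  have hab' : (g * a * g⁻¹) * (g * b * g⁻¹) * (a * b) = a * b * ((g * a * g⁻¹) * (g * b * g⁻¹)) := by
    have : (g * a * g⁻¹) * (g * b * g⁻¹) = g * (a * b) * g⁻¹ := by group
    rw [this]; exact hab
  have hk := h10_polar a (g * a * g⁻¹) b (g * b * g⁻¹) κ₁ κ₂ c1 c2 h1 h2 haa hbb hab'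
  -- the commutator of u with b is κ₁ * κ₂
  have e1 : ((g⁻¹ * a * g)⁻¹ * (g * a * g⁻¹)) * b * ((g⁻¹ * a * g)⁻¹ * (g * a * g⁻¹))⁻¹ * b⁻¹
      = (g⁻¹ * a * g)⁻¹ * κ₁ * (b * (g⁻¹ * a * g) * b⁻¹) := by rw [hκ₁]; group
  have e2 : (g⁻¹ * a * g)⁻¹ * b * (g⁻¹ * a * g) * b⁻¹ = g⁻¹ * (a⁻¹ * κ₂ * a) * g := by
    rw [hκ₂]; group
  have e3 : g⁻¹ * (a⁻¹ * κ₂ * a) * g = κ₂ := by
    rw [c2 a⁻¹, mul_assoc κ₂, inv_mul_cancel, mul_one, c2 g⁻¹, mul_assoc, inv_mul_cancel, mul_one]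
  have e4 : (g⁻¹ * a * g)⁻¹ * κ₁ * (b * (g⁻¹ * a * g) * b⁻¹) = κ₁ * κ₂ := by
    rw [c1 (g⁻¹ * a * g)⁻¹, ← e3, ← e2]; group
  have e5 : κ₁ * κ₂ = 1 := by rw [← c1 κ₂]; exact hk
  have e6 := e1.trans (e4.trans e5)
  have e7 : ((g⁻¹ * a * g)⁻¹ * (g * a * g⁻¹)) * b
      = (((g⁻¹ * a * g)⁻¹ * (g * a * g⁻¹)) * b * ((g⁻¹ * a * g)⁻¹ * (g * a * g⁻¹))⁻¹ * b⁻¹)
        * (b * ((g⁻¹ * a * g)⁻¹ * (g * a * g⁻¹))) := by group
  rw [e7, e6, one_mul]

/-! ### scalars -/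

section sc

variable {F : Type*} [Field F] {n : ℕ}

/-- scalars are central in `GL` -/
theorem h10_sc_comm (z : GL (Fin n) F) (hz : z ∈ scalars (Fin n) F) (h : GL (Fin n) F) :
    h * z = z * h := by
  obtain ⟨c, hc⟩ := (mem_scalars_iff z).mp hz
  apply Units.ext
  rw [Units.val_mul, Units.val_mul, hc, Matrix.mul_smul, Matrix.smul_mul, Matrix.mul_one,
    Matrix.one_mul]

/-- `-1` is a scalar -/
theorem h10_neg_one_mem : (-1 : GL (Fin n) F) ∈ scalars (Fin n) F := by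
  rw [mem_scalars_iff]
  refine ⟨-1, ?_⟩
  simp

/-- in characteristic 2, `-u = u` in `GL` -/
theorem h10_neg_eq_of_two (h2 : (2 : F) = 0) (u : GL (Fin n) F) : -u = u := by
  apply Units.ext
  rw [Units.val_neg]
  have : (2 : F) • (u : Matrix (Fin n) (Fin n) F) = 0 := by rw [h2, zero_smul]
  rw [two_smul] at this
  exact neg_eq_of_add_eq_zero_left this

end sc

section grp

variable {F : Type*} [Field F] {n r : ℕ} {R : Subgroup (GL (Fin n) F)}

/-- (B1) in `GL` form -/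
theorem h10_mem_scalars_of_comm (S : Setup r R) (y : GL (Fin n) F)
    (hc : ∀ x ∈ R, x * y = y * x) : y ∈ scalars (Fin n) F := by
  obtain ⟨c, hc⟩ := h10_scalar_of_comm S y hc
  rw [mem_scalars_iff]
  by_cases h0 : c = 0
  · refine ⟨1, ?_⟩
    have hy0 : (y : Matrix (Fin n) (Fin n) F) = 0 := by rw [hc, h0, zero_smul]
    have h10 : (1 : Matrix (Fin n) (Fin n) F) = 0 := by
      have : (y : Matrix (Fin n) (Fin n) F) * ((y⁻¹ : GL (Fin n) F) : Matrix (Fin n) (Fin n) F) = 1 := by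
        rw [← Units.val_mul, mul_inv_cancel]; rfl
      rw [← this, hy0, Matrix.zero_mul]
    rw [hy0, Units.val_one, one_smul, h10]
  · exact ⟨Units.mk0 c h0, by rw [hc]; rfl⟩

/-- (B3) `HZ R = scalars * R` -/
theorem h10_hz_decomp (a : GL (Fin n) F) (ha : a ∈ HZ R) :
    ∃ z ∈ scalars (Fin n) F, ∃ ρ ∈ R, a = z * ρ := by
  obtain ⟨y, hy, z, hz, hyz⟩ := Subgroup.mem_sup_of_normal_right.mp ha
  refine ⟨z, hz, y, hy, ?_⟩
  rw [← hyz, h10_sc_comm z hz y]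

/-- (B5) an element of `HZ R` commuting with `R` is a scalar -/
theorem h10_hz_scalar_of_comm (S : Setup r R) (y : GL (Fin n) F) (hy : y ∈ HZ R)
    (hc : ∀ x ∈ R, x * y = y * x) : y ∈ scalars (Fin n) F := by
  obtain ⟨z, hz, ρ, hρ, rfl⟩ := h10_hz_decomp y hy
  refine mul_mem hz (h10_mem_scalars_of_comm S ρ ?_)
  intro x hx
  have h1 := hc x hx
  have h2 : z * (x * ρ) = z * (ρ * x) := by
    rw [← mul_assoc, ← h10_sc_comm z hz x, mul_assoc, h1, mul_assoc]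
  exact mul_left_cancel h2

/-- commutators of elements of `R` are scalars whose `r`-th power is `1` -/
theorem h10_comm_scalar (S : Setup r R) (x : GL (Fin n) F) (hx : x ∈ R) (y : GL (Fin n) F)
    (hy : y ∈ R) :
    x * y * x⁻¹ * y⁻¹ ∈ scalars (Fin n) F ∧ (x * y * x⁻¹ * y⁻¹) ^ r = 1 := by
  have hk : ⁅(⟨x, hx⟩ : R), (⟨y, hy⟩ : R)⁆ ∈ Subgroup.center R := by
    rw [← S.hext, commutator_def]
    exact Subgroup.commutator_mem_commutator (Subgroup.mem_top _) (Subgroup.mem_top _)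
  have hval : ((⁅(⟨x, hx⟩ : R), (⟨y, hy⟩ : R)⁆ : R) : GL (Fin n) F) = x * y * x⁻¹ * y⁻¹ := by
    rw [commutatorElement_def]; simp
  constructor
  · rw [← hval]
    apply h10_mem_scalars_of_comm S
    intro u hu
    have := (Subgroup.mem_center_iff.mp hk) ⟨u, hu⟩
    have h2 := congrArg (fun w : R => (w : GL (Fin n) F)) this
    simpa using h2
  · rw [← hval]
    have h1 : (⟨⁅(⟨x, hx⟩ : R), (⟨y, hy⟩ : R)⁆, hk⟩ : Subgroup.center R) ^ r = 1 := by
      have := pow_card_eq_one' (G := Subgroup.center R) (x := ⟨⁅(⟨x, hx⟩ : R), (⟨y, hy⟩ : R)⁆, hk⟩)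
      rwa [S.hZ] at this
    have h2 := congrArg (fun w : Subgroup.center R => ((w : R) : GL (Fin n) F)) h1
    simpa using h2

/-- a scalar in `GL` with square `1` is `1` or `-1` -/
theorem h10_sq_one (z : GL (Fin n) F) (hz : z ∈ scalars (Fin n) F) (h2 : z ^ 2 = 1) :
    z = 1 ∨ z = -1 := by
  rcases Nat.eq_zero_or_pos n with h0 | hn
  · subst h0
    left
    apply Units.ext
    exact Subsingleton.elim _ _
  obtain ⟨c, hc⟩ := (mem_scalars_iff z).mp hz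
  have h3 := congrArg (fun w : GL (Fin n) F => (w : Matrix (Fin n) (Fin n) F)) h2
  simp only [Units.val_pow_eq_pow_val, Units.val_one] at h3
  rw [hc, smul_pow, one_pow] at h3
  have h4 := congrFun (congrFun h3 ⟨0, hn⟩) ⟨0, hn⟩
  have h5 : (c : F) * (c : F) = 1 := by
    have : ((c : F)) ^ 2 = 1 := by simpa using h4
    rw [← this]; ring
  rcases mul_self_eq_one_iff.mp h5 with h | h
  · left
    apply Units.ext
    rw [hc, h, one_smul]; rfl
  · right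
    apply Units.ext
    rw [hc, h, Units.val_neg, Units.val_one, neg_smul, one_smul]

/-- for `r = 2`: two elements of `R` commute or anticommute -/
theorem h10_pm (S : Setup 2 R) (x : GL (Fin n) F) (hx : x ∈ R) (y : GL (Fin n) F) (hy : y ∈ R) :
    x * y = y * x ∨ x * y = -(y * x) := by
  obtain ⟨h1, h2⟩ := h10_comm_scalar S x hx y hy
  have e : x * y = (x * y * x⁻¹ * y⁻¹) * (y * x) := by group
  rcases h10_sq_one _ h1 h2 with h | h
  · left; rw [e, h, one_mul]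
  · right; rw [e, h, neg_mul, one_mul]

/-- for `r = 2`: two elements of `HZ R` commute or anticommute -/
theorem h10_pm_hz (S : Setup 2 R) (a : GL (Fin n) F) (ha : a ∈ HZ R) (b : GL (Fin n) F)
    (hb : b ∈ HZ R) : a * b = b * a ∨ a * b = -(b * a) := by
  obtain ⟨z₁, hz₁, ρ₁, hρ₁, rfl⟩ := h10_hz_decomp a ha
  obtain ⟨z₂, hz₂, ρ₂, hρ₂, rfl⟩ := h10_hz_decomp b hb
  have e1 : z₁ * ρ₁ * (z₂ * ρ₂) = (z₁ * z₂) * (ρ₁ * ρ₂) := by
    rw [mul_assoc, ← mul_assoc ρ₁, h10_sc_comm z₂ hz₂ ρ₁, mul_assoc, ← mul_assoc]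
  have e2 : z₂ * ρ₂ * (z₁ * ρ₁) = (z₁ * z₂) * (ρ₂ * ρ₁) := by
    rw [mul_assoc, ← mul_assoc ρ₂, h10_sc_comm z₁ hz₁ ρ₂, mul_assoc, ← mul_assoc,
      h10_sc_comm z₁ hz₁ z₂]
  rcases h10_pm S ρ₁ hρ₁ ρ₂ hρ₂ with h | h
  · left; rw [e1, e2, h]
  · right; rw [e1, e2, h, mul_neg]

/-- for `r = 2`: commutators of elements of `HZ R` are central in `GL` -/
theorem h10_comm_central (S : Setup 2 R) (a : GL (Fin n) F) (ha : a ∈ HZ R) (b : GL (Fin n) F)
    (hb : b ∈ HZ R) (h : GL (Fin n) F) :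
    h * (a * b * a⁻¹ * b⁻¹) = (a * b * a⁻¹ * b⁻¹) * h := by
  apply h10_sc_comm
  rcases h10_pm_hz S a ha b hb with e | e
  · have : a * b * a⁻¹ * b⁻¹ = 1 := by rw [e]; group
    rw [this]; exact one_mem _
  · have : a * b * a⁻¹ * b⁻¹ = -1 := by
      rw [e, neg_mul, neg_mul]
      congr 1
      group
    rw [this]; exact h10_neg_one_mem

/-- for `r = 2`: squares of elements of `R` are scalars -/
theorem h10_sq_scalar (S : Setup 2 R) (x : GL (Fin n) F) (hx : x ∈ R) :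
    x * x ∈ scalars (Fin n) F := by
  apply h10_mem_scalars_of_comm S
  intro y hy
  rcases h10_pm S y hy x hx with e | e
  · rw [← mul_assoc, e, mul_assoc, e, ← mul_assoc]
  · rw [← mul_assoc, e, neg_mul, mul_assoc, e, mul_neg, neg_neg, ← mul_assoc]

/-- the trivially acting elements are closed under products -/
theorem h10_triv_mul (h₁ h₂ : GL (Fin n) F) (t₁ : Triv R h₁) (t₂ : Triv R h₂) :
    Triv R (h₁ * h₂) := by
  intro x hx
  have e : h₁ * h₂ * x * (h₁ * h₂)⁻¹ * x⁻¹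
      = h₁ * (h₂ * x * h₂⁻¹ * x⁻¹) * h₁⁻¹ * (h₁ * x * h₁⁻¹ * x⁻¹) := by group
  rw [e]
  exact mul_mem (scalars_normal.conj_mem _ (t₂ x hx) h₁) (t₁ x hx)

theorem h10_triv_pow (h : GL (Fin n) F) (t : Triv R h) (k : ℕ) : Triv R (h ^ k) := by
  induction k with
  | zero =>
    intro x hx
    simp only [pow_zero, one_mul, inv_one, mul_one, mul_inv_cancel]
    exact one_mem _
  | succ k ih =>
    rw [pow_succ]
    exact h10_triv_mul _ _ ih t

end grp

section main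

variable {F : Type*} [Field F] {n : ℕ} {R : Subgroup (GL (Fin n) F)}

/-- the linear map of an element of `GL` -/
noncomputable def h10L (h : GL (Fin n) F) : (Fin n → F) →ₗ[F] (Fin n → F) :=
  Matrix.toLin' (h : Matrix (Fin n) (Fin n) F)

theorem h10L_mul (h₁ h₂ : GL (Fin n) F) (v : Fin n → F) :
    h10L (h₁ * h₂) v = h10L h₁ (h10L h₂ v) := by
  unfold h10L
  rw [Units.val_mul, Matrix.toLin'_mul]; rfl

theorem h10L_one (v : Fin n → F) : h10L (1 : GL (Fin n) F) v = v := by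
  unfold h10L
  rw [Units.val_one, Matrix.toLin'_one]; rfl

theorem h10L_neg_one (v : Fin n → F) : h10L (-1 : GL (Fin n) F) v = -v := by
  unfold h10L
  rw [Units.val_neg, Units.val_one, map_neg, Matrix.toLin'_one]; rfl

theorem h10L_inv_cancel (h : GL (Fin n) F) (v : Fin n → F) : h10L h⁻¹ (h10L h v) = v := by
  rw [← h10L_mul, inv_mul_cancel, h10L_one]

theorem h10L_cancel_inv (h : GL (Fin n) F) (v : Fin n → F) : h10L h (h10L h⁻¹ v) = v := by
  rw [← h10L_mul, mul_inv_cancel, h10L_one]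

theorem h10_eDim_eq (g : GL (Fin n) F) (c : F) :
    eDim g c = Module.finrank F (Module.End.eigenspace (h10L g) c) := rfl

/-- Step 1: some `x ∈ R` does not commute with `g x g⁻¹`. -/
theorem h10_exists_anti (S : Setup 2 R) (g : GL (Fin n) F)
    (hg : g ∈ subgroupNormalizer (HZ R)) (hnt : ¬ Triv R g) (ϖ : ℕ) (hodd : Odd ϖ)
    (hpow : g ^ ϖ = 1) : ∃ x ∈ R, g * x * g⁻¹ * x ≠ x * (g * x * g⁻¹) := by
  by_contra hcon
  push Not at hcon
  apply hnt
  have hg' : g ∈ Subgroup.normalizer ((HZ R : Subgroup (GL (Fin n) F)) : Set (GL (Fin n) F)) := hg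
  have hN : ∀ h, h ∈ HZ R ↔ g * h * g⁻¹ ∈ HZ R := Subgroup.mem_normalizer_iff.mp hg'
  have hN' : ∀ h, h ∈ HZ R ↔ g⁻¹ * h * g ∈ HZ R := Subgroup.mem_normalizer_iff''.mp hg'
  have hRH : R ≤ HZ R := le_sup_left
  have t2 : Triv R (g * g) := by
    intro a ha
    have ha' : g * a * g⁻¹ ∈ HZ R := (hN a).mp (hRH ha)
    have ha'' : g⁻¹ * a * g ∈ HZ R := (hN' a).mp (hRH ha)
    have hu : (g⁻¹ * a * g)⁻¹ * (g * a * g⁻¹) ∈ HZ R := mul_mem (inv_mem ha'') ha'
    have hus : (g⁻¹ * a * g)⁻¹ * (g * a * g⁻¹) ∈ scalars (Fin n) F := by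
      apply h10_hz_scalar_of_comm S _ hu
      intro b hb
      have hb' : g * b * g⁻¹ ∈ HZ R := (hN b).mp (hRH hb)
      exact (h10_polar2 g a b (h10_comm_central S _ ha' _ (hRH hb))
        (h10_comm_central S _ hb' _ (hRH ha)) (hcon a ha) (hcon b hb)
        (hcon (a * b) (mul_mem ha hb))).symm
    have e : g * g * a * (g * g)⁻¹ * a⁻¹
        = a * (g * ((g⁻¹ * a * g)⁻¹ * (g * a * g⁻¹)) * g⁻¹) * a⁻¹ := by group
    rw [e]
    exact scalars_normal.conj_mem _ (scalars_normal.conj_mem _ hus g) a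
  obtain ⟨m, hm⟩ := hodd
  have e : g = (g * g) ^ (m + 1) := by
    rw [← pow_two, ← pow_mul]
    have : 2 * (m + 1) = ϖ + 1 := by omega
    rw [this, pow_succ, hpow, one_mul]
  rw [e]
  exact h10_triv_pow _ t2 _

end main

section grp

variable {F : Type*} [Field F] [Finite F] {n r : ℕ} {R : Subgroup (GL (Fin n) F)}

/-- **(A4) `r = 2`, `g` of odd order: `2 w ≤ n`.** -/
theorem two_bound (S : Setup 2 R) (g : GL (Fin n) F)
    (hg : g ∈ subgroupNormalizer (HZ R)) (hnt : ¬ Triv R g) (ϖ : ℕ) (hodd : Odd ϖ)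
    (hpow : g ^ ϖ = 1) (c : F) : 2 * eDim g c ≤ n := by
  classical
  obtain ⟨x, hx, hne⟩ := h10_exists_anti S g hg hnt ϖ hodd hpow
  have hg' : g ∈ Subgroup.normalizer ((HZ R : Subgroup (GL (Fin n) F)) : Set (GL (Fin n) F)) := hg
  have hRH : R ≤ HZ R := le_sup_left
  have ha : g * x * g⁻¹ ∈ HZ R := (Subgroup.mem_normalizer_iff.mp hg' x).mp (hRH hx)
  have hanti : g * x * g⁻¹ * x = -(x * (g * x * g⁻¹)) := by
    rcases h10_pm_hz S _ ha x (hRH hx) with h | h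
    · exact absurd h hne
    · exact h
  -- char ≠ 2
  have h2 : (2 : F) ≠ 0 := by
    intro h2
    apply hne
    rw [hanti]; exact h10_neg_eq_of_two h2 _
  -- y' := x⁻¹ * g * x * g⁻¹ squares to -1
  have hxx := h10_sq_scalar S x hx
  have hy2 : (x⁻¹ * g * x * g⁻¹) * (x⁻¹ * g * x * g⁻¹) = -1 := by
    have e1 : x⁻¹ * (g * x * g⁻¹) = -((g * x * g⁻¹) * x⁻¹) := by
      have := congrArg (fun u => x⁻¹ * u * x⁻¹) hanti
      simp only [mul_neg, neg_mul] at this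
      have l : x⁻¹ * (g * x * g⁻¹ * x) * x⁻¹ = x⁻¹ * (g * x * g⁻¹) := by group
      have r : x⁻¹ * (x * (g * x * g⁻¹)) * x⁻¹ = (g * x * g⁻¹) * x⁻¹ := by group
      rw [l, r] at this; exact this
    have e2 : (g * x * g⁻¹) * x⁻¹ = -(x⁻¹ * (g * x * g⁻¹)) := by rw [e1, neg_neg]
    have e3 : (x⁻¹ * g * x * g⁻¹) * (x⁻¹ * g * x * g⁻¹)
        = x⁻¹ * ((g * x * g⁻¹) * x⁻¹) * (g * x * g⁻¹) := by group
    have e4 : g * (x * x) * g⁻¹ = x * x := by
      rw [h10_sc_comm _ hxx g, mul_assoc, mul_inv_cancel, mul_one]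
    have e5 : x⁻¹ * (x⁻¹ * (g * x * g⁻¹)) * (g * x * g⁻¹)
        = (x * x)⁻¹ * (g * (x * x) * g⁻¹) := by group
    rw [e3, e2, mul_neg, neg_mul, e5, e4, inv_mul_cancel]
  rw [h10_eDim_eq]
  rcases eq_or_ne c 0 with hc0 | hc0
  · have hbot : Module.End.eigenspace (h10L g) c = ⊥ := by
      rw [eq_bot_iff]
      intro v hv
      rw [Module.End.mem_eigenspace_iff, hc0, zero_smul] at hv
      have := h10L_inv_cancel g v
      rw [hv, map_zero] at this
      rw [Submodule.mem_bot]; exact this.symm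
    rw [hbot, finrank_bot]; omega
  · obtain ⟨W, hW⟩ : ∃ W, W = Module.End.eigenspace (h10L g) c := ⟨_, rfl⟩
    rw [← hW]
    have hXi_inj : Function.Injective (h10L x⁻¹) := by
      intro v w hvw
      have := congrArg (h10L x) hvw
      rwa [h10L_cancel_inv, h10L_cancel_inv] at this
    have hfr : Module.finrank F (W.map (h10L x⁻¹)) = Module.finrank F W :=
      (Submodule.equivMapOfInjective (h10L x⁻¹) hXi_inj W).finrank_eq.symm
    have hinf : W ⊓ W.map (h10L x⁻¹) = ⊥ := by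
      rw [eq_bot_iff]
      rintro v ⟨hvW, w, hwW, hwv⟩
      rw [Submodule.mem_bot]
      have hvW' : v ∈ W := hvW
      have hwW' : w ∈ W := hwW
      rw [hW, Module.End.mem_eigenspace_iff] at hvW' hwW'
      have hXv : h10L x v = w := by rw [← hwv, h10L_cancel_inv]
      have hGiv : h10L g⁻¹ v = c⁻¹ • v := by
        have := h10L_inv_cancel g v
        rw [hvW', map_smul] at this
        rw [← this, smul_smul, inv_mul_cancel₀ hc0, one_smul, this]
      have hy'v : h10L (x⁻¹ * g * x * g⁻¹) v = v := by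
        rw [h10L_mul, h10L_mul, h10L_mul, hGiv, map_smul, hXv, map_smul, hwW', map_smul,
          map_smul, smul_smul, inv_mul_cancel₀ hc0, one_smul, hwv]
      have h3 : h10L ((x⁻¹ * g * x * g⁻¹) * (x⁻¹ * g * x * g⁻¹)) v = v := by
        rw [h10L_mul, hy'v, hy'v]
      rw [hy2, h10L_neg_one] at h3
      have h4 : (2 : F) • v = 0 := by
        rw [two_smul]
        nth_rewrite 1 [← h3]
        exact neg_add_cancel v
      rcases smul_eq_zero.mp h4 with h | h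
      · exact absurd h h2
      · exact h
    have hsum := Submodule.finrank_sup_add_finrank_inf_eq W (W.map (h10L x⁻¹))
    rw [hinf, finrank_bot, add_zero, hfr] at hsum
    have hle : Module.finrank F ↥(W ⊔ W.map (h10L x⁻¹)) ≤ n := by
      have := Submodule.finrank_le (W ⊔ W.map (h10L x⁻¹))
      simpa using this
    omega

end grp

end Cfsg.Agent.Helper10.ES
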