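import Mathlib
import Cfsg.Agent.Lib.Helper52.FCDefs
import Cfsg.Agent.Lib.Helper52.Coprime
import Cfsg.Agent.Lib.Helper52.CoprimeSylow
import Cfsg.Agent.Lib.Helper55.FrobFree2

/-!
# FC server (helper52, S3816): piece (R1d) `frob_case`

`V` an elementary abelian `q`-group, `A₀` acting with abelian image, `a` of prime order `p` acting on `A₀ V`,
fixed-point-freely on the image of `A₀`, `C_V(A₀) = 1`: `V` is a free `𝔽_q⟨a⟩`-module (`frobenius_free`), hence
`|V| = |C_V(a)|^p`.
-/

set_option linter.style.haveILetI false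

namespace Cfsg.Agent.Helper10.FC

open Subgroup Cfsg.Agent.Helper52.FC
open scoped commutatorElement

universe u

variable {G : Type u} [Group G]

/-- Counting in a free module: if `M = ⊕_{h ∈ Hg} τ(h) W` then `|M| = |W|^|Hg|` and `|M^Hg| = |W|`. -/
theorem h10_free_count {k M Hg : Type*} [Field k] [AddCommGroup M] [Module k M] [Finite M]
    [Group Hg] [Fintype Hg] [DecidableEq Hg] (τ : Representation k Hg M) (W : Submodule k M)
    (hI : DirectSum.IsInternal (fun h : Hg => W.map (τ h))) :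
    Nat.card M = Nat.card W ^ Nat.card Hg ∧ Nat.card {v : M // ∀ h, τ h v = v} = Nat.card W := by
  classical
  have hinj : ∀ h : Hg, Function.Injective (τ h) := by
    intro h x y hxy
    have := congrArg (τ h⁻¹) hxy
    simpa [← Module.End.mul_apply, ← map_mul] using this
  have hcardA : ∀ h : Hg, Nat.card (W.map (τ h)) = Nat.card W := by
    intro h
    exact (Nat.card_congr (Submodule.equivMapOfInjective (τ h) (hinj h) W).toEquiv).symm
  have hcardM : Nat.card M = Nat.card W ^ Nat.card Hg := by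
    have e1 : (DirectSum Hg fun h => ↥(W.map (τ h))) ≃ M := Equiv.ofBijective _ hI
    rw [← Nat.card_congr e1]
    have e2 : (DirectSum Hg fun h => ↥(W.map (τ h))) ≃ (∀ h : Hg, ↥(W.map (τ h))) :=
      DFinsupp.equivFunOnFintype
    rw [Nat.card_congr e2, Nat.card_pi, Finset.prod_congr rfl (fun h _ => hcardA h),
      Finset.prod_const, Finset.card_univ, Nat.card_eq_fintype_card (α := Hg)]
  refine ⟨hcardM, ?_⟩
  let Φ : (Hg → W) →ₗ[k] M := ∑ h : Hg, (τ h) ∘ₗ W.subtype ∘ₗ (LinearMap.proj h)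
  have hΦ : ∀ w, Φ w = ∑ h, τ h (w h : M) := by
    intro w
    simp [Φ, LinearMap.sum_apply]
  have hsurj : Function.Surjective Φ := by
    rw [← LinearMap.range_eq_top, eq_top_iff, ← hI.submodule_iSup_eq_top]
    apply iSup_le
    intro h v hv
    obtain ⟨w₀, hw₀, rfl⟩ := hv
    refine ⟨Pi.single h ⟨w₀, hw₀⟩, ?_⟩
    rw [hΦ]
    rw [Finset.sum_eq_single h]
    · simp
    · intro b _ hb; simp [Pi.single_eq_of_ne hb]
    · simp
  have hbij : Function.Bijective Φ := by
    apply Function.Surjective.bijective_of_nat_card_le hsurj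
    rw [Nat.card_fun, hcardM]
  have hequiv : ∀ g w, τ g (Φ w) = Φ (fun h => w (g⁻¹ * h)) := by
    intro g w
    rw [hΦ, hΦ, map_sum]
    refine Fintype.sum_equiv (Equiv.mulLeft g) _ _ ?_
    intro h
    simp [← Module.End.mul_apply, ← map_mul]
  have e : W ≃ {v : M // ∀ h, τ h v = v} := by
    refine Equiv.ofBijective (fun w₀ => ⟨Φ (fun _ => w₀), ?_⟩) ⟨?_, ?_⟩
    · intro g
      rw [hequiv]
    · intro w₁ w₂ h12
      have h := hbij.1 (Subtype.ext_iff.mp h12)
      exact congrFun h 1
    · rintro ⟨v, hv⟩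
      obtain ⟨w, rfl⟩ := hbij.2 v
      refine ⟨w 1, Subtype.ext ?_⟩
      show Φ (fun _ => w 1) = Φ w
      congr 1
      funext h
      have h1 := hv h
      rw [hequiv] at h1
      have h2 := congrFun (hbij.1 h1) h
      simp at h2
      exact h2
  exact (Nat.card_congr e).symm

/-- Abstract form of (R1d). -/
theorem h10_frob_abstract {k M B : Type*} [Field k] [AddCommGroup M] [Module k M] [Finite M]
    [Group B] [Finite B] (ρ : Representation k B M) (A₁ : Subgroup B) [hA₁ : A₁.Normal] (a : B)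
    {p : ℕ} (hp : p.Prime)
    (hpow : a ^ p = 1) (hcop : (Nat.card A₁).Coprime p)
    (hab : ∀ x ∈ A₁, ∀ x' ∈ A₁, ρ (x * x') = ρ (x' * x))
    (hfix : ∀ x ∈ A₁, x * a = a * x → ρ x = 1)
    (hCV : ∀ v : M, (∀ x ∈ A₁, ρ x v = v) → v = 0)
    (hact : ρ a ≠ 1) :
    Nat.card M = Nat.card {v : M // ρ a v = v} ^ p := by
  classical
  have : Fact p.Prime := ⟨hp⟩
  have : FiniteDimensional k M := Module.Finite.of_finite
  let ψ : B →* (M →ₗ[k] M)ˣ := ρ.asGroupHom
  let ψ' : B →* ↥ψ.range := ψ.rangeRestrict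
  have hψ' : Function.Surjective ψ' := ψ.rangeRestrict_surjective
  have : Finite ↥ψ.range := Finite.of_surjective ψ' hψ'
  let ρA : Representation k ↥ψ.range M := (Units.coeHom _).comp ψ.range.subtype
  have hρA : ∀ x, ρA (ψ' x) = ρ x := fun x => rfl
  have hψ'eq : ∀ x y : B, ψ' x = ψ' y ↔ ρ x = ρ y := by
    intro x y
    constructor
    · intro h
      rw [← hρA, ← hρA, h]
    · intro h
      apply Subtype.ext
      apply Units.ext
      exact h
  -- the subgroups
  let Fk : Subgroup ↥ψ.range := A₁.map ψ'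
  have hFkn : Fk.Normal := Subgroup.Normal.map hA₁ ψ' hψ'
  let g₀ : ↥ψ.range := ψ' a
  let H : Subgroup ↥ψ.range := zpowers g₀
  have hg₀p : g₀ ^ p = 1 := by
    show ψ' a ^ p = 1
    rw [← map_pow, hpow, map_one]
  have hg₀1 : g₀ ≠ 1 := by
    intro h
    apply hact
    have : ψ' a = ψ' 1 := by rw [map_one]; exact h
    rw [hψ'eq] at this
    rw [this, map_one]
  have hordg₀ : orderOf g₀ = p := orderOf_eq_prime hg₀p hg₀1
  have hcardH : Nat.card ↥H = p := by rw [Nat.card_zpowers, hordg₀]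
  -- nilpotent
  have hFkcomm : ∀ f₁ ∈ Fk, ∀ f₂ ∈ Fk, f₁ * f₂ = f₂ * f₁ := by
    rintro f₁ ⟨b₁, hb₁, rfl⟩ f₂ ⟨b₂, hb₂, rfl⟩
    rw [← map_mul, ← map_mul, hψ'eq]
    exact hab b₁ hb₁ b₂ hb₂
  have hnil : Group.IsNilpotent ↥Fk := by
    let _ : CommGroup ↥Fk :=
      { (inferInstance : Group ↥Fk) with
        mul_comm := fun x y => Subtype.ext (hFkcomm x x.2 y y.2) }
    exact CommGroup.isNilpotent
  -- fixed-point-free
  have hfpf : ∀ h ∈ H, h ≠ 1 → ∀ f ∈ Fk, h * f = f * h → f = 1 := by
    intro h hh hne f hf hcomm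
    obtain ⟨b, hb, rfl⟩ := hf
    -- g₀ is a power of h
    have hg₀h : g₀ ∈ zpowers h := by
      have := mem_zpowers_of_prime_card (G := ↥H) hcardH (g := ⟨h, hh⟩) (g' := ⟨g₀, mem_zpowers g₀⟩)
        (fun h1 => hne (by simpa using congrArg Subtype.val h1))
      obtain ⟨j, hj⟩ := mem_zpowers_iff.mp this
      refine mem_zpowers_iff.mpr ⟨j, ?_⟩
      simpa using congrArg Subtype.val hj
    obtain ⟨j, hj⟩ := mem_zpowers_iff.mp hg₀h
    have hcomm0 : g₀ * ψ' b = ψ' b * g₀ := by
      rw [← hj]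
      exact ((Commute.zpow_left (show Commute h (ψ' b) from hcomm) j)).eq
    -- all powers of a
    have hcommc : ∀ c ∈ zpowers a, ψ' c * ψ' b = ψ' b * ψ' c := by
      intro c hc
      obtain ⟨i, rfl⟩ := mem_zpowers_iff.mp hc
      rw [map_zpow]
      exact ((Commute.zpow_left (show Commute g₀ (ψ' b) from hcomm0) i)).eq
    -- coprime lifting
    let K : Subgroup B := A₁ ⊓ ψ'.ker
    have hKn : K.Normal := inferInstance
    have hsolv : Group.IsSolvable ↥(zpowers a) := by
      apply Group.isSolvable_of_comm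
      rintro ⟨x, hx⟩ ⟨y, hy⟩
      obtain ⟨i, rfl⟩ := mem_zpowers_iff.mp hx
      obtain ⟨j, rfl⟩ := mem_zpowers_iff.mp hy
      apply Subtype.ext
      show a ^ i * a ^ j = a ^ j * a ^ i
      rw [← zpow_add, ← zpow_add, add_comm]
    have hcop' : (Nat.card ↥(zpowers a)).Coprime (Nat.card ↥A₁) := by
      rw [Nat.card_zpowers]
      have hdvd : orderOf a ∣ p := orderOf_dvd_of_pow_eq_one hpow
      exact (Nat.Coprime.coprime_dvd_left hdvd hcop.symm)
    obtain ⟨n, hn, c, hc, hbnc⟩ :=
      Cfsg.Agent.Helper52.exists_mul_centralizer_of_comm_mem A₁ K (zpowers a) inf_le_left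
        (by rw [normalizer_eq_top]; exact le_top) (by rw [normalizer_eq_top]; exact le_top)
        hcop' (Or.inr hsolv) b hb (by
          intro c hc
          refine ⟨?_, ?_⟩
          · have h1 : c * b⁻¹ * c⁻¹ ∈ A₁ := hA₁.conj_mem _ (A₁.inv_mem hb) c
            have h2 := A₁.mul_mem hb h1
            have h3 : b * c * b⁻¹ * c⁻¹ = b * (c * b⁻¹ * c⁻¹) := by group
            rw [h3]; exact h2
          · show b * c * b⁻¹ * c⁻¹ ∈ ψ'.ker
            rw [MonoidHom.mem_ker, map_mul, map_mul, map_mul, map_inv, map_inv]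
            rw [← hcommc c hc]
            group)
    have hc1 : ρ c = 1 := by
      apply hfix c hc.1
      have : c ∈ centralizer (zpowers a : Set B) := hc.2
      rw [mem_centralizer_iff] at this
      exact (this a (mem_zpowers a)).symm
    have hn1 : ρ n = 1 := by
      have : n ∈ ψ'.ker := hn.2
      rw [MonoidHom.mem_ker] at this
      have h2 : ψ' n = ψ' 1 := by rw [this, map_one]
      rw [hψ'eq] at h2
      rw [h2, map_one]
    have : ψ' b = ψ' 1 := by
      rw [hψ'eq, hbnc, map_mul, hn1, hc1, map_one, mul_one]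
    rw [this, map_one]
  have hfixA : ∀ v : M, (∀ f ∈ Fk, ρA f v = v) → v = 0 := by
    intro v hv
    apply hCV v
    intro x hx
    rw [← hρA]
    exact hv (ψ' x) ⟨x, hx, rfl⟩
  obtain ⟨W, hW⟩ := Cfsg.Agent.Helper55.FrobFree.frobenius_free ρA Fk H hnil hfpf hfixA
  have : Fintype ↥H := Fintype.ofFinite _
  obtain ⟨h1, h2⟩ := h10_free_count (ρA.comp H.subtype) W hW
  rw [h1, hcardH]
  congr 1
  rw [← h2]
  apply Nat.card_congr
  refine Equiv.subtypeEquivRight ?_
  intro v
  constructor
  · intro hv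
    have := hv ⟨g₀, mem_zpowers g₀⟩
    exact this
  · intro hv h
    -- stabilizer subgroup
    let S : Subgroup ↥ψ.range :=
      { carrier := {g | ρA g v = v}
        mul_mem' := by
          intro x y hx hy
          show ρA (x * y) v = v
          rw [map_mul, Module.End.mul_apply, hy, hx]
        one_mem' := by
          show ρA 1 v = v
          rw [map_one, Module.End.one_apply]
        inv_mem' := by
          intro x hx
          show ρA x⁻¹ v = v
          have h3 : ρA x⁻¹ (ρA x v) = v := by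
            rw [← Module.End.mul_apply, ← map_mul, inv_mul_cancel, map_one, Module.End.one_apply]
          rw [hx] at h3
          exact h3 }
    have hS : H ≤ S := by
      rw [zpowers_le]
      exact hv
    exact hS h.2

/-- (R1d) -/
theorem frob_case [Finite G] {p : ℕ} (hp : p.Prime) (a : G) (hpow : a ^ p = 1) (V A₀ : Subgroup G) (hVab : Ab V) (q : ℕ) (hq : q.Prime)
    (hVq : ∀ v ∈ V, v ^ q = 1) (hVa : Inv a V) (hAa : Inv a A₀) (hAV : ∀ x ∈ A₀, ∀ v ∈ V, x * v * x⁻¹ ∈ V)
    (hcopA : (Nat.card A₀).Coprime p)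
    (hAab : ∀ x ∈ A₀, ∀ x' ∈ A₀, ∀ v ∈ V, (x * x' * x⁻¹ * x'⁻¹) * v = v * (x * x' * x⁻¹ * x'⁻¹))
    (hfix : ∀ x ∈ A₀, x ∈ Fix a → ∀ v ∈ V, x * v = v * x)
    (hCV : ∀ v ∈ V, (∀ x ∈ A₀, x * v = v * x) → v = 1) (hact : ∃ v ∈ V, a * v ≠ v * a) :
    Nat.card V = Nat.card (V ⊓ Fix a : Subgroup G) ^ p := by
  classical
  have : Fact q.Prime := ⟨hq⟩
  let B : Subgroup G := A₀ ⊔ zpowers a
  have hA₀N : A₀ ≤ normalizer (V : Set G) :=
    fun x hx => mem_normalizer_fintype (fun v hv => hAV x hx v hv)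
  have haN : a ∈ normalizer (V : Set G) := mem_normalizer_fintype (fun v hv => hVa v hv)
  have hBN : B ≤ normalizer (V : Set G) := sup_le hA₀N ((zpowers_le).mpr haN)
  have hBV : ∀ x ∈ B, ∀ v ∈ V, x * v * x⁻¹ ∈ V :=
    fun x hx v hv => ((mem_normalizer_iff.mp (hBN hx)) v).mp hv
  have hBA : B ≤ normalizer (A₀ : Set G) :=
    sup_le le_normalizer ((zpowers_le).mpr (mem_normalizer_fintype (fun x hx => hAa x hx)))
  letI : CommGroup ↥V :=
    { (inferInstance : Group ↥V) with
      mul_comm := fun x y => Subtype.ext (hVab x x.2 y y.2) }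
  have hq0 : ∀ x : Additive ↥V, q • x = 0 := by
    intro x
    have h1 : (Additive.toMul x) ^ q = 1 := Subtype.ext (by simpa using hVq _ (Additive.toMul x).2)
    exact congrArg Additive.ofMul h1
  letI : Module (ZMod q) (Additive ↥V) := AddCommGroup.zmodModule (n := q) hq0
  let cj : ↥B → (↥V →* ↥V) := fun x =>
    { toFun := fun v => ⟨(x : G) * v * (x : G)⁻¹, hBV x x.2 v v.2⟩
      map_one' := by apply Subtype.ext; simp
      map_mul' := by intro v w; apply Subtype.ext; simp [mul_assoc] }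
  let r : ↥B → Module.End (ZMod q) (Additive ↥V) := fun x =>
    AddMonoidHom.toZModLinearMap q (MonoidHom.toAdditive (cj x))
  have hr1 : r 1 = 1 := by
    apply LinearMap.ext
    intro v
    show Additive.ofMul (cj 1 (Additive.toMul v)) = v
    have h1 : cj 1 (Additive.toMul v) = Additive.toMul v := Subtype.ext (by simp [cj])
    rw [h1]; rfl
  have hrmul : ∀ x y, r (x * y) = r x * r y := by
    intro x y
    apply LinearMap.ext
    intro v
    show Additive.ofMul (cj (x * y) (Additive.toMul v)) =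
      Additive.ofMul (cj x (cj y (Additive.toMul v)))
    have h1 : cj (x * y) (Additive.toMul v) = cj x (cj y (Additive.toMul v)) :=
      Subtype.ext (by simp [cj, mul_assoc])
    rw [h1]
  let ρ : Representation (ZMod q) ↥B (Additive ↥V) := MonoidHom.mk ⟨r, hr1⟩ hrmul
  have hρ : ∀ (x : ↥B) (v : ↥V), ρ x (Additive.ofMul v) =
      Additive.ofMul (⟨(x : G) * v * (x : G)⁻¹, hBV x x.2 v v.2⟩ : ↥V) := fun _ _ => rfl
  have hρ1 : ∀ (x : ↥B), (∀ v ∈ V, (x : G) * v = v * (x : G)) → ρ x = 1 := by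
    intro x hx
    apply LinearMap.ext
    intro m
    obtain ⟨v, rfl⟩ : ∃ v, Additive.ofMul v = m := ⟨Additive.toMul m, rfl⟩
    rw [hρ, Module.End.one_apply]
    congr 1
    apply Subtype.ext
    show (x : G) * v * (x : G)⁻¹ = v
    rw [hx v v.2, mul_inv_cancel_right]
  have hρfix : ∀ (x : ↥B) (v : ↥V), ρ x (Additive.ofMul v) = Additive.ofMul v ↔
      (x : G) * v = v * (x : G) := by
    intro x v
    rw [hρ]
    constructor
    · intro h
      have h1 : (x : G) * v * (x : G)⁻¹ = v := congrArg Subtype.val (Additive.ofMul.injective h)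
      calc (x : G) * v = (x : G) * v * (x : G)⁻¹ * (x : G) := by group
        _ = v * (x : G) := by rw [h1]
    · intro h
      congr 1
      apply Subtype.ext
      show (x : G) * v * (x : G)⁻¹ = v
      rw [h, mul_inv_cancel_right]
  have hA₁n : (A₀.subgroupOf B).Normal := normal_subgroupOf_of_le_normalizer hBA
  let a' : ↥B := ⟨a, mem_sup_right (mem_zpowers a)⟩
  have key := h10_frob_abstract (k := ZMod q) ρ (A₀.subgroupOf B) a' hp
    (Subtype.ext (by simpa using hpow))
    (by
      rw [Nat.card_congr (subgroupOfEquivOfLe (le_sup_left : A₀ ≤ B)).toEquiv]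
      exact hcopA)
    (by
      intro x hx x' hx'
      apply LinearMap.ext
      intro m
      obtain ⟨v, rfl⟩ : ∃ v, Additive.ofMul v = m := ⟨Additive.toMul m, rfl⟩
      rw [hρ, hρ]
      congr 1
      apply Subtype.ext
      show ((x * x' : ↥B) : G) * v * ((x * x' : ↥B) : G)⁻¹ = ((x' * x : ↥B) : G) * v * ((x' * x : ↥B) : G)⁻¹
      rw [Subgroup.coe_mul, Subgroup.coe_mul]
      have hw : (x' : G) * (x : G) * v * ((x' : G) * (x : G))⁻¹ ∈ V :=
        hBV _ (B.mul_mem x'.2 x.2) v v.2
      have h1 := hAab x hx x' hx' _ hw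
      have h2 : (x : G) * x' * v * ((x : G) * x')⁻¹ =
          ((x : G) * x' * (x : G)⁻¹ * (x' : G)⁻¹) * ((x' : G) * (x : G) * v * ((x' : G) * (x : G))⁻¹) *
            ((x : G) * x' * (x : G)⁻¹ * (x' : G)⁻¹)⁻¹ := by group
      rw [h2, h1, mul_inv_cancel_right])
    (by
      intro x hx hxa
      apply hρ1
      apply hfix x hx
      show (x : G) ∈ centralizer {a}
      rw [mem_centralizer_singleton_iff]
      have := congrArg Subtype.val hxa
      simpa using this)
    (by
      intro m hm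
      obtain ⟨v, rfl⟩ : ∃ v, Additive.ofMul v = m := ⟨Additive.toMul m, rfl⟩
      have h1 : (v : G) = 1 := by
        apply hCV v v.2
        intro x hx
        have := hm ⟨x, mem_sup_left hx⟩ hx
        rw [hρfix] at this
        exact this
      have h2 : v = 1 := Subtype.ext h1
      rw [h2]; rfl)
    (by
      intro h1
      obtain ⟨v, hv, hne⟩ := hact
      apply hne
      have := (hρfix a' ⟨v, hv⟩).mp (by rw [h1, Module.End.one_apply])
      exact this)
  have hcV : Nat.card ↥V = Nat.card (Additive ↥V) := rfl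
  rw [hcV, key]
  congr 1
  apply Nat.card_congr
  refine
    { toFun := fun m => ⟨((Additive.toMul m.1 : ↥V) : G), ⟨(Additive.toMul m.1).2, ?_⟩⟩
      invFun := fun u => ⟨Additive.ofMul ⟨u, u.2.1⟩, ?_⟩
      left_inv := ?_
      right_inv := ?_ }
  · show ((Additive.toMul m.1 : ↥V) : G) ∈ centralizer {a}
    rw [mem_centralizer_singleton_iff]
    have := (hρfix a' (Additive.toMul m.1)).mp m.2
    exact this.symm
  · rw [hρfix]
    have : (u : G) ∈ centralizer {a} := u.2.2
    rw [mem_centralizer_singleton_iff] at this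
    exact this.symm
  · intro m; rfl
  · intro u; rfl

end Cfsg.Agent.Helper10.FC
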