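import Mathlib

set_option autoImplicit false

namespace Cfsg.Agent.Helper10

variable {G : Type*} [Group G]

/-- A `q`-group `R` acting by conjugation on a finite normal subgroup `L` with no nontrivial fixed
points: `|L| ≡ 1 mod q`. -/
lemma card_modEq_one_of_inf_centralizer_eq_bot {q : ℕ} [Fact q.Prime] (L R : Subgroup G)
    [L.Normal] [Finite L] (hR : IsPGroup q R)
    (hfix : L ⊓ Subgroup.centralizer (R : Set G) = ⊥) : Nat.card L ≡ 1 [MOD q] := by
  letI : MulAction R L := MulAction.compHom L ((MulAut.conjNormal (H := L)).comp R.subtype)
  have hsmul : ∀ (r : R) (l : L), ((r • l : L) : G) = r * l * (r : G)⁻¹ := by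
    intro r l
    rfl
  have h1 := hR.card_modEq_card_fixedPoints L
  have h2 : MulAction.fixedPoints R L = {1} := by
    ext l
    simp only [MulAction.mem_fixedPoints, Set.mem_singleton_iff]
    constructor
    · intro hl
      have hlc : (l : G) ∈ L ⊓ Subgroup.centralizer (R : Set G) := by
        refine ⟨l.2, ?_⟩
        show (l : G) ∈ Subgroup.centralizer (R : Set G)
        rw [Subgroup.mem_centralizer_iff]
        intro r hr
        have := congrArg Subtype.val (hl ⟨r, hr⟩)
        rw [hsmul] at this
        simp only at this
        calc r * (l : G) = (r * l * r⁻¹) * r := by group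
          _ = l * r := by rw [this]
      rw [hfix, Subgroup.mem_bot] at hlc
      exact Subtype.ext hlc
    · rintro rfl r
      apply Subtype.ext
      rw [hsmul]
      simp
  rw [h2] at h1
  simpa using h1

end Cfsg.Agent.Helper10
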