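import Mathlib

set_option autoImplicit false

namespace Cfsg.Agent.Helper10

variable {G : Type*} [Group G]

/-- Dedekind's modular law with a normal subgroup `A ≤ C`. -/
lemma dedekind_normal (A B C : Subgroup G) [A.Normal] (h : A ≤ C) :
    C ⊓ (A ⊔ B) ≤ A ⊔ (C ⊓ B) := by
  intro x hx
  obtain ⟨hxC, hxAB⟩ := hx
  have : x ∈ ((A ⊔ B : Subgroup G) : Set G) := hxAB
  rw [Subgroup.normal_mul] at this
  obtain ⟨a, ha, b, hb, rfl⟩ := this
  have hbC : b ∈ C := by
    have : b = a⁻¹ * (a * b) := by group
    rw [this]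
    exact C.mul_mem (C.inv_mem (h ha)) hxC
  exact Subgroup.mul_mem _ (Subgroup.mem_sup_left ha) (Subgroup.mem_sup_right ⟨hbC, hb⟩)

/-- Dedekind's modular law, equality form. -/
lemma dedekind_normal_eq (A B C : Subgroup G) [A.Normal] (h : A ≤ C) :
    C ⊓ (A ⊔ B) = A ⊔ (C ⊓ B) :=
  le_antisymm (dedekind_normal A B C h) (le_inf (sup_le h inf_le_left) (sup_le_sup_left inf_le_right A))

/-- A coatom not containing `N` together with `N` generates everything. -/
lemma sup_eq_top_of_isCoatom_of_not_le {N M : Subgroup G} (hM : IsCoatom M) (h : ¬ N ≤ M) :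
    N ⊔ M = ⊤ := by
  by_contra hne
  have hlt : M < N ⊔ M := by
    refine lt_of_le_of_ne le_sup_right ?_
    intro heq
    apply h
    rw [heq]
    exact le_sup_left
  exact hne (hM.2 _ hlt)

/-- A normal subgroup of `G` which lies in the Frattini subgroup of some subgroup `H`
lies in the Frattini subgroup of `G`. -/
lemma le_frattini_of_normal_of_le_map_frattini [Finite G] (N H : Subgroup G) [N.Normal]
    (h : N ≤ (frattini H).map H.subtype) : N ≤ frattini G := by
  have hNH : N ≤ H := h.trans (Subgroup.map_subtype_le _)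
  unfold frattini Order.radical
  rw [le_iInf₂_iff]
  intro M hM
  by_contra hNM
  have htop := sup_eq_top_of_isCoatom_of_not_le hM hNM
  have h1 : H ≤ N ⊔ (H ⊓ M) := by
    have := dedekind_normal N M H hNH
    rw [htop, inf_top_eq] at this
    exact this
  have h2 : N.subgroupOf H ≤ frattini H := by
    have := Subgroup.comap_mono (f := H.subtype) h
    rwa [Subgroup.comap_map_eq_self_of_injective H.subtype_injective] at this
  have h3 : (H ⊓ M).subgroupOf H ⊔ frattini H = ⊤ := by
    rw [eq_top_iff]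
    calc (⊤ : Subgroup H) = (N ⊔ (H ⊓ M)).subgroupOf H := (Subgroup.subgroupOf_eq_top.mpr h1).symm
      _ = N.subgroupOf H ⊔ (H ⊓ M).subgroupOf H := Subgroup.subgroupOf_sup hNH inf_le_left
      _ ≤ (H ⊓ M).subgroupOf H ⊔ frattini H := by
        rw [sup_comm]
        exact sup_le_sup_left h2 _
  have h4 := frattini_nongenerating h3
  rw [Subgroup.subgroupOf_eq_top] at h4
  exact hNM (hNH.trans (h4.trans inf_le_right))

/-- A normal subgroup `A` and a subgroup `H` with `A ⊔ H = ⊤`, `A ⊓ H = ⊥` are complements. -/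
lemma isComplement'_of_normal_of_sup_eq_top_of_inf_eq_bot {A H : Subgroup G} [A.Normal]
    (h1 : A ⊔ H = ⊤) (h2 : A ⊓ H = ⊥) : Subgroup.IsComplement' A H := by
  apply Subgroup.isComplement'_of_disjoint_and_mul_eq_univ (disjoint_iff.mpr h2)
  rw [← Subgroup.normal_mul, h1, Subgroup.coe_top]

/-- If `N ≤ H` is not inside the Frattini subgroup of `H`, there is a proper subgroup `M < H`
with `N ⊔ M = H`. -/
lemma exists_lt_sup_eq_of_not_le_map_frattini {N H : Subgroup G} (hNH : N ≤ H)
    (h : ¬ N ≤ (frattini H).map H.subtype) : ∃ M : Subgroup G, M < H ∧ H ≤ N ⊔ M := by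
  have h1 : ¬ N.subgroupOf H ≤ frattini H := by
    intro hle
    apply h
    have := Subgroup.map_mono (f := H.subtype) hle
    rwa [Subgroup.map_subgroupOf_eq_of_le hNH] at this
  unfold frattini Order.radical at h1
  rw [le_iInf₂_iff] at h1
  push Not at h1
  obtain ⟨M', hM', hNM'⟩ := h1
  have htop := sup_eq_top_of_isCoatom_of_not_le hM' hNM'
  refine ⟨M'.map H.subtype, ?_, ?_⟩
  · refine lt_of_le_of_ne (Subgroup.map_subtype_le _) ?_
    intro heq
    apply hM'.1
    have : (M'.map H.subtype).subgroupOf H = ⊤ := by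
      rw [heq]; exact Subgroup.subgroupOf_self H
    rwa [Subgroup.subgroupOf, Subgroup.comap_map_eq_self_of_injective H.subtype_injective] at this
  · have h2 := congrArg (Subgroup.map H.subtype) htop
    rw [Subgroup.map_sup, Subgroup.map_subgroupOf_eq_of_le hNH, ← MonoidHom.range_eq_map,
      Subgroup.range_subtype] at h2
    exact h2.ge

end Cfsg.Agent.Helper10
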