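import Mathlib

/-!
# Free modules from conjugate orthogonal idempotents

If the conjugates `ρ h * Q * ρ h⁻¹` of an endomorphism `Q` under a finite group form a complete
family of orthogonal idempotents, the dimension of the space is `|H|` times the dimension of the
fixed points.
-/

set_option autoImplicit false

namespace Cfsg.Agent.Helper10.FrobRep

open Finset

variable {k : Type*} [Field k] {V : Type*} [AddCommGroup V] [Module k V]

/-- The fixed points of a family of endomorphisms indexed by `H`. -/
def fixedSub {H : Type*} (ρ : H → Module.End k V) : Submodule k V where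
  carrier := {v | ∀ h, ρ h v = v}
  add_mem' := by
    intro a b ha hb h
    rw [map_add, ha h, hb h]
  zero_mem' := by
    intro h
    rw [map_zero]
  smul_mem' := by
    intro c a ha h
    rw [map_smul, ha h]

theorem mem_fixedSub {H : Type*} (ρ : H → Module.End k V) (v : V) :
    v ∈ fixedSub ρ ↔ ∀ h, ρ h v = v := Iff.rfl

/-- dimension formula for a complete family of orthogonal idempotents -/
theorem finrank_eq_sum_finrank_range [FiniteDimensional k V] {ι : Type*} [Fintype ι]
    [DecidableEq ι] (P : ι → Module.End k V) (horth : ∀ i j, i ≠ j → P i * P j = 0)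
    (hidem : ∀ i, P i * P i = P i) (hsum : ∑ i, P i = 1) :
    Module.finrank k V = ∑ i, Module.finrank k (LinearMap.range (P i)) := by
  have hPP : ∀ i j (w : LinearMap.range (P j)), P i (w : V) = if i = j then (w : V) else 0 := by
    intro i j w
    obtain ⟨u, hu⟩ := w.2
    rw [← hu, ← Module.End.mul_apply]
    split_ifs with h
    · subst h; rw [hidem]
    · rw [horth i j h, LinearMap.zero_apply]
  let e : V ≃ₗ[k] (∀ i, LinearMap.range (P i)) :=
    { toFun := fun v i => ⟨P i v, LinearMap.mem_range_self _ _⟩
      map_add' := by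
        intro a b
        funext i
        apply Subtype.ext
        simp
      map_smul' := by
        intro c a
        funext i
        apply Subtype.ext
        simp
      invFun := fun w => ∑ i, (w i : V)
      left_inv := by
        intro v
        show ∑ i, P i v = v
        rw [← LinearMap.sum_apply, hsum, Module.End.one_apply]
      right_inv := by
        intro w
        funext i
        apply Subtype.ext
        show P i (∑ j, (w j : V)) = (w i : V)
        rw [map_sum]
        simp_rw [hPP]
        rw [Finset.sum_ite_eq]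
        simp }
  rw [e.finrank_eq, Module.finrank_pi_fintype]

/-- **Free modules**: if the conjugates of `Q` form a complete family of orthogonal idempotents,
then `dim V = |H| * dim C_V(H)`. -/
theorem finrank_eq_card_mul_finrank_fixed [FiniteDimensional k V] {H : Type*} [Group H]
    [Fintype H] [DecidableEq H] (ρ : H →* Module.End k V) (Q : Module.End k V)
    (horth : ∀ h h' : H, h ≠ h' → (ρ h * Q * ρ h⁻¹) * (ρ h' * Q * ρ h'⁻¹) = 0)
    (hidem : Q * Q = Q) (hsum : ∑ h : H, ρ h * Q * ρ h⁻¹ = 1) :
    Module.finrank k V = Fintype.card H * Module.finrank k (fixedSub (fun h => ρ h)) := by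
  have hρ : ∀ h : H, ρ h * ρ h⁻¹ = 1 := fun h => by rw [← map_mul, mul_inv_cancel, map_one]
  have hρ' : ∀ h : H, ρ h⁻¹ * ρ h = 1 := fun h => by rw [← map_mul, inv_mul_cancel, map_one]
  have hidem' : ∀ h : H, (ρ h * Q * ρ h⁻¹) * (ρ h * Q * ρ h⁻¹) = ρ h * Q * ρ h⁻¹ := by
    intro h
    calc (ρ h * Q * ρ h⁻¹) * (ρ h * Q * ρ h⁻¹) = ρ h * Q * (ρ h⁻¹ * ρ h) * Q * ρ h⁻¹ := by
          simp only [mul_assoc]
      _ = ρ h * Q * ρ h⁻¹ := by rw [hρ', mul_one, mul_assoc (ρ h), hidem]
  have h1 := finrank_eq_sum_finrank_range (fun h : H => ρ h * Q * ρ h⁻¹) horth hidem' hsum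
  -- each range has the same dimension as `range Q`
  have h2 : ∀ h : H, Module.finrank k (LinearMap.range (ρ h * Q * ρ h⁻¹)) =
      Module.finrank k (LinearMap.range Q) := by
    intro h
    let eh : V ≃ₗ[k] V :=
      { (ρ h) with
        invFun := ρ h⁻¹
        left_inv := fun v => by
          show (ρ h⁻¹ * ρ h) v = v
          rw [hρ', Module.End.one_apply]
        right_inv := fun v => by
          show (ρ h * ρ h⁻¹) v = v
          rw [hρ, Module.End.one_apply] }
    have hr : LinearMap.range (ρ h * Q * ρ h⁻¹) = (LinearMap.range Q).map (eh : V →ₗ[k] V) := by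
      ext v
      constructor
      · rintro ⟨u, rfl⟩
        exact ⟨Q (ρ h⁻¹ u), ⟨_, rfl⟩, rfl⟩
      · rintro ⟨_, ⟨u, rfl⟩, rfl⟩
        refine ⟨ρ h u, ?_⟩
        show ρ h (Q (ρ h⁻¹ (ρ h u))) = ρ h (Q u)
        have : ρ h⁻¹ (ρ h u) = u := by
          rw [← Module.End.mul_apply, hρ', Module.End.one_apply]
        rw [this]
    rw [hr]
    exact (eh.submoduleMap (LinearMap.range Q)).finrank_eq.symm
  rw [h1]
  simp_rw [h2]
  rw [Finset.sum_const, Finset.card_univ, smul_eq_mul]
  congr 1
  -- `range Q ≃ fixed points`
  have hQ1 : ρ 1 * Q * ρ (1 : H)⁻¹ = Q := by rw [inv_one, map_one, one_mul, mul_one]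
  let e : LinearMap.range Q ≃ₗ[k] fixedSub (fun h => ρ h) :=
    { toFun := fun w => ⟨∑ h : H, ρ h (w : V), by
        intro g
        show ρ g (∑ h : H, ρ h (w : V)) = ∑ h : H, ρ h (w : V)
        rw [map_sum]
        simp_rw [← Module.End.mul_apply, ← map_mul]
        exact Fintype.sum_equiv (Equiv.mulLeft g) _ _ (fun h => rfl)⟩
      map_add' := by
        intro a b
        apply Subtype.ext
        show ∑ h : H, ρ h ((a : V) + b) = ∑ h : H, ρ h (a : V) + ∑ h : H, ρ h (b : V)
        simp_rw [map_add]
        rw [Finset.sum_add_distrib]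
      map_smul' := by
        intro c a
        apply Subtype.ext
        show ∑ h : H, ρ h (c • (a : V)) = c • ∑ h : H, ρ h (a : V)
        simp_rw [map_smul]
        rw [Finset.smul_sum]
      invFun := fun v => ⟨Q (v : V), LinearMap.mem_range_self _ _⟩
      left_inv := by
        intro w
        apply Subtype.ext
        show Q (∑ h : H, ρ h (w : V)) = (w : V)
        obtain ⟨u, hu⟩ := w.2
        rw [map_sum]
        have hterm : ∀ h : H, Q (ρ h (w : V)) = if h = 1 then (w : V) else 0 := by
          intro h
          have hw : (w : V) = Q (w : V) := by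
            rw [← hu, ← Module.End.mul_apply, hidem]
          have e1 : Q (ρ h (w : V)) = ((ρ 1 * Q * ρ (1 : H)⁻¹) * (ρ h * Q * ρ h⁻¹)) (ρ h (w : V)) := by
            rw [hQ1]
            show Q (ρ h (w : V)) = Q (ρ h (Q (ρ h⁻¹ (ρ h (w : V)))))
            have : ρ h⁻¹ (ρ h (w : V)) = (w : V) := by
              rw [← Module.End.mul_apply, hρ', Module.End.one_apply]
            rw [this, ← hw]
          split_ifs with h1
          · subst h1
            rw [map_one, Module.End.one_apply, ← hw]
          · rw [e1, horth 1 h (Ne.symm h1), LinearMap.zero_apply]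
        simp_rw [hterm]
        rw [Finset.sum_ite_eq']
        simp
      right_inv := by
        intro v
        apply Subtype.ext
        show ∑ h : H, ρ h (Q (v : V)) = (v : V)
        have hv : ∀ h : H, ρ h (v : V) = (v : V) := v.2
        have : ∀ h : H, ρ h (Q (v : V)) = (ρ h * Q * ρ h⁻¹) (v : V) := by
          intro h
          show ρ h (Q (v : V)) = ρ h (Q (ρ h⁻¹ (v : V)))
          rw [hv h⁻¹]
        simp_rw [this]
        rw [← LinearMap.sum_apply, hsum, Module.End.one_apply] }
  exact e.finrank_eq

end Cfsg.Agent.Helper10.FrobRep
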