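import Mathlib
import Cfsg.Agent.Lib.Helper10.FrobFree

/-!
# Frobenius actions on modules: the split abelian case

`N` a finite abelian group acting on `V` over a field `k` with enough roots of unity,
`|N|` invertible in `k`; `H` acts on `N` by automorphisms without fixed points and compatibly on `V`;
`C_V(N) = 0`.  Then `dim V = |H| * dim C_V(H)`.
-/

set_option autoImplicit false

namespace Cfsg.Agent.Helper10.FrobRep

open Finset

variable {k : Type*} [Field k] {V : Type*} [AddCommGroup V] [Module k V]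
variable {N : Type*} [CommGroup N] [Fintype N]

/-- projection onto the `χ`-eigenspace of `N` -/
noncomputable def proj (ρN : N →* Module.End k V) (χ : N →* kˣ) : Module.End k V :=
  (Fintype.card N : k)⁻¹ • ∑ n : N, (((χ n)⁻¹ : kˣ) : k) • ρN n

theorem rhoN_mul_proj (ρN : N →* Module.End k V) (χ : N →* kˣ) (m : N) :
    ρN m * proj ρN χ = ((χ m : kˣ) : k) • proj ρN χ := by
  have key : ρN m * ∑ n : N, (((χ n)⁻¹ : kˣ) : k) • ρN n =
      ((χ m : kˣ) : k) • ∑ n : N, (((χ n)⁻¹ : kˣ) : k) • ρN n := by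
    rw [Finset.mul_sum, Finset.smul_sum]
    refine Fintype.sum_equiv (Equiv.mulLeft m) _ _ (fun n => ?_)
    rw [mul_smul_comm, ← map_mul, smul_smul, Equiv.coe_mulLeft]
    congr 1
    rw [map_mul, mul_inv, Units.val_mul, ← mul_assoc, ← Units.val_mul, mul_inv_cancel,
      Units.val_one, one_mul]
  unfold proj
  rw [mul_smul_comm, key, smul_comm]

theorem proj_mul_rhoN (ρN : N →* Module.End k V) (χ : N →* kˣ) (m : N) :
    proj ρN χ * ρN m = ((χ m : kˣ) : k) • proj ρN χ := by
  have key : (∑ n : N, (((χ n)⁻¹ : kˣ) : k) • ρN n) * ρN m =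
      ((χ m : kˣ) : k) • ∑ n : N, (((χ n)⁻¹ : kˣ) : k) • ρN n := by
    rw [Finset.sum_mul, Finset.smul_sum]
    refine Fintype.sum_equiv (Equiv.mulRight m) _ _ (fun n => ?_)
    rw [smul_mul_assoc, ← map_mul, smul_smul, Equiv.coe_mulRight]
    congr 1
    rw [map_mul, mul_inv, Units.val_mul, mul_comm ((χ n)⁻¹ : kˣ).val, ← mul_assoc,
      ← Units.val_mul, mul_inv_cancel, Units.val_one, one_mul]
  unfold proj
  rw [smul_mul_assoc, key, smul_comm]

theorem rhoN_proj_apply (ρN : N →* Module.End k V) (χ : N →* kˣ) (m : N) (v : V) :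
    ρN m (proj ρN χ v) = ((χ m : kˣ) : k) • proj ρN χ v := by
  rw [← Module.End.mul_apply, rhoN_mul_proj, LinearMap.smul_apply]

/-- sum of the values of a character of `N` -/
theorem sum_char [DecidableEq (N →* kˣ)] (θ : N →* kˣ) :
    ∑ n : N, ((θ n : kˣ) : k) = if θ = 1 then (Fintype.card N : k) else 0 := by
  split_ifs with h
  · subst h
    simp
  · have := sum_hom_units_eq_zero ((Units.coeHom k).comp θ) (by
      intro h1
      apply h
      ext n
      have := congrArg (fun f => f n) h1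
      simpa using this)
    simpa using this

theorem proj_mul_proj [DecidableEq (N →* kˣ)] (hchar : (Fintype.card N : k) ≠ 0)
    (ρN : N →* Module.End k V) (χ ψ : N →* kˣ) :
    proj ρN χ * proj ρN ψ = if χ = ψ then proj ρN χ else 0 := by
  have h1 : proj ρN χ * proj ρN ψ =
      (Fintype.card N : k)⁻¹ • ∑ n : N, (((χ n)⁻¹ : kˣ) : k) • (ρN n * proj ρN ψ) := by
    conv_lhs => unfold proj
    rw [smul_mul_assoc, Finset.sum_mul]
    simp_rw [smul_mul_assoc]
    rfl
  rw [h1]
  simp_rw [rhoN_mul_proj, smul_smul]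
  rw [← Finset.sum_smul]
  have h2 : ∑ n : N, (((χ n)⁻¹ : kˣ) : k) * ((ψ n : kˣ) : k) =
      ∑ n : N, (((χ⁻¹ * ψ) n : kˣ) : k) := by
    refine Finset.sum_congr rfl (fun n _ => ?_)
    rw [MonoidHom.mul_apply, MonoidHom.inv_apply, Units.val_mul]
  rw [h2, sum_char]
  have hiff : χ⁻¹ * ψ = 1 ↔ χ = ψ := by
    constructor
    · intro h
      ext n
      have := congrArg (fun f => f n) h
      simp only [MonoidHom.mul_apply, MonoidHom.inv_apply, MonoidHom.one_apply] at this
      rw [inv_mul_eq_one] at this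
      rw [this]
    · rintro rfl
      ext n
      simp
  by_cases h : χ = ψ
  · rw [if_pos (hiff.mpr h), if_pos h, smul_smul, inv_mul_cancel₀ hchar, one_smul, h]
  · rw [if_neg (fun h' => h (hiff.mp h')), if_neg h, zero_smul, smul_zero]

section enough

variable [HasEnoughRootsOfUnity k (Monoid.exponent N)]

theorem finite_char : Finite (N →* kˣ) := by
  have h := CommGroup.card_monoidHom_of_hasEnoughRootsOfUnity N k
  have h0 : Nat.card (N →* kˣ) ≠ 0 := by
    rw [h]
    exact Nat.card_pos.ne'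
  exact Nat.finite_of_card_ne_zero h0

/-- sum over all characters evaluated at a point -/
theorem sum_over_char [Fintype (N →* kˣ)] [DecidableEq N] (n : N) :
    ∑ χ : N →* kˣ, ((χ n : kˣ) : k) = if n = 1 then (Fintype.card N : k) else 0 := by
  split_ifs with h
  · subst h
    simp only [map_one, Units.val_one, Finset.sum_const, Finset.card_univ, nsmul_eq_mul, mul_one]
    congr 1
    rw [← Nat.card_eq_fintype_card, ← Nat.card_eq_fintype_card]
    exact CommGroup.card_monoidHom_of_hasEnoughRootsOfUnity N k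
  · obtain ⟨φ, hφ⟩ := CommGroup.exists_apply_ne_one_of_hasEnoughRootsOfUnity N k h
    have := sum_hom_units_eq_zero ((Units.coeHom k).comp (MonoidHom.eval n : (N →* kˣ) →* kˣ)) (by
      intro h1
      apply hφ
      have := congrArg (fun f => f φ) h1
      simpa using this)
    simpa using this

theorem sum_proj [Fintype (N →* kˣ)] [DecidableEq N] (hchar : (Fintype.card N : k) ≠ 0)
    (ρN : N →* Module.End k V) : ∑ χ : N →* kˣ, proj ρN χ = 1 := by
  unfold proj
  rw [← Finset.smul_sum, Finset.sum_comm]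
  simp_rw [← Finset.sum_smul]
  have h : ∀ n : N, ∑ χ : N →* kˣ, (((χ n)⁻¹ : kˣ) : k) =
      if n = 1 then (Fintype.card N : k) else 0 := by
    intro n
    have h1 := sum_over_char (k := k) n⁻¹
    simp_rw [map_inv] at h1
    rw [h1]
    simp
  simp_rw [h]
  rw [Finset.sum_eq_single 1]
  · rw [if_pos rfl, map_one, smul_smul, inv_mul_cancel₀ hchar, one_smul]
  · intro n _ hn
    rw [if_neg hn, zero_smul]
  · intro h1
    exact absurd (Finset.mem_univ _) h1

end enough

section action

variable {H : Type*} [Group H]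

/-- the character `χ` twisted by `h` -/
def tw (act : H →* MulAut N) (h : H) (χ : N →* kˣ) : N →* kˣ :=
  χ.comp ((act h⁻¹ : MulAut N) : N ≃* N).toMonoidHom

omit [Fintype N] in
theorem tw_apply (act : H →* MulAut N) (h : H) (χ : N →* kˣ) (n : N) :
    tw act h χ n = χ (act h⁻¹ n) := rfl

omit [Fintype N] in
theorem tw_one (act : H →* MulAut N) (χ : N →* kˣ) : tw act 1 χ = χ := by
  ext n
  rw [tw_apply, inv_one, map_one, MulAut.one_apply]

omit [Fintype N] in
theorem tw_mul (act : H →* MulAut N) (g h : H) (χ : N →* kˣ) :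
    tw act (g * h) χ = tw act g (tw act h χ) := by
  ext n
  rw [tw_apply, tw_apply, tw_apply, mul_inv_rev, map_mul, MulAut.mul_apply]

omit [Fintype N] in
theorem tw_inv_tw (act : H →* MulAut N) (h : H) (χ : N →* kˣ) :
    tw act h⁻¹ (tw act h χ) = χ := by
  rw [← tw_mul, inv_mul_cancel, tw_one]

theorem rhoH_mul_proj (ρN : N →* Module.End k V) (ρH : H →* Module.End k V)
    (act : H →* MulAut N) (compat : ∀ h n, ρH h * ρN n = ρN (act h n) * ρH h)
    (h : H) (χ : N →* kˣ) :
    ρH h * proj ρN χ = proj ρN (tw act h χ) * ρH h := by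
  unfold proj
  rw [mul_smul_comm, smul_mul_assoc, Finset.mul_sum, Finset.sum_mul]
  congr 1
  refine Fintype.sum_equiv ((act h : MulAut N) : N ≃* N).toEquiv _ _ (fun n => ?_)
  rw [mul_smul_comm, smul_mul_assoc, compat]
  congr 2
  show (χ n)⁻¹ = (χ (act h⁻¹ (act h n)))⁻¹
  rw [map_inv, MulAut.inv_apply_self]

theorem conj_proj (ρN : N →* Module.End k V) (ρH : H →* Module.End k V)
    (act : H →* MulAut N) (compat : ∀ h n, ρH h * ρN n = ρN (act h n) * ρH h)
    (h : H) (χ : N →* kˣ) :
    ρH h * proj ρN χ * ρH h⁻¹ = proj ρN (tw act h χ) := by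
  rw [rhoH_mul_proj ρN ρH act compat, mul_assoc, ← map_mul, mul_inv_cancel, map_one, mul_one]

variable [Fintype H]

/-- **The split abelian case.** -/
theorem finrank_eq_of_split [FiniteDimensional k V]
    [HasEnoughRootsOfUnity k (Monoid.exponent N)]
    (ρN : N →* Module.End k V) (ρH : H →* Module.End k V) (act : H →* MulAut N)
    (compat : ∀ h n, ρH h * ρN n = ρN (act h n) * ρH h)
    (fpf : ∀ h : H, h ≠ 1 → ∀ n : N, act h n = n → n = 1)
    (hchar : (Fintype.card N : k) ≠ 0)
    (hfix : ∀ v : V, (∀ n, ρN n v = v) → v = 0) :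
    Module.finrank k V = Fintype.card H * Module.finrank k (fixedSub (fun h => ρH h)) := by
  classical
  haveI : Finite (N →* kˣ) := finite_char
  letI : Fintype (N →* kˣ) := Fintype.ofFinite _
  set P : (N →* kˣ) → Module.End k V := fun χ => proj ρN χ with hP
  have hconj : ∀ h χ, ρH h * P χ * ρH h⁻¹ = P (tw act h χ) :=
    fun h χ => conj_proj ρN ρH act compat h χ
  have hPP : ∀ χ ψ, P χ * P ψ = if χ = ψ then P χ else 0 :=
    fun χ ψ => proj_mul_proj hchar ρN χ ψ
  -- the trivial character does not occur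
  have hP1 : P 1 = 0 := by
    ext v
    rw [LinearMap.zero_apply]
    apply hfix
    intro n
    rw [hP]
    show ρN n (proj ρN 1 v) = proj ρN 1 v
    rw [rhoN_proj_apply, MonoidHom.one_apply, Units.val_one, one_smul]
  -- conjugates of nonzero projections are nonzero
  have hne : ∀ h χ, P χ ≠ 0 → P (tw act h χ) ≠ 0 := by
    intro h χ hχ h0
    apply hχ
    have h1 := hconj h⁻¹ (tw act h χ)
    rw [tw_inv_tw, h0, mul_zero, zero_mul] at h1
    exact h1.symm
  -- the action on occurring characters is free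
  have hfree : ∀ χ, P χ ≠ 0 → ∀ h, tw act h χ = χ → h = 1 := by
    intro χ hχ h hh
    by_contra h1
    apply hχ
    have hinv : h⁻¹ ≠ 1 := fun h2 => h1 (inv_eq_one.mp h2)
    -- `n ↦ act h⁻¹ n * n⁻¹` is a bijective endomorphism of `N`
    let φ : N →* N :=
      { toFun := fun n => act h⁻¹ n * n⁻¹
        map_one' := by simp
        map_mul' := by
          intro a b
          rw [map_mul, mul_inv]
          exact mul_mul_mul_comm _ _ _ _ }
    have hφinj : Function.Injective φ := by
      rw [injective_iff_map_eq_one]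
      intro n hn
      apply fpf h⁻¹ hinv
      have : act h⁻¹ n * n⁻¹ = 1 := hn
      exact mul_inv_eq_one.mp this
    have hφsurj : Function.Surjective φ := Finite.surjective_of_injective hφinj
    have hχ1 : χ = 1 := by
      ext n
      obtain ⟨m, rfl⟩ := hφsurj n
      have h2 : tw act h χ m = χ m := by rw [hh]
      rw [tw_apply] at h2
      show (χ (act h⁻¹ m * m⁻¹)).val = ((1 : N →* kˣ) (φ m)).val
      rw [map_mul, h2, map_inv, mul_inv_cancel, MonoidHom.one_apply]
    rw [hχ1]
    exact hP1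
  -- a fundamental domain
  let ι := Fintype.equivFin (N →* kˣ)
  set D : Finset (N →* kˣ) :=
    Finset.univ.filter (fun χ => P χ ≠ 0 ∧ ∀ h, ι χ ≤ ι (tw act h χ)) with hD
  have hDmem : ∀ χ, χ ∈ D ↔ (P χ ≠ 0 ∧ ∀ h, ι χ ≤ ι (tw act h χ)) := by
    intro χ
    rw [hD, Finset.mem_filter]
    simp
  have huniq : ∀ χ ∈ D, ∀ ψ ∈ D, ∀ h h', tw act h χ = tw act h' ψ → h = h' ∧ χ = ψ := by
    intro χ hχ ψ hψ h h' he
    have e1 : χ = tw act (h⁻¹ * h') ψ := by
      rw [tw_mul, ← he, tw_inv_tw]
    have e2 : ψ = tw act (h'⁻¹ * h) χ := by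
      rw [tw_mul, he, tw_inv_tw]
    have l1 : ι ψ ≤ ι χ := by
      have := ((hDmem ψ).mp hψ).2 (h⁻¹ * h')
      rwa [← e1] at this
    have l2 : ι χ ≤ ι ψ := by
      have := ((hDmem χ).mp hχ).2 (h'⁻¹ * h)
      rwa [← e2] at this
    have e3 : χ = ψ := ι.injective (le_antisymm l2 l1)
    refine ⟨?_, e3⟩
    have e4 : tw act (h⁻¹ * h') ψ = ψ := by rw [← e1, e3]
    have := hfree ψ ((hDmem ψ).mp hψ).1 _ e4
    exact (inv_mul_eq_one.mp this)
  have hex : ∀ ψ, P ψ ≠ 0 → ∃ h, ∃ χ ∈ D, tw act h χ = ψ := by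
    intro ψ hψ
    obtain ⟨h₀, -, hmin⟩ := Finset.exists_min_image Finset.univ (fun h => ι (tw act h ψ))
      ⟨1, Finset.mem_univ 1⟩
    refine ⟨h₀⁻¹, tw act h₀ ψ, ?_, tw_inv_tw act h₀ ψ⟩
    rw [hDmem]
    refine ⟨hne _ _ hψ, ?_⟩
    intro h
    rw [← tw_mul]
    exact hmin (h * h₀) (Finset.mem_univ _)
  set Q : Module.End k V := ∑ χ ∈ D, P χ with hQ
  have hconjQ : ∀ h, ρH h * Q * ρH h⁻¹ = ∑ χ ∈ D, P (tw act h χ) := by
    intro h
    rw [hQ, Finset.mul_sum, Finset.sum_mul]
    exact Finset.sum_congr rfl (fun χ _ => hconj h χ)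
  have hidem : Q * Q = Q := by
    rw [hQ, Finset.sum_mul]
    refine Finset.sum_congr rfl (fun χ hχ => ?_)
    rw [Finset.mul_sum]
    simp_rw [hPP]
    rw [Finset.sum_ite_eq, if_pos hχ]
  have horth : ∀ h h' : H, h ≠ h' → (ρH h * Q * ρH h⁻¹) * (ρH h' * Q * ρH h'⁻¹) = 0 := by
    intro h h' hhh
    rw [hconjQ, hconjQ, Finset.sum_mul]
    refine Finset.sum_eq_zero (fun χ hχ => ?_)
    rw [Finset.mul_sum]
    refine Finset.sum_eq_zero (fun ψ hψ => ?_)
    rw [hPP, if_neg]
    intro he
    exact hhh (huniq χ hχ ψ hψ h h' he).1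
  have hsum : ∑ h : H, ρH h * Q * ρH h⁻¹ = 1 := by
    simp_rw [hconjQ]
    rw [← sum_proj hchar ρN, ← Finset.sum_product']
    have hS : ∑ ψ : N →* kˣ, proj ρN ψ = ∑ ψ ∈ Finset.univ.filter (fun ψ => P ψ ≠ 0), P ψ :=
      (Finset.sum_filter_ne_zero Finset.univ).symm
    rw [hS]
    refine Finset.sum_bij (fun x _ => tw act x.1 x.2) ?_ ?_ ?_ ?_
    · intro x hx
      rw [Finset.mem_filter]
      refine ⟨Finset.mem_univ _, ?_⟩
      exact hne _ _ ((hDmem _).mp (Finset.mem_product.mp hx).2).1
    · intro x hx y hy he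
      obtain ⟨e1, e2⟩ := huniq x.2 (Finset.mem_product.mp hx).2 y.2 (Finset.mem_product.mp hy).2
        x.1 y.1 he
      exact Prod.ext e1 e2
    · intro ψ hψ
      obtain ⟨h, χ, hχ, he⟩ := hex ψ (Finset.mem_filter.mp hψ).2
      exact ⟨(h, χ), Finset.mem_product.mpr ⟨Finset.mem_univ _, hχ⟩, he⟩
    · intro x _
      rfl
  exact finrank_eq_card_mul_finrank_fixed ρH Q horth hidem hsum

/-- two endomorphisms of a space of dimension at most one commute on it -/
theorem commute_on_of_finrank_le_one (L : Submodule k V) (hL : Module.finrank k L ≤ 1)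
    [FiniteDimensional k V]
    (X Y : Module.End k V) (hX : ∀ w ∈ L, X w ∈ L) (hY : ∀ w ∈ L, Y w ∈ L) (w : V) (hw : w ∈ L) :
    X (Y w) = Y (X w) := by
  obtain ⟨v, hv⟩ := finrank_le_one_iff.mp hL
  obtain ⟨c, hc⟩ := hv ⟨w, hw⟩
  obtain ⟨a, ha⟩ := hv ⟨X v, hX v v.2⟩
  obtain ⟨b, hb⟩ := hv ⟨Y v, hY v v.2⟩
  have hc' : c • (v : V) = w := congrArg Subtype.val hc
  have ha' : a • (v : V) = X v := congrArg Subtype.val ha
  have hb' : b • (v : V) = Y v := congrArg Subtype.val hb
  have e1 : X (Y w) = (c * (b * a)) • (v : V) := by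
    rw [← hc', map_smul, ← hb', map_smul, map_smul, ← ha', smul_smul, smul_smul, mul_assoc]
  have e2 : Y (X w) = (c * (a * b)) • (v : V) := by
    rw [← hc', map_smul, ← ha', map_smul, map_smul, ← hb', smul_smul, smul_smul, mul_assoc]
  rw [e1, e2, mul_comm a b]

/-- **Small dimension**: if `dim V ≤ |H|` then endomorphisms commuting with `N` commute with each
other. -/
theorem commute_of_finrank_le_split [FiniteDimensional k V]
    [HasEnoughRootsOfUnity k (Monoid.exponent N)]
    (ρN : N →* Module.End k V) (ρH : H →* Module.End k V) (act : H →* MulAut N)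
    (compat : ∀ h n, ρH h * ρN n = ρN (act h n) * ρH h)
    (fpf : ∀ h : H, h ≠ 1 → ∀ n : N, act h n = n → n = 1)
    (hchar : (Fintype.card N : k) ≠ 0)
    (hfix : ∀ v : V, (∀ n, ρN n v = v) → v = 0)
    (hdim : Module.finrank k V ≤ Fintype.card H)
    (X Y : Module.End k V) (hX : ∀ n, X * ρN n = ρN n * X) (hY : ∀ n, Y * ρN n = ρN n * Y) :
    X * Y = Y * X := by
  classical
  haveI : Finite (N →* kˣ) := finite_char
  letI : Fintype (N →* kˣ) := Fintype.ofFinite _
  set P : (N →* kˣ) → Module.End k V := fun χ => proj ρN χ with hP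
  have hconj : ∀ h χ, ρH h * P χ * ρH h⁻¹ = P (tw act h χ) :=
    fun h χ => conj_proj ρN ρH act compat h χ
  have hPP : ∀ χ ψ, P χ * P ψ = if χ = ψ then P χ else 0 :=
    fun χ ψ => proj_mul_proj hchar ρN χ ψ
  have hsumP : ∑ χ : N →* kˣ, P χ = 1 := sum_proj hchar ρN
  have hP1 : P 1 = 0 := by
    ext v
    rw [LinearMap.zero_apply]
    apply hfix
    intro n
    rw [hP]
    show ρN n (proj ρN 1 v) = proj ρN 1 v
    rw [rhoN_proj_apply, MonoidHom.one_apply, Units.val_one, one_smul]
  have hfree : ∀ χ, P χ ≠ 0 → ∀ h, tw act h χ = χ → h = 1 := by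
    intro χ hχ h hh
    by_contra h1
    apply hχ
    have hinv : h⁻¹ ≠ 1 := fun h2 => h1 (inv_eq_one.mp h2)
    let φ : N →* N :=
      { toFun := fun n => act h⁻¹ n * n⁻¹
        map_one' := by simp
        map_mul' := by
          intro a b
          rw [map_mul, mul_inv]
          exact mul_mul_mul_comm _ _ _ _ }
    have hφinj : Function.Injective φ := by
      rw [injective_iff_map_eq_one]
      intro n hn
      apply fpf h⁻¹ hinv
      have : act h⁻¹ n * n⁻¹ = 1 := hn
      exact mul_inv_eq_one.mp this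
    have hφsurj : Function.Surjective φ := Finite.surjective_of_injective hφinj
    have hχ1 : χ = 1 := by
      ext n
      obtain ⟨m, rfl⟩ := hφsurj n
      have h2 : tw act h χ m = χ m := by rw [hh]
      rw [tw_apply] at h2
      show (χ (act h⁻¹ m * m⁻¹)).val = ((1 : N →* kˣ) (φ m)).val
      rw [map_mul, h2, map_inv, mul_inv_cancel, MonoidHom.one_apply]
    rw [hχ1]
    exact hP1
  -- dimension of the ranges
  have hfin := finrank_eq_sum_finrank_range P
    (fun χ ψ hne => by rw [hPP, if_neg hne]) (fun χ => by rw [hPP, if_pos rfl]) hsumP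
  have hrk : ∀ h χ, Module.finrank k (LinearMap.range (P (tw act h χ))) =
      Module.finrank k (LinearMap.range (P χ)) := by
    intro h χ
    have hρ : ρH h * ρH h⁻¹ = 1 := by rw [← map_mul, mul_inv_cancel, map_one]
    have hρ' : ρH h⁻¹ * ρH h = 1 := by rw [← map_mul, inv_mul_cancel, map_one]
    let eh : V ≃ₗ[k] V :=
      { (ρH h) with
        invFun := ρH h⁻¹
        left_inv := fun v => by
          show (ρH h⁻¹ * ρH h) v = v
          rw [hρ', Module.End.one_apply]
        right_inv := fun v => by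
          show (ρH h * ρH h⁻¹) v = v
          rw [hρ, Module.End.one_apply] }
    have hr : LinearMap.range (P (tw act h χ)) = (LinearMap.range (P χ)).map (eh : V →ₗ[k] V) := by
      rw [← hconj]
      ext v
      constructor
      · rintro ⟨u, rfl⟩
        exact ⟨P χ (ρH h⁻¹ u), ⟨_, rfl⟩, rfl⟩
      · rintro ⟨_, ⟨u, rfl⟩, rfl⟩
        refine ⟨ρH h u, ?_⟩
        show ρH h (P χ (ρH h⁻¹ (ρH h u))) = ρH h (P χ u)
        have : ρH h⁻¹ (ρH h u) = u := by
          rw [← Module.End.mul_apply, hρ', Module.End.one_apply]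
        rw [this]
    rw [hr]
    exact (eh.submoduleMap (LinearMap.range (P χ))).finrank_eq.symm
  have hle1 : ∀ χ, Module.finrank k (LinearMap.range (P χ)) ≤ 1 := by
    intro χ
    by_contra hgt
    push Not at hgt
    have hχ : P χ ≠ 0 := by
      intro h0
      rw [h0, LinearMap.range_zero, finrank_bot] at hgt
      omega
    have hinj : Function.Injective (fun h : H => tw act h χ) := by
      intro h h' he
      have he' : tw act h χ = tw act h' χ := he
      have e1 : tw act (h'⁻¹ * h) χ = χ := by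
        rw [tw_mul, he', tw_inv_tw]
      have := hfree χ hχ _ e1
      exact (inv_mul_eq_one.mp this).symm
    have h1 : ∑ h : H, Module.finrank k (LinearMap.range (P (tw act h χ))) ≤
        ∑ ψ : N →* kˣ, Module.finrank k (LinearMap.range (P ψ)) := by
      rw [← Finset.sum_image (f := fun ψ => Module.finrank k (LinearMap.range (P ψ)))
        (s := Finset.univ) (g := fun h : H => tw act h χ) (fun a _ b _ hab => hinj hab)]
      exact Finset.sum_le_sum_of_subset (Finset.subset_univ _)
    simp_rw [hrk] at h1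
    rw [Finset.sum_const, Finset.card_univ, smul_eq_mul, ← hfin] at h1
    have h2 : Fintype.card H * 2 ≤ Fintype.card H * Module.finrank k (LinearMap.range (P χ)) :=
      Nat.mul_le_mul_left _ hgt
    have h3 : 0 < Fintype.card H := Fintype.card_pos
    omega
  -- `X`, `Y` commute with the projections
  have hXP : ∀ χ, X * P χ = P χ * X := by
    intro χ
    rw [hP]
    show X * proj ρN χ = proj ρN χ * X
    unfold proj
    rw [mul_smul_comm, smul_mul_assoc, Finset.mul_sum, Finset.sum_mul]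
    congr 1
    refine Finset.sum_congr rfl (fun n _ => ?_)
    rw [mul_smul_comm, smul_mul_assoc, hX]
  have hYP : ∀ χ, Y * P χ = P χ * Y := by
    intro χ
    rw [hP]
    show Y * proj ρN χ = proj ρN χ * Y
    unfold proj
    rw [mul_smul_comm, smul_mul_assoc, Finset.mul_sum, Finset.sum_mul]
    congr 1
    refine Finset.sum_congr rfl (fun n _ => ?_)
    rw [mul_smul_comm, smul_mul_assoc, hY]
  have hkey : ∀ χ, X * Y * P χ = Y * X * P χ := by
    intro χ
    ext v
    show X (Y (P χ v)) = Y (X (P χ v))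
    apply commute_on_of_finrank_le_one (LinearMap.range (P χ)) (hle1 χ) X Y
    · rintro _ ⟨u, rfl⟩
      exact ⟨X u, by rw [← Module.End.mul_apply, ← hXP, Module.End.mul_apply]⟩
    · rintro _ ⟨u, rfl⟩
      exact ⟨Y u, by rw [← Module.End.mul_apply, ← hYP, Module.End.mul_apply]⟩
    · exact ⟨v, rfl⟩
  calc X * Y = X * Y * ∑ χ : N →* kˣ, P χ := by rw [hsumP, mul_one]
    _ = ∑ χ : N →* kˣ, X * Y * P χ := Finset.mul_sum _ _ _
    _ = ∑ χ : N →* kˣ, Y * X * P χ := Finset.sum_congr rfl (fun χ _ => hkey χ)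
    _ = Y * X * ∑ χ : N →* kˣ, P χ := (Finset.mul_sum _ _ _).symm
    _ = Y * X := by rw [hsumP, mul_one]

end action

end Cfsg.Agent.Helper10.FrobRep
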