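import Mathlib
import Cfsg.Agent.Lib.Helper10.FrobSplit

/-!
# Frobenius actions on modules: the abelian case over an arbitrary field

Base change to the algebraic closure.
-/

set_option autoImplicit false

namespace Cfsg.Agent.Helper10.FrobRep

open TensorProduct

variable {k : Type*} [Field k] {V : Type*} [AddCommGroup V] [Module k V]

/-- fixed points as a kernel -/
theorem fixedSub_eq_ker {H : Type*} (ρ : H → Module.End k V) :
    fixedSub ρ = LinearMap.ker (LinearMap.pi (fun h => ρ h - 1)) := by
  ext v
  rw [mem_fixedSub, LinearMap.mem_ker]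
  constructor
  · intro h
    funext g
    simp [h g]
  · intro h g
    have := congrFun h g
    simpa [sub_eq_zero] using this

theorem bc_tmul (k' : Type*) [Field k'] [Algebra k k'] (f : Module.End k V) (c : k') (v : V) :
    Module.End.baseChangeHom k k' V f (c ⊗ₜ[k] v) = c ⊗ₜ[k] f v :=
  LinearMap.baseChange_tmul f c v

/-- base change of fixed points -/
theorem finrank_fixedSub_baseChange (k' : Type*) [Field k'] [Algebra k k'] {H : Type*} [Finite H]
    (ρ : H → Module.End k V) :
    Module.finrank k' (fixedSub (fun h => Module.End.baseChangeHom k k' V (ρ h))) =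
      Module.finrank k (fixedSub ρ) := by
  classical
  letI : Fintype H := Fintype.ofFinite H
  rw [fixedSub_eq_ker, fixedSub_eq_ker]
  set T : V →ₗ[k] (H → V) := LinearMap.pi (fun h => ρ h - 1) with hT
  set T' : k' ⊗[k] V →ₗ[k'] (H → k' ⊗[k] V) :=
    LinearMap.pi (fun h => Module.End.baseChangeHom k k' V (ρ h) - 1) with hT'
  have hcomp : T' = (TensorProduct.piRight k k' k' (fun _ : H => V)).toLinearMap ∘ₗ
      (AlgebraTensorModule.lTensor k' k' T) := by
    apply TensorProduct.AlgebraTensorModule.ext
    intro c v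
    funext h
    have e1 : T' (c ⊗ₜ[k] v) h = c ⊗ₜ[k] (ρ h v) - c ⊗ₜ[k] v := by
      rw [hT']
      simp only [LinearMap.pi_apply, LinearMap.sub_apply, Module.End.one_apply]
      rw [bc_tmul]
    have e2 : ((TensorProduct.piRight k k' k' (fun _ : H => V)).toLinearMap ∘ₗ
        (AlgebraTensorModule.lTensor k' k' T)) (c ⊗ₜ[k] v) h = c ⊗ₜ[k] (ρ h v - v) := by
      simp [hT]
    rw [e1, e2, TensorProduct.tmul_sub]
  have hker : LinearMap.ker T' = LinearMap.ker (AlgebraTensorModule.lTensor k' k' T) := by
    rw [hcomp, LinearMap.ker_comp, LinearEquiv.ker, Submodule.comap_bot]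
  rw [hker, ← (LinearMap.tensorKerEquiv k' k' T).finrank_eq, Module.finrank_baseChange]

/-- **The abelian case** over an arbitrary field: `N` abelian, `|N|` invertible in `k`,
`H` acting on `N` without fixed points and compatibly on `V`, `C_V(N) = 0`:
`dim V = |H| * dim C_V(H)`. -/
theorem finrank_eq_of_abelian [FiniteDimensional k V] {N : Type*} [CommGroup N] [Finite N]
    {H : Type*} [Group H] [Finite H]
    (ρN : N →* Module.End k V) (ρH : H →* Module.End k V) (act : H →* MulAut N)
    (compat : ∀ h n, ρH h * ρN n = ρN (act h n) * ρH h)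
    (fpf : ∀ h : H, h ≠ 1 → ∀ n : N, act h n = n → n = 1)
    (hchar : (Nat.card N : k) ≠ 0)
    (hfix : ∀ v : V, (∀ n, ρN n v = v) → v = 0) :
    Module.finrank k V = Nat.card H * Module.finrank k (fixedSub (fun h => ρH h)) := by
  classical
  letI : Fintype N := Fintype.ofFinite N
  letI : Fintype H := Fintype.ofFinite H
  rw [Nat.card_eq_fintype_card] at hchar ⊢
  let k' := AlgebraicClosure k
  let β : Module.End k V →ₐ[k] Module.End k' (k' ⊗[k] V) := Module.End.baseChangeHom k k' V
  let ρN' : N →* Module.End k' (k' ⊗[k] V) := (β : _ →* _).comp ρN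
  let ρH' : H →* Module.End k' (k' ⊗[k] V) := (β : _ →* _).comp ρH
  have hρN' : ∀ n, ρN' n = β (ρN n) := fun n => rfl
  have hρH' : ∀ h, ρH' h = β (ρH h) := fun h => rfl
  have compat' : ∀ h n, ρH' h * ρN' n = ρN' (act h n) * ρH' h := by
    intro h n
    rw [hρH', hρN', hρN', ← map_mul, compat, map_mul]
  have hchar' : (Fintype.card N : k') ≠ 0 := by
    intro h0
    apply hchar
    have : algebraMap k k' (Fintype.card N : k) = 0 := by rw [map_natCast]; exact h0
    exact (map_eq_zero_iff _ (algebraMap k k').injective).mp this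
  have hsum0 : ∑ n : N, ρN n = 0 := by
    ext v
    rw [LinearMap.zero_apply]
    apply hfix
    intro m
    rw [LinearMap.sum_apply, map_sum]
    simp_rw [← Module.End.mul_apply, ← map_mul]
    exact Fintype.sum_equiv (Equiv.mulLeft m) _ _ (fun n => rfl)
  have hfix' : ∀ v : k' ⊗[k] V, (∀ n, ρN' n v = v) → v = 0 := by
    intro v hv
    have h1 : (∑ n : N, ρN' n) v = (Fintype.card N : k') • v := by
      rw [LinearMap.sum_apply]
      simp_rw [hv]
      rw [Finset.sum_const, Finset.card_univ, Nat.cast_smul_eq_nsmul]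
    have h2 : ∑ n : N, ρN' n = 0 := by
      simp_rw [hρN']
      rw [← map_sum, hsum0, map_zero]
    rw [h2, LinearMap.zero_apply] at h1
    exact (smul_eq_zero.mp h1.symm).resolve_left hchar'
  haveI : NeZero ((Monoid.exponent N : ℕ) : k) := by
    constructor
    intro h0
    apply hchar
    obtain ⟨m, hm⟩ := Group.exponent_dvd_card (G := N)
    rw [hm, Nat.cast_mul, h0, zero_mul]
  have key := finrank_eq_of_split (k := k') ρN' ρH' act compat' fpf hchar' hfix'
  rw [Module.finrank_baseChange] at key
  rw [key]
  congr 1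
  exact finrank_fixedSub_baseChange k' (fun h => ρH h)

/-- **Small dimension** over an arbitrary field: if `dim V ≤ |H|` then endomorphisms commuting
with `N` commute with each other. -/
theorem commute_of_finrank_le [FiniteDimensional k V] {N : Type*} [CommGroup N] [Finite N]
    {H : Type*} [Group H] [Finite H]
    (ρN : N →* Module.End k V) (ρH : H →* Module.End k V) (act : H →* MulAut N)
    (compat : ∀ h n, ρH h * ρN n = ρN (act h n) * ρH h)
    (fpf : ∀ h : H, h ≠ 1 → ∀ n : N, act h n = n → n = 1)
    (hchar : (Nat.card N : k) ≠ 0)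
    (hfix : ∀ v : V, (∀ n, ρN n v = v) → v = 0)
    (hdim : Module.finrank k V ≤ Nat.card H)
    (X Y : Module.End k V) (hX : ∀ n, X * ρN n = ρN n * X) (hY : ∀ n, Y * ρN n = ρN n * Y) :
    X * Y = Y * X := by
  classical
  letI : Fintype N := Fintype.ofFinite N
  letI : Fintype H := Fintype.ofFinite H
  rw [Nat.card_eq_fintype_card] at hchar hdim
  let k' := AlgebraicClosure k
  let β : Module.End k V →ₐ[k] Module.End k' (k' ⊗[k] V) := Module.End.baseChangeHom k k' V
  have hβinj : Function.Injective β := LinearMap.baseChangeHom_injective k V k'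
  let ρN' : N →* Module.End k' (k' ⊗[k] V) := (β : _ →* _).comp ρN
  let ρH' : H →* Module.End k' (k' ⊗[k] V) := (β : _ →* _).comp ρH
  have hρN' : ∀ n, ρN' n = β (ρN n) := fun n => rfl
  have hρH' : ∀ h, ρH' h = β (ρH h) := fun h => rfl
  have compat' : ∀ h n, ρH' h * ρN' n = ρN' (act h n) * ρH' h := by
    intro h n
    rw [hρH', hρN', hρN', ← map_mul, compat, map_mul]
  have hchar' : (Fintype.card N : k') ≠ 0 := by
    intro h0
    apply hchar
    have : algebraMap k k' (Fintype.card N : k) = 0 := by rw [map_natCast]; exact h0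
    exact (map_eq_zero_iff _ (algebraMap k k').injective).mp this
  have hsum0 : ∑ n : N, ρN n = 0 := by
    ext v
    rw [LinearMap.zero_apply]
    apply hfix
    intro m
    rw [LinearMap.sum_apply, map_sum]
    simp_rw [← Module.End.mul_apply, ← map_mul]
    exact Fintype.sum_equiv (Equiv.mulLeft m) _ _ (fun n => rfl)
  have hfix' : ∀ v : k' ⊗[k] V, (∀ n, ρN' n v = v) → v = 0 := by
    intro v hv
    have h1 : (∑ n : N, ρN' n) v = (Fintype.card N : k') • v := by
      rw [LinearMap.sum_apply]
      simp_rw [hv]
      rw [Finset.sum_const, Finset.card_univ, Nat.cast_smul_eq_nsmul]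
    have h2 : ∑ n : N, ρN' n = 0 := by
      simp_rw [hρN']
      rw [← map_sum, hsum0, map_zero]
    rw [h2, LinearMap.zero_apply] at h1
    exact (smul_eq_zero.mp h1.symm).resolve_left hchar'
  haveI : NeZero ((Monoid.exponent N : ℕ) : k) := by
    constructor
    intro h0
    apply hchar
    obtain ⟨m, hm⟩ := Group.exponent_dvd_card (G := N)
    rw [hm, Nat.cast_mul, h0, zero_mul]
  have hdim' : Module.finrank k' (k' ⊗[k] V) ≤ Fintype.card H := by
    rw [Module.finrank_baseChange]
    exact hdim
  have key := commute_of_finrank_le_split (k := k') ρN' ρH' act compat' fpf hchar' hfix' hdim'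
    (β X) (β Y) (fun n => by rw [hρN', ← map_mul, hX, map_mul])
    (fun n => by rw [hρN', ← map_mul, hY, map_mul])
  apply hβinj
  rw [map_mul, map_mul]
  exact key

end Cfsg.Agent.Helper10.FrobRep
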