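import Mathlib
import Cfsg.Agent.Lib.Helper10.FrobAbel

/-!
# Frobenius actions on modules: nilpotent kernel

`A` a finite group, `K ⊴ A` nilpotent, `E ≤ A` acting on `K` without fixed points,
`ρ` a representation of `A` over a field in which `|K|` is invertible.  Then
`dim V + |E| dim C_V(KE) = dim C_V(K) + |E| dim C_V(E)`; and if `C_V(K) = 0` and
`dim V ≤ |E|` then `K` acts as a commutative group.
-/

set_option autoImplicit false

namespace Cfsg.Agent.Helper10.FrobRep

universe u v w

section Lin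

variable {k : Type*} [Field k] {V : Type*} [AddCommGroup V] [Module k V]

theorem finrank_comap_subtype (W F : Submodule k V) :
    Module.finrank k (F.comap W.subtype) = Module.finrank k (F ⊓ W : Submodule k V) := by
  have h : (F ⊓ W).comap W.subtype = F.comap W.subtype := by
    rw [Submodule.comap_inf, Submodule.comap_subtype_self, inf_top_eq]
  rw [← h]
  exact (Submodule.comapSubtypeEquivOfLe (inf_le_right : F ⊓ W ≤ W)).finrank_eq

theorem finrank_inf_add_of_isProj [FiniteDimensional k V] (π : Module.End k V)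
    (V1 : Submodule k V) (hπ : LinearMap.IsProj V1 π)
    (F : Submodule k V) (hF : ∀ v ∈ F, π v ∈ F) :
    Module.finrank k F = Module.finrank k (F ⊓ V1 : Submodule k V) +
      Module.finrank k (F ⊓ LinearMap.ker π : Submodule k V) := by
  have h1 := LinearMap.finrank_range_add_finrank_ker (π.domRestrict F)
  have h2 : LinearMap.range (π.domRestrict F) = F ⊓ V1 := by
    rw [LinearMap.range_domRestrict]
    ext v
    constructor
    · rintro ⟨w, hw, rfl⟩
      exact ⟨hF w hw, hπ.map_mem w⟩
    · rintro ⟨hv1, hv2⟩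
      exact ⟨v, hv1, hπ.map_id v hv2⟩
  have h3 : LinearMap.ker (π.domRestrict F) = (LinearMap.ker π).comap F.subtype := by
    ext v
    simp [LinearMap.domRestrict]
  rw [h2, h3, finrank_comap_subtype] at h1
  rw [← h1, inf_comm (LinearMap.ker π)]

end Lin

section Rep

variable {k : Type*} [Field k] {V : Type*} [AddCommGroup V] [Module k V]
variable {A : Type*} [Group A]

/-- invariants of a subgroup -/
noncomputable abbrev fixS (ρ : Representation k A V) (S : Subgroup A) : Submodule k V :=
  Representation.invariants (ρ.comp S.subtype)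

theorem mem_fixS (ρ : Representation k A V) (S : Subgroup A) (v : V) :
    v ∈ fixS ρ S ↔ ∀ s ∈ S, ρ s v = v := by
  rw [Representation.mem_invariants]
  constructor
  · intro h s hs
    exact h ⟨s, hs⟩
  · intro h s
    exact h s s.2

theorem fixS_anti (ρ : Representation k A V) {S T : Subgroup A} (h : S ≤ T) :
    fixS ρ T ≤ fixS ρ S := by
  intro v hv
  rw [mem_fixS] at hv ⊢
  exact fun s hs => hv s (h hs)

theorem fixS_sub_eq (ρ : Representation k A V) (W : Submodule k V)
    (hW : ∀ g, W ≤ W.comap (ρ g)) (S : Subgroup A) :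
    fixS (ρ.subrepresentation W hW) S = (fixS ρ S).comap W.subtype := by
  ext v
  rw [mem_fixS, Submodule.mem_comap, mem_fixS]
  constructor
  · intro h s hs
    have := congrArg Subtype.val (h s hs)
    simpa using this
  · intro h s hs
    apply Subtype.ext
    simpa using h s hs

theorem fixS_quot_eq (ρ : Representation k A V) (Z S : Subgroup A) [Z.Normal] :
    fixS (Representation.quotientToInvariants ρ Z) (S.map (QuotientGroup.mk' Z)) =
      (fixS ρ S).comap (fixS ρ Z).subtype := by
  ext v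
  rw [mem_fixS, Submodule.mem_comap, mem_fixS]
  constructor
  · intro h s hs
    have := congrArg Subtype.val (h (QuotientGroup.mk' Z s) (Subgroup.mem_map_of_mem _ hs))
    simpa using this
  · intro h s hs
    obtain ⟨a, ha, rfl⟩ := Subgroup.mem_map.mp hs
    apply Subtype.ext
    simpa using h a ha

/-- the averaging projection of a normal subgroup of invertible order -/
theorem exists_proj_of_normal (ρ : Representation k A V) (Z : Subgroup A) [Z.Normal] [Finite Z]
    (hchar : (Nat.card Z : k) ≠ 0) :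
    ∃ π : Module.End k V, LinearMap.IsProj (fixS ρ Z) π ∧ ∀ a : A, ρ a * π = π * ρ a := by
  classical
  letI : Fintype Z := Fintype.ofFinite Z
  rw [Nat.card_eq_fintype_card] at hchar
  refine ⟨(Fintype.card Z : k)⁻¹ • ∑ z : Z, ρ z, ⟨?_, ?_⟩, ?_⟩
  · intro v
    rw [mem_fixS]
    intro s hs
    rw [LinearMap.smul_apply, map_smul]
    congr 1
    rw [LinearMap.sum_apply, map_sum]
    simp_rw [← Module.End.mul_apply, ← map_mul]
    exact Fintype.sum_equiv (Equiv.mulLeft (⟨s, hs⟩ : Z)) _ _ (fun n => rfl)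
  · intro v hv
    rw [mem_fixS] at hv
    rw [LinearMap.smul_apply, LinearMap.sum_apply]
    have : ∀ z : Z, ρ (z : A) v = v := fun z => hv z z.2
    simp_rw [this]
    rw [Finset.sum_const, Finset.card_univ, ← Nat.cast_smul_eq_nsmul k, smul_smul,
      inv_mul_cancel₀ hchar, one_smul]
  · intro a
    rw [mul_smul_comm, smul_mul_assoc, Finset.mul_sum, Finset.sum_mul]
    congr 1
    refine Fintype.sum_equiv (MulAut.conjNormal a : Z ≃* Z).toEquiv _ _ (fun z => ?_)
    rw [← map_mul, ← map_mul]
    congr 1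
    simp [MulAut.conjNormal_apply]

end Rep

section Grp

variable {A : Type*} [Group A]

/-- key computation for fixed-point-free maps -/
theorem conj_fixed_of_eq {e a b : A} (h : a⁻¹ * (e * a * e⁻¹) = b⁻¹ * (e * b * e⁻¹)) :
    e * (b * a⁻¹) * e⁻¹ = b * a⁻¹ := by
  have h1 : e * b * e⁻¹ = b * (b⁻¹ * (e * b * e⁻¹)) := by group
  rw [← h] at h1
  calc e * (b * a⁻¹) * e⁻¹ = (e * b * e⁻¹) * (e * a * e⁻¹)⁻¹ := by group
    _ = b * a⁻¹ := by rw [h1]; group

/-- a fixed-point-free action stays fixed-point-free modulo an invariant normal subgroup -/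
theorem fpf_mod (K E Z : Subgroup A) [Z.Normal] [Finite Z] (hZK : Z ≤ K)
    (fpf : ∀ e ∈ E, e ≠ 1 → ∀ x ∈ K, e * x * e⁻¹ = x → x = 1)
    (e : A) (he : e ∈ E) (he1 : e ≠ 1) (x : A) (hx : x ∈ K)
    (hm : x⁻¹ * (e * x * e⁻¹) ∈ Z) : x ∈ Z := by
  let φ : Z → Z := fun z => ⟨(z : A)⁻¹ * (e * z * e⁻¹),
    Z.mul_mem (Z.inv_mem z.2) (Subgroup.Normal.conj_mem inferInstance _ z.2 e)⟩
  have hinj : Function.Injective φ := by
    intro z w hzw
    have h1 : (z : A)⁻¹ * (e * z * e⁻¹) = (w : A)⁻¹ * (e * w * e⁻¹) := congrArg Subtype.val hzw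
    have h2 := conj_fixed_of_eq h1
    have h3 := fpf e he he1 _ (K.mul_mem (hZK w.2) (K.inv_mem (hZK z.2))) h2
    apply Subtype.ext
    exact (mul_inv_eq_one.mp h3).symm
  have hsurj : Function.Surjective φ := Finite.injective_iff_surjective.mp hinj
  obtain ⟨z, hz⟩ := hsurj ⟨_, hm⟩
  have h1 : (z : A)⁻¹ * (e * z * e⁻¹) = x⁻¹ * (e * x * e⁻¹) := congrArg Subtype.val hz
  have h2 := conj_fixed_of_eq h1
  have h3 := fpf e he he1 _ (K.mul_mem hx (K.inv_mem (hZK z.2))) h2
  rw [mul_inv_eq_one.mp h3]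
  exact z.2

/-- the `E`-invariant central subgroup used in the induction -/
def zc (K : Subgroup A) : Subgroup A := K ⊓ Subgroup.centralizer (K : Set A)

instance zc_normal (K : Subgroup A) [K.Normal] : (zc K).Normal := by
  unfold zc
  infer_instance

theorem zc_le (K : Subgroup A) : zc K ≤ K := inf_le_left

theorem zc_comm (K : Subgroup A) (z w : A) (hz : z ∈ zc K) (hw : w ∈ zc K) : z * w = w * z :=
  (Subgroup.mem_centralizer_iff.mp hw.2 z hz.1)

theorem zc_commute (K : Subgroup A) (z x : A) (hz : z ∈ zc K) (hx : x ∈ K) : x * z = z * x :=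
  (Subgroup.mem_centralizer_iff.mp hz.2 x hx)

theorem zc_ne_bot (K : Subgroup A) (hK : Group.IsNilpotent K) (hK1 : K ≠ ⊥) : zc K ≠ ⊥ := by
  haveI : Nontrivial K := (Subgroup.nontrivial_iff_ne_bot K).mpr hK1
  have h := Group.IsNilpotent.center_ne_bot (G := K)
  obtain ⟨⟨z, hz⟩, hz1⟩ := (Subgroup.ne_bot_iff_exists_ne_one).mp h
  intro hbot
  apply hz1
  have hmem : ((z : K) : A) ∈ zc K := by
    refine ⟨z.2, ?_⟩
    change (z : A) ∈ Subgroup.centralizer (K : Set A)
    rw [Subgroup.mem_centralizer_iff]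
    intro y hy
    have := Subgroup.mem_center_iff.mp hz ⟨y, hy⟩
    exact congrArg Subtype.val this
  rw [hbot, Subgroup.mem_bot] at hmem
  exact Subtype.ext (Subtype.ext hmem)


theorem card_map_mk_mul (K Z : Subgroup A) [Finite A] [Z.Normal] (hZK : Z ≤ K) :
    Nat.card (K.map (QuotientGroup.mk' Z)) * Nat.card Z = Nat.card K := by
  have h1 : (K.map (QuotientGroup.mk' Z)).index = K.index := by
    rw [Subgroup.index_map, QuotientGroup.ker_mk', sup_eq_left.mpr hZK,
      MonoidHom.range_eq_top.mpr (QuotientGroup.mk'_surjective Z), Subgroup.index_top, mul_one]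
  have h2 := Subgroup.card_mul_index (K.map (QuotientGroup.mk' Z))
  have h3 := Subgroup.card_mul_index K
  have h4 := Subgroup.card_eq_card_quotient_mul_card_subgroup Z
  have h5 : K.index ≠ 0 := Subgroup.index_ne_zero_of_finite
  rw [h1] at h2
  have : Nat.card (K.map (QuotientGroup.mk' Z)) * Nat.card Z * K.index = Nat.card K * K.index := by
    rw [h3, h4, ← h2]; ring
  exact Nat.eq_of_mul_eq_mul_right (Nat.pos_of_ne_zero h5) this

theorem card_map_mk_of_fpf (K E Z : Subgroup A) [Z.Normal] (hZK : Z ≤ K)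
    (fpf : ∀ e ∈ E, e ≠ 1 → ∀ x ∈ K, e * x * e⁻¹ = x → x = 1) :
    Nat.card (E.map (QuotientGroup.mk' Z)) = Nat.card E := by
  let f : E →* A ⧸ Z := (QuotientGroup.mk' Z).comp E.subtype
  have hf : Function.Injective f := by
    rw [injective_iff_map_eq_one]
    intro e he
    have h1 : (e : A) ∈ Z := by
      have : ((e : A) : A ⧸ Z) = 1 := he
      exact (QuotientGroup.eq_one_iff _).mp this
    by_contra hne
    have hne' : (e : A) ≠ 1 := fun h => hne (Subtype.ext h)
    exact hne' (fpf e e.2 hne' e (hZK h1) (by group))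
  have hr : f.range = E.map (QuotientGroup.mk' Z) := by
    rw [MonoidHom.range_comp, Subgroup.range_subtype]
  rw [← hr]
  exact (Nat.card_congr (MonoidHom.ofInjective hf).toEquiv).symm

end Grp

section Main

open Module

theorem wielandt_aux (n : ℕ) : ∀ {A : Type u} [Group A] [Finite A] (K E : Subgroup A) [K.Normal],
    Nat.card K = n → Group.IsNilpotent K →
    (∀ e ∈ E, e ≠ 1 → ∀ x ∈ K, e * x * e⁻¹ = x → x = 1) →
    ∀ {k : Type v} [Field k] {V : Type w} [AddCommGroup V] [Module k V] [FiniteDimensional k V],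
    (Nat.card K : k) ≠ 0 → ∀ (ρ : Representation k A V),
    (finrank k V + Nat.card E * finrank k ↥(fixS ρ K ⊓ fixS ρ E) =
      finrank k (fixS ρ K) + Nat.card E * finrank k (fixS ρ E)) ∧
    (fixS ρ K = ⊥ → finrank k V ≤ Nat.card E → ∀ x ∈ K, ∀ y ∈ K, ρ x * ρ y = ρ y * ρ x) := by
  induction n using Nat.strong_induction_on with
  | _ n ih =>
  intro A _ _ K E _ hn hKnil fpf k _ V _ _ _ hchar ρ
  by_cases hK1 : K = ⊥
  · have hfix : fixS ρ K = ⊤ := by
      rw [eq_top_iff]
      intro v _
      rw [mem_fixS]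
      intro s hs
      rw [hK1, Subgroup.mem_bot] at hs
      subst hs
      simp
    constructor
    · rw [hfix, top_inf_eq, finrank_top]
    · intro _ _ x hx y hy
      rw [hK1, Subgroup.mem_bot] at hx hy
      subst hx; subst hy; rfl
  · set Z : Subgroup A := zc K with hZdef
    have hZK : Z ≤ K := zc_le K
    have hZ1 : Z ≠ ⊥ := zc_ne_bot K hKnil hK1
    haveI : Z.Normal := zc_normal K
    -- cardinalities
    have hcardK := card_map_mk_mul K Z hZK
    have hcardE := card_map_mk_of_fpf K E Z hZK fpf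
    have hZpos : 1 < Nat.card Z := by
      rw [Subgroup.one_lt_card_iff_ne_bot]; exact hZ1
    have hcharZ : (Nat.card Z : k) ≠ 0 := by
      intro h0; apply hchar; rw [← hcardK, Nat.cast_mul, h0, mul_zero]
    have hcharKbar : (Nat.card (K.map (QuotientGroup.mk' Z)) : k) ≠ 0 := by
      intro h0; apply hchar; rw [← hcardK, Nat.cast_mul, h0, zero_mul]
    have hlt : Nat.card (K.map (QuotientGroup.mk' Z)) < n := by
      rw [← hn, ← hcardK]
      have hpos : 0 < Nat.card (K.map (QuotientGroup.mk' Z)) := Nat.card_pos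
      nlinarith
    -- projection
    obtain ⟨π, hπ, hπc⟩ := exists_proj_of_normal ρ Z hcharZ
    set V1 := fixS ρ Z with hV1
    set V2 := LinearMap.ker π with hV2
    have hV2inv : ∀ g, V2 ≤ V2.comap (ρ g) := by
      intro g v hv
      rw [Submodule.mem_comap, hV2, LinearMap.mem_ker, ← Module.End.mul_apply, ← hπc,
        Module.End.mul_apply, LinearMap.mem_ker.mp hv, map_zero]
    have hdisj : V1 ⊓ V2 = ⊥ := hπ.isCompl.inf_eq_bot
    have hFπ : ∀ S : Subgroup A, ∀ v ∈ fixS ρ S, π v ∈ fixS ρ S := by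
      intro S v hv
      rw [mem_fixS] at hv ⊢
      intro s hs
      rw [← Module.End.mul_apply, hπc, Module.End.mul_apply, hv s hs]
    -- the quotient representation on V1
    let ρ1 : Representation k (A ⧸ Z) V1 := Representation.quotientToInvariants ρ Z
    let Kb := K.map (QuotientGroup.mk' Z)
    let Eb := E.map (QuotientGroup.mk' Z)
    haveI : Kb.Normal := Subgroup.Normal.map inferInstance _ (QuotientGroup.mk'_surjective Z)
    have hKbnil : Group.IsNilpotent Kb := by
      haveI := hKnil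
      exact Group.nilpotent_of_surjective ((QuotientGroup.mk' Z).subgroupMap K)
        (MonoidHom.subgroupMap_surjective _ _)
    have fpfb : ∀ e ∈ Eb, e ≠ 1 → ∀ x ∈ Kb, e * x * e⁻¹ = x → x = 1 := by
      intro eb heb heb1 xb hxb hfix
      obtain ⟨e, he, rfl⟩ := Subgroup.mem_map.mp heb
      obtain ⟨x, hx, rfl⟩ := Subgroup.mem_map.mp hxb
      have he1 : e ≠ 1 := by rintro rfl; exact heb1 (map_one _)
      have hm : x⁻¹ * (e * x * e⁻¹) ∈ Z := by
        rw [← QuotientGroup.eq_one_iff]
        have : ((x⁻¹ * (e * x * e⁻¹) : A) : A ⧸ Z) = (QuotientGroup.mk' Z x)⁻¹ *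
            (QuotientGroup.mk' Z e * QuotientGroup.mk' Z x * (QuotientGroup.mk' Z e)⁻¹) := by
          simp
        rw [this, hfix, inv_mul_cancel]
      have := fpf_mod K E Z hZK fpf e he he1 x hx hm
      exact (QuotientGroup.eq_one_iff x).mpr this
    obtain ⟨ih1, ih2⟩ := ih _ hlt Kb Eb rfl hKbnil fpfb hcharKbar ρ1
    -- the abelian part on V2
    let ρ2 : Representation k A V2 := ρ.subrepresentation V2 hV2inv
    letI : CommGroup Z :=
      { (inferInstance : Group Z) with
        mul_comm := fun a b => Subtype.ext (zc_comm K a b a.2 b.2) }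
    let ρN : Z →* Module.End k V2 := ρ2.comp Z.subtype
    let ρH : E →* Module.End k V2 := ρ2.comp E.subtype
    let act : E →* MulAut Z := (MulAut.conjNormal (H := Z)).comp E.subtype
    have compat : ∀ (h : E) (z : Z), ρH h * ρN z = ρN (act h z) * ρH h := by
      intro h z
      change ρ2 h * ρ2 z = ρ2 ((act h z : Z) : A) * ρ2 h
      rw [← map_mul, ← map_mul]
      congr 1
      simp [act, MulAut.conjNormal_apply]
    have fpfZ : ∀ h : E, h ≠ 1 → ∀ z : Z, act h z = z → z = 1 := by
      intro h hh z hz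
      have h1 : (h : A) * z * (h : A)⁻¹ = z := by
        have := congrArg Subtype.val hz
        simpa [act, MulAut.conjNormal_apply] using this
      have := fpf h h.2 (fun h0 => hh (Subtype.ext h0)) z (hZK z.2) h1
      exact Subtype.ext this
    have hfixZ : ∀ v : V2, (∀ z, ρN z v = v) → v = 0 := by
      intro v hv
      have h1 : (v : V) ∈ V1 := by
        rw [hV1, mem_fixS]
        intro s hs
        exact congrArg Subtype.val (hv ⟨s, hs⟩)
      have h2 : (v : V) ∈ V1 ⊓ V2 := ⟨h1, v.2⟩
      rw [hdisj, Submodule.mem_bot] at h2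
      exact Subtype.ext h2
    have hfixH : fixedSub (fun h => ρH h) = fixS ρ2 E := Submodule.ext (fun v => Iff.rfl)
    have hK_le : fixS ρ K ≤ V1 := fixS_anti ρ hZK
    constructor
    · have hab := finrank_eq_of_abelian ρN ρH act compat fpfZ hcharZ hfixZ
      rw [hfixH, fixS_sub_eq, finrank_comap_subtype] at hab
      have e0 := finrank_inf_add_of_isProj π V1 hπ ⊤ (fun v _ => Submodule.mem_top)
      rw [top_inf_eq, top_inf_eq, finrank_top] at e0
      have eE := finrank_inf_add_of_isProj π V1 hπ (fixS ρ E) (hFπ E)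
      have t1 : finrank k (fixS ρ1 Kb) = finrank k (fixS ρ K) := by
        rw [fixS_quot_eq, finrank_comap_subtype, inf_eq_left.mpr hK_le]
      have t2 : finrank k (fixS ρ1 Eb) = finrank k (fixS ρ E ⊓ V1 : Submodule k V) := by
        rw [fixS_quot_eq, finrank_comap_subtype]
      have t3 : finrank k (fixS ρ1 Kb ⊓ fixS ρ1 Eb : Submodule k V1) =
          finrank k (fixS ρ K ⊓ fixS ρ E : Submodule k V) := by
        rw [fixS_quot_eq, fixS_quot_eq, ← Submodule.comap_inf, finrank_comap_subtype,
          inf_eq_left.mpr (inf_le_left.trans hK_le)]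
      rw [t1, t2, t3, hcardE] at ih1
      rw [e0, eE, hab]
      linarith
    · intro hK0 hdim x hx y hy
      have hdim1 : finrank k V1 ≤ Nat.card Eb := by
        rw [hcardE]; exact (Submodule.finrank_le V1).trans hdim
      have hdim2 : finrank k V2 ≤ Nat.card E := (Submodule.finrank_le V2).trans hdim
      have hKb0 : fixS ρ1 Kb = ⊥ := by
        rw [fixS_quot_eq, hK0, Submodule.comap_bot, Submodule.ker_subtype]
      have c1 := ih2 hKb0 hdim1 (QuotientGroup.mk' Z x) (Subgroup.mem_map_of_mem _ hx)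
        (QuotientGroup.mk' Z y) (Subgroup.mem_map_of_mem _ hy)
      have hX : ∀ (x : A), x ∈ K → ∀ z : Z, ρ2 x * ρN z = ρN z * ρ2 x := by
        intro x hx z
        change ρ2 x * ρ2 z = ρ2 z * ρ2 x
        rw [← map_mul, ← map_mul, zc_commute K z x z.2 hx]
      have c2 := commute_of_finrank_le ρN ρH act compat fpfZ hcharZ hfixZ hdim2 (ρ2 x) (ρ2 y)
        (hX x hx) (hX y hy)
      ext v
      have hv1 : π v ∈ V1 := hπ.map_mem v
      have hv2 : v - π v ∈ V2 := by
        rw [hV2, LinearMap.mem_ker, map_sub, hπ.map_id _ hv1, sub_self]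
      have d1 : ρ x (ρ y (π v)) = ρ y (ρ x (π v)) := by
        exact congrArg (fun f => ((f ⟨π v, hv1⟩ : V1) : V)) c1
      have d2 : ρ x (ρ y (v - π v)) = ρ y (ρ x (v - π v)) := by
        exact congrArg (fun f => ((f ⟨v - π v, hv2⟩ : V2) : V)) c2
      have : v = π v + (v - π v) := by abel
      rw [Module.End.mul_apply, Module.End.mul_apply, this, map_add, map_add, map_add, map_add,
        d1, d2]

/-- **Module form of Wielandt's formula** for a Frobenius-like action with nilpotent kernel. -/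
theorem wielandt_module {A : Type u} [Group A] [Finite A] (K E : Subgroup A) [K.Normal]
    (hKnil : Group.IsNilpotent K)
    (fpf : ∀ e ∈ E, e ≠ 1 → ∀ x ∈ K, e * x * e⁻¹ = x → x = 1)
    {k : Type v} [Field k] {V : Type w} [AddCommGroup V] [Module k V] [FiniteDimensional k V]
    (hchar : (Nat.card K : k) ≠ 0) (ρ : Representation k A V) :
    finrank k V + Nat.card E * finrank k ↥(fixS ρ K ⊓ fixS ρ E) =
      finrank k (fixS ρ K) + Nat.card E * finrank k (fixS ρ E) :=
  (wielandt_aux _ K E rfl hKnil fpf hchar ρ).1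

/-- small modules without `K`-fixed points: `K` acts as a commutative group -/
theorem commute_of_fix_eq_bot {A : Type u} [Group A] [Finite A] (K E : Subgroup A) [K.Normal]
    (hKnil : Group.IsNilpotent K)
    (fpf : ∀ e ∈ E, e ≠ 1 → ∀ x ∈ K, e * x * e⁻¹ = x → x = 1)
    {k : Type v} [Field k] {V : Type w} [AddCommGroup V] [Module k V] [FiniteDimensional k V]
    (hchar : (Nat.card K : k) ≠ 0) (ρ : Representation k A V)
    (h0 : fixS ρ K = ⊥) (hdim : finrank k V ≤ Nat.card E) :
    ∀ x ∈ K, ∀ y ∈ K, ρ x * ρ y = ρ y * ρ x :=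
  (wielandt_aux _ K E rfl hKnil fpf hchar ρ).2 h0 hdim

/-- small modules: `K` acts as a commutative group -/
theorem commute_of_finrank_le_add {A : Type u} [Group A] [Finite A] (K E : Subgroup A) [K.Normal]
    (hKnil : Group.IsNilpotent K)
    (fpf : ∀ e ∈ E, e ≠ 1 → ∀ x ∈ K, e * x * e⁻¹ = x → x = 1)
    {k : Type v} [Field k] {V : Type w} [AddCommGroup V] [Module k V] [FiniteDimensional k V]
    (hchar : (Nat.card K : k) ≠ 0) (ρ : Representation k A V)
    (hdim : finrank k V ≤ finrank k (fixS ρ K) + Nat.card E) :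
    ∀ x ∈ K, ∀ y ∈ K, ρ x * ρ y = ρ y * ρ x := by
  obtain ⟨π, hπ, hπc⟩ := exists_proj_of_normal ρ K hchar
  set W := LinearMap.ker π with hW
  have hWinv : ∀ g, W ≤ W.comap (ρ g) := by
    intro g v hv
    rw [Submodule.mem_comap, hW, LinearMap.mem_ker, ← Module.End.mul_apply, ← hπc,
      Module.End.mul_apply, LinearMap.mem_ker.mp hv, map_zero]
  have hdisj : fixS ρ K ⊓ W = ⊥ := hπ.isCompl.inf_eq_bot
  have e0 := finrank_inf_add_of_isProj π _ hπ ⊤ (fun v _ => Submodule.mem_top)
  rw [top_inf_eq, top_inf_eq, finrank_top] at e0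
  let ρW : Representation k A W := ρ.subrepresentation W hWinv
  have h0 : fixS ρW K = ⊥ := by
    rw [fixS_sub_eq, eq_bot_iff]
    intro v hv
    rw [Submodule.mem_comap] at hv
    have h2 : (v : V) ∈ fixS ρ K ⊓ W := ⟨hv, v.2⟩
    rw [hdisj, Submodule.mem_bot] at h2
    rw [Submodule.mem_bot]
    exact Subtype.ext h2
  have hdimW : finrank k W ≤ Nat.card E := by
    change finrank k (LinearMap.ker π) ≤ Nat.card E
    omega
  intro x hx y hy
  have c2 := commute_of_fix_eq_bot K E hKnil fpf hchar ρW h0 hdimW x hx y hy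
  ext v
  have hv1 : π v ∈ fixS ρ K := hπ.map_mem v
  have hv2 : v - π v ∈ W := by
    rw [hW, LinearMap.mem_ker, map_sub, hπ.map_id _ hv1, sub_self]
  have d1 : ρ x (ρ y (π v)) = ρ y (ρ x (π v)) := by
    rw [mem_fixS] at hv1
    rw [hv1 y hy, hv1 x hx, hv1 y hy]
  have d2 : ρ x (ρ y (v - π v)) = ρ y (ρ x (v - π v)) := by
    exact congrArg (fun f => ((f ⟨v - π v, hv2⟩ : W) : V)) c2
  have : v = π v + (v - π v) := by abel
  rw [Module.End.mul_apply, Module.End.mul_apply, this, map_add, map_add, map_add, map_add,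
    d1, d2]

end Main

end Cfsg.Agent.Helper10.FrobRep
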