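import Mathlib
import Cfsg.Agent.Lib.Helper10.FrobNil
import Cfsg.Agent.Lib.Helper10.ConjRep

/-!
# Frobenius actions on elementary abelian subgroups (group form)
-/

set_option autoImplicit false

namespace Cfsg.Agent.Helper10.FrobRep

open Cfsg Module

open scoped commutatorElement

universe u

variable {X : Type u} [Group X]

theorem centralizer_sup_eq' (A B : Subgroup X) :
    Subgroup.centralizer ((A ⊔ B : Subgroup X) : Set X) =
      Subgroup.centralizer (A : Set X) ⊓ Subgroup.centralizer (B : Set X) := by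
  apply le_antisymm
  · exact le_inf (Subgroup.centralizer_le (SetLike.coe_subset_coe.mpr (le_sup_left : A ≤ A ⊔ B)))
      (Subgroup.centralizer_le (SetLike.coe_subset_coe.mpr (le_sup_right : B ≤ A ⊔ B)))
  · intro x hx
    have h1 : A ≤ Subgroup.centralizer ((Subgroup.zpowers x : Subgroup X) : Set X) := by
      rw [Subgroup.le_centralizer_iff, Subgroup.zpowers_le]
      exact hx.1
    have h2 : B ≤ Subgroup.centralizer ((Subgroup.zpowers x : Subgroup X) : Set X) := by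
      rw [Subgroup.le_centralizer_iff, Subgroup.zpowers_le]
      exact hx.2
    have h3 := sup_le h1 h2
    rw [Subgroup.le_centralizer_iff, Subgroup.zpowers_le] at h3
    exact h3

variable {ℓ : ℕ} [hℓ : Fact ℓ.Prime] {V G : Subgroup X} (hV : IsElementaryAbelian ℓ V)
  (hGV : G ≤ Subgroup.normalizer (V : Set X))

/-- the conjugation representation as a `Representation` -/
noncomputable def conjRepr : Representation (ZMod ℓ) ↥G (ElemAbAdd ℓ V hV) := conjRep hV hGV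

theorem conjRepr_apply (g : G) (v : V) :
    conjRepr hV hGV g (ElemAbAdd.ofV hV v) =
      ElemAbAdd.ofV hV ⟨(g : X) * v * (g : X)⁻¹, (hGV g.2 v).mp v.2⟩ := rfl

theorem mem_centralizer_iff_fixS (S : Subgroup X) (hS : S ≤ G) (v : V) :
    (v : X) ∈ Subgroup.centralizer (S : Set X) ↔
      ElemAbAdd.ofV hV v ∈ fixS (conjRepr hV hGV) (S.subgroupOf G) := by
  rw [mem_fixS, Subgroup.mem_centralizer_iff]
  constructor
  · intro h s hs
    rw [conjRepr_apply]
    congr 1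
    apply Subtype.ext
    change (s : X) * v * (s : X)⁻¹ = v
    rw [h (s : X) hs, mul_inv_cancel_right]
  · intro h s hs
    have h1 := h ⟨s, hS hs⟩ (Subgroup.mem_subgroupOf.mpr hs)
    rw [conjRepr_apply] at h1
    have h2 := congrArg Subtype.val (ElemAbAdd.ofV_injective hV h1)
    change s * v * s⁻¹ = v at h2
    rw [mul_inv_eq_iff_eq_mul] at h2
    exact h2

theorem card_inf_eq_pow [Finite V] (C : Subgroup X)
    (F : Submodule (ZMod ℓ) (ElemAbAdd ℓ V hV))
    (h : ∀ v : V, (v : X) ∈ C ↔ ElemAbAdd.ofV hV v ∈ F) :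
    Nat.card ↥(V ⊓ C) = ℓ ^ finrank (ZMod ℓ) F := by
  have e1 : Nat.card ↥(V ⊓ C) = Nat.card ↥((V ⊓ C).subgroupOf V) :=
    (Nat.card_congr (Subgroup.subgroupOfEquivOfLe (inf_le_left : V ⊓ C ≤ V)).toEquiv).symm
  have e2 : Nat.card ↥((V ⊓ C).subgroupOf V) = Nat.card F := by
    refine Nat.card_congr (Equiv.subtypeEquiv (Additive.ofMul : V ≃ ElemAbAdd ℓ V hV) ?_)
    intro v
    rw [Subgroup.mem_subgroupOf]
    constructor
    · intro hv
      exact (h v).mp hv.2
    · intro hv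
      exact ⟨v.2, (h v).mpr hv⟩
  rw [e1, e2, Module.natCard_eq_pow_finrank (K := ZMod ℓ), Nat.card_zmod]

theorem card_eq_pow [Finite V] : Nat.card V = ℓ ^ finrank (ZMod ℓ) (ElemAbAdd ℓ V hV) := by
  have e2 : Nat.card V = Nat.card (ElemAbAdd ℓ V hV) :=
    Nat.card_congr (Additive.ofMul : V ≃ ElemAbAdd ℓ V hV)
  rw [e2, Module.natCard_eq_pow_finrank (K := ZMod ℓ), Nat.card_zmod]

section GW

variable [Finite X]

omit [Finite X] in
theorem frob_setup (K E : Subgroup X) (hKG : K ≤ G) (hEG : E ≤ G)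
    (hKn : ∀ g ∈ G, ∀ x ∈ K, g * x * g⁻¹ ∈ K) (hKnil : Group.IsNilpotent K)
    (fpf : ∀ e ∈ E, e ≠ 1 → ∀ x ∈ K, e * x * e⁻¹ = x → x = 1) (hcop : ¬ ℓ ∣ Nat.card K) :
    (K.subgroupOf G).Normal ∧ Group.IsNilpotent (K.subgroupOf G) ∧
    (∀ e ∈ E.subgroupOf G, e ≠ 1 → ∀ x ∈ K.subgroupOf G, e * x * e⁻¹ = x → x = 1) ∧
    ((Nat.card (K.subgroupOf G) : ZMod ℓ) ≠ 0) ∧ Nat.card (E.subgroupOf G) = Nat.card E := by
  refine ⟨⟨fun x hx g => ?_⟩, ?_, ?_, ?_, ?_⟩
  · rw [Subgroup.mem_subgroupOf] at hx ⊢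
    exact hKn g g.2 x hx
  · haveI := hKnil
    exact Group.nilpotent_of_mulEquiv (Subgroup.subgroupOfEquivOfLe hKG).symm
  · intro e he he1 x hx hfix
    rw [Subgroup.mem_subgroupOf] at he hx
    have h1 : (e : X) ≠ 1 := fun h => he1 (Subtype.ext h)
    have h2 : (e : X) * x * (e : X)⁻¹ = x := congrArg Subtype.val hfix
    exact Subtype.ext (fpf e he h1 x hx h2)
  · rw [Nat.card_congr (Subgroup.subgroupOfEquivOfLe hKG).toEquiv, Ne,
      ZMod.natCast_eq_zero_iff]
    exact hcop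
  · exact Nat.card_congr (Subgroup.subgroupOfEquivOfLe hEG).toEquiv

include hV hGV

/-- **Wielandt's formula for an elementary abelian group** acted on by a Frobenius-like group
with nilpotent kernel `K` and complement `E`. -/
theorem wielandt_elemAb (K E : Subgroup X) (hKG : K ≤ G) (hEG : E ≤ G)
    (hKn : ∀ g ∈ G, ∀ x ∈ K, g * x * g⁻¹ ∈ K) (hKnil : Group.IsNilpotent K)
    (fpf : ∀ e ∈ E, e ≠ 1 → ∀ x ∈ K, e * x * e⁻¹ = x → x = 1) (hcop : ¬ ℓ ∣ Nat.card K) :
    Nat.card V * Nat.card ↥(V ⊓ Subgroup.centralizer ((K ⊔ E : Subgroup X) : Set X)) ^ Nat.card E =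
      Nat.card ↥(V ⊓ Subgroup.centralizer (K : Set X)) *
        Nat.card ↥(V ⊓ Subgroup.centralizer (E : Set X)) ^ Nat.card E := by
  obtain ⟨hN, hnil, fpf', hchar, hcE⟩ := frob_setup K E hKG hEG hKn hKnil fpf hcop
  haveI := hN
  have key := wielandt_module (K.subgroupOf G) (E.subgroupOf G) hnil fpf' hchar (conjRepr hV hGV)
  rw [hcE] at key
  have c0 := card_eq_pow hV
  have c1 := card_inf_eq_pow hV (Subgroup.centralizer (K : Set X)) _
    (mem_centralizer_iff_fixS hV hGV K hKG)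
  have c2 := card_inf_eq_pow hV (Subgroup.centralizer (E : Set X)) _
    (mem_centralizer_iff_fixS hV hGV E hEG)
  have c3 := card_inf_eq_pow hV (Subgroup.centralizer ((K ⊔ E : Subgroup X) : Set X))
    (fixS (conjRepr hV hGV) (K.subgroupOf G) ⊓ fixS (conjRepr hV hGV) (E.subgroupOf G))
    (fun v => by
      rw [centralizer_sup_eq', Subgroup.mem_inf, Submodule.mem_inf,
        mem_centralizer_iff_fixS hV hGV K hKG, mem_centralizer_iff_fixS hV hGV E hEG])
  rw [c0, c1, c2, c3, ← pow_mul, ← pow_add, ← pow_mul, ← pow_add]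
  congr 1
  linarith [mul_comm (Nat.card E) (finrank (ZMod ℓ) ↥(fixS (conjRepr hV hGV) (K.subgroupOf G) ⊓
    fixS (conjRepr hV hGV) (E.subgroupOf G))),
    mul_comm (Nat.card E) (finrank (ZMod ℓ) ↥(fixS (conjRepr hV hGV) (E.subgroupOf G)))]

/-- If `C_V(E)` has order at most `ℓ` then `K'` centralizes `V`. -/
theorem commutator_le_centralizer_of_card_le (K E : Subgroup X) (hKG : K ≤ G) (hEG : E ≤ G)
    (hKn : ∀ g ∈ G, ∀ x ∈ K, g * x * g⁻¹ ∈ K) (hKnil : Group.IsNilpotent K)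
    (fpf : ∀ e ∈ E, e ≠ 1 → ∀ x ∈ K, e * x * e⁻¹ = x → x = 1) (hcop : ¬ ℓ ∣ Nat.card K)
    (hfix : Nat.card ↥(V ⊓ Subgroup.centralizer (E : Set X)) ≤ ℓ) :
    ⁅K, K⁆ ≤ Subgroup.centralizer (V : Set X) := by
  obtain ⟨hN, hnil, fpf', hchar, hcE⟩ := frob_setup K E hKG hEG hKn hKnil fpf hcop
  haveI := hN
  have key := wielandt_module (K.subgroupOf G) (E.subgroupOf G) hnil fpf' hchar (conjRepr hV hGV)
  have c2 := card_inf_eq_pow hV (Subgroup.centralizer (E : Set X)) _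
    (mem_centralizer_iff_fixS hV hGV E hEG)
  rw [c2] at hfix
  have hd : finrank (ZMod ℓ) (fixS (conjRepr hV hGV) (E.subgroupOf G)) ≤ 1 := by
    have h1 : ℓ ^ finrank (ZMod ℓ) (fixS (conjRepr hV hGV) (E.subgroupOf G)) ≤ ℓ ^ 1 := by
      rw [pow_one]; exact hfix
    exact (Nat.pow_le_pow_iff_right hℓ.out.one_lt).mp h1
  have hdim : finrank (ZMod ℓ) (ElemAbAdd ℓ V hV) ≤
      finrank (ZMod ℓ) (fixS (conjRepr hV hGV) (K.subgroupOf G)) + Nat.card (E.subgroupOf G) := by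
    nlinarith
  have hc := commute_of_finrank_le_add (K.subgroupOf G) (E.subgroupOf G) hnil fpf' hchar
    (conjRepr hV hGV) hdim
  rw [Subgroup.commutator_le]
  intro x hx y hy
  let x' : G := ⟨x, hKG hx⟩
  let y' : G := ⟨y, hKG hy⟩
  have hx' : x' ∈ K.subgroupOf G := Subgroup.mem_subgroupOf.mpr hx
  have hy' : y' ∈ K.subgroupOf G := Subgroup.mem_subgroupOf.mpr hy
  have h1 : conjRepr hV hGV ⁅x', y'⁆ = 1 := by
    rw [commutatorElement_def, map_mul, map_mul, map_mul, hc x' hx' y' hy', ← map_mul,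
      ← map_mul, ← map_mul]
    have : y' * x' * x'⁻¹ * y'⁻¹ = 1 := by group
    rw [this, map_one]
  exact (conjRep_eq_one_iff hV hGV ⁅x', y'⁆).mp h1

end GW

end Cfsg.Agent.Helper10.FrobRep
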