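import Mathlib
import Cfsg.Agent.Lib.Helper10.FrobGroup
import Cfsg.Agent.Lib.Helper52.CoprimeHall
import Cfsg.Agent.Lib.Helper1.Coprime
import Cfsg.Agent.Lib.Helper1.Solv

/-!
# Wielandt's formula for a Frobenius-like group acting coprimely on a solvable group
-/

set_option autoImplicit false

namespace Cfsg.Agent.Helper10.FrobRep

open Cfsg

universe u

section Quot

variable {X : Type*} [Group X]

theorem card_map_mk_mul_inf [Finite X] (S R : Subgroup X) [R.Normal] :
    Nat.card (S.map (QuotientGroup.mk' R)) * Nat.card ↥(S ⊓ R) = Nat.card S := by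
  let f : S →* X ⧸ R := (QuotientGroup.mk' R).comp S.subtype
  have hr : f.range = S.map (QuotientGroup.mk' R) := by
    rw [MonoidHom.range_comp, Subgroup.range_subtype]
  have hk : f.ker = R.subgroupOf S := by
    rw [← MonoidHom.comap_ker, QuotientGroup.ker_mk']
    rfl
  have h1 := Subgroup.card_eq_card_quotient_mul_card_subgroup f.ker
  have h2 : Nat.card (S ⧸ f.ker) = Nat.card f.range :=
    Nat.card_congr (QuotientGroup.quotientKerEquivRange f).toEquiv
  have h3 : Nat.card f.ker = Nat.card ↥(S ⊓ R) := by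
    rw [hk, ← Subgroup.inf_subgroupOf_left]
    exact Nat.card_congr (Subgroup.subgroupOfEquivOfLe inf_le_left).toEquiv
  rw [h1, h2, h3, hr]

/-- coprime action: centralizers in the quotient are images of centralizers -/
theorem map_inf_centralizer_eq [Finite X] (H B R : Subgroup X) [R.Normal] (hRH : R ≤ H)
    (hcop : (Nat.card B).Coprime (Nat.card R)) (hsolv : Group.IsSolvable R) :
    (H.map (QuotientGroup.mk' R)) ⊓ Subgroup.centralizer
        ((B.map (QuotientGroup.mk' R) : Subgroup (X ⧸ R)) : Set (X ⧸ R)) =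
      (H ⊓ Subgroup.centralizer (B : Set X)).map (QuotientGroup.mk' R) := by
  apply le_antisymm
  · intro y hy
    rw [Subgroup.mem_inf] at hy
    obtain ⟨hy1, hy2⟩ := hy
    obtain ⟨h, hh, rfl⟩ := Subgroup.mem_map.mp hy1
    rw [Subgroup.mem_centralizer_iff] at hy2
    have hfix : ∀ a ∈ B, h⁻¹ * a * h * a⁻¹ ∈ R := by
      intro a ha
      have h1 := hy2 (QuotientGroup.mk' R a) (Subgroup.mem_map_of_mem _ ha)
      rw [← QuotientGroup.eq_one_iff]
      have : ((h⁻¹ * a * h * a⁻¹ : X) : X ⧸ R) =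
          (QuotientGroup.mk' R h)⁻¹ * (QuotientGroup.mk' R a * QuotientGroup.mk' R h) *
            (QuotientGroup.mk' R a)⁻¹ := by
        simp [mul_assoc]
      rw [this, h1]
      group
    obtain ⟨c, hc, hcR⟩ := Cfsg.Agent.Helper1.exists_mem_centralizer_of_coset_fixed B R
      (by rw [Subgroup.normalizer_eq_top]; exact le_top) hcop (Or.inr hsolv) h hfix
    refine Subgroup.mem_map.mpr ⟨c, Subgroup.mem_inf.mpr ⟨?_, hc⟩, ?_⟩
    · have : c = h * (h⁻¹ * c) := by group
      rw [this]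
      exact H.mul_mem hh (hRH hcR)
    · symm
      rw [QuotientGroup.mk'_apply, QuotientGroup.mk'_apply, QuotientGroup.eq]
      exact hcR
  · intro y hy
    obtain ⟨h, hhc, rfl⟩ := Subgroup.mem_map.mp hy
    rw [Subgroup.mem_inf] at hhc
    obtain ⟨hh, hc⟩ := hhc
    refine Subgroup.mem_inf.mpr ⟨Subgroup.mem_map_of_mem _ hh, ?_⟩
    rw [Subgroup.mem_centralizer_iff]
    intro b hb
    obtain ⟨a, ha, rfl⟩ := Subgroup.mem_map.mp hb
    rw [Subgroup.mem_centralizer_iff] at hc
    rw [← map_mul, ← map_mul, hc a ha]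

theorem card_inf_centralizer_quot [Finite X] (H B R : Subgroup X) [R.Normal] (hRH : R ≤ H)
    (hcop : (Nat.card B).Coprime (Nat.card R)) (hsolv : Group.IsSolvable R) :
    Nat.card ↥((H.map (QuotientGroup.mk' R)) ⊓ Subgroup.centralizer
        ((B.map (QuotientGroup.mk' R) : Subgroup (X ⧸ R)) : Set (X ⧸ R))) *
      Nat.card ↥(R ⊓ Subgroup.centralizer (B : Set X)) =
      Nat.card ↥(H ⊓ Subgroup.centralizer (B : Set X)) := by
  rw [map_inf_centralizer_eq H B R hRH hcop hsolv]
  have := card_map_mk_mul_inf (H ⊓ Subgroup.centralizer (B : Set X)) R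
  have e : H ⊓ Subgroup.centralizer (B : Set X) ⊓ R = R ⊓ Subgroup.centralizer (B : Set X) := by
    rw [inf_right_comm, inf_eq_right.mpr hRH]
  rw [e] at this
  exact this

end Quot

section Core

theorem wielandt_core_aux (n : ℕ) : ∀ {X : Type u} [Group X] [Finite X] (U E H : Subgroup X)
    [H.Normal], Nat.card H = n → (∀ e ∈ E, ∀ u ∈ U, e * u * e⁻¹ ∈ U) → Group.IsNilpotent U →
    (∀ e ∈ E, e ≠ 1 → ∀ u ∈ U, e * u * e⁻¹ = u → u = 1) → Group.IsSolvable H →
    (Nat.card H).Coprime (Nat.card ↥(U ⊔ E)) →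
    Nat.card ↥(H ⊓ Subgroup.centralizer ((U ⊔ E : Subgroup X) : Set X)) ^ Nat.card E *
        Nat.card H =
      Nat.card ↥(H ⊓ Subgroup.centralizer (E : Set X)) ^ Nat.card E *
        Nat.card ↥(H ⊓ Subgroup.centralizer (U : Set X)) := by
  induction n using Nat.strong_induction_on with
  | _ n ih =>
  intro X _ _ U E H _ hn hUn hUnil fpf hsolv hcop
  by_cases hH1 : H = ⊥
  · subst hH1
    simp
  · obtain ⟨r, hr, R₀, hR₀n, hR₀H, hR₀1, hR₀p⟩ :=
      Cfsg.Agent.Helper52.exists_normal_pgroup_le H hsolv hH1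
    haveI := hR₀n
    haveI : Fact r.Prime := ⟨hr⟩
    have hR₀nil : Group.IsNilpotent R₀ := hR₀p.isNilpotent
    have hD1 : zc R₀ ≠ ⊥ := zc_ne_bot R₀ hR₀nil hR₀1
    have hDab : ⁅zc R₀, zc R₀⁆ = ⊥ := by
      rw [Subgroup.commutator_eq_bot_iff_le_centralizer]
      intro z hz
      rw [Subgroup.mem_centralizer_iff]
      intro w hw
      exact zc_comm R₀ w z hw hz
    obtain ⟨p, hp, A, hAn, hA1, hAD, hAab, hAexp⟩ :=
      Cfsg.Agent.Helper1.exists_normal_elementary_of_abelian (zc R₀) hD1 hDab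
    haveI := hAn
    haveI : Fact p.Prime := ⟨hp⟩
    have hAH : A ≤ H := hAD.trans ((zc_le R₀).trans hR₀H)
    have hAel : IsElementaryAbelian p A :=
      ⟨Cfsg.Agent.Helper1.isMulCommutative_of_commutator_eq_bot A hAab, hAexp⟩
    have hApg : IsPGroup p A := Cfsg.Agent.Helper1.isPGroup_of_forall_pow_eq_one A hAexp
    have hAcard : 1 < Nat.card A := by
      rw [Subgroup.one_lt_card_iff_ne_bot]; exact hA1
    have hpA : p ∣ Nat.card A := by
      obtain ⟨k, hk⟩ := hApg.exists_card_eq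
      rw [hk]
      rcases k with _ | k
      · rw [hk] at hAcard; simp at hAcard
      · exact dvd_pow_self p (Nat.succ_ne_zero k)
    have hAdvd : Nat.card A ∣ Nat.card H := Subgroup.card_dvd_of_le hAH
    have hcopA : ∀ B : Subgroup X, B ≤ U ⊔ E → (Nat.card B).Coprime (Nat.card A) := by
      intro B hB
      exact (hcop.coprime_dvd_left hAdvd).symm.coprime_dvd_left (Subgroup.card_dvd_of_le hB)
    have hcopU : ¬ p ∣ Nat.card U := by
      intro h
      have h1 := hcopA U le_sup_left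
      have := Nat.eq_one_of_dvd_coprimes h1 h hpA
      exact hp.one_lt.ne' this
    have hUE_norm : ∀ g ∈ U ⊔ E, ∀ x ∈ U, g * x * g⁻¹ ∈ U := by
      have h1 : U ⊔ E ≤ Subgroup.normalizer (U : Set X) := by
        apply sup_le Subgroup.le_normalizer
        intro e he
        rw [Subgroup.mem_normalizer_iff]
        intro u
        constructor
        · intro hu
          exact hUn e he u hu
        · intro hu
          have := hUn e⁻¹ (E.inv_mem he) _ hu
          convert this using 1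
          group
      intro g hg x hx
      exact ((Subgroup.mem_normalizer_iff.mp (h1 hg)) x).mp hx
    have hGA : U ⊔ E ≤ Subgroup.normalizer (A : Set X) := by
      rw [Subgroup.normalizer_eq_top]; exact le_top
    have fA := wielandt_elemAb hAel hGA U E le_sup_left le_sup_right hUE_norm hUnil fpf hcopU
    -- the quotient
    have hdisj : H ⊓ (U ⊔ E) = ⊥ := (Subgroup.disjoint_of_coprime_natCard hcop).eq_bot
    have hAsolv : Group.IsSolvable A :=
      Group.isSolvable_of_isSolvable_injective (Subgroup.inclusion_injective hAH)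
    let Ub := U.map (QuotientGroup.mk' A)
    let Eb := E.map (QuotientGroup.mk' A)
    let Hb := H.map (QuotientGroup.mk' A)
    haveI : Hb.Normal := Subgroup.Normal.map inferInstance _ (QuotientGroup.mk'_surjective A)
    have hcH := card_map_mk_mul_inf H A
    rw [inf_eq_right.mpr hAH] at hcH
    have hlt : Nat.card Hb < n := by
      rw [← hn, ← hcH]
      have hpos : 0 < Nat.card Hb := Nat.card_pos
      nlinarith
    have hUnb : ∀ e ∈ Eb, ∀ u ∈ Ub, e * u * e⁻¹ ∈ Ub := by
      intro e he u hu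
      obtain ⟨e0, he0, rfl⟩ := Subgroup.mem_map.mp he
      obtain ⟨u0, hu0, rfl⟩ := Subgroup.mem_map.mp hu
      rw [← map_inv, ← map_mul, ← map_mul]
      exact Subgroup.mem_map_of_mem _ (hUn e0 he0 u0 hu0)
    have hUbnil : Group.IsNilpotent Ub := by
      haveI := hUnil
      exact Group.nilpotent_of_surjective ((QuotientGroup.mk' A).subgroupMap U)
        (MonoidHom.subgroupMap_surjective _ _)
    have fpfb : ∀ e ∈ Eb, e ≠ 1 → ∀ u ∈ Ub, e * u * e⁻¹ = u → u = 1 := by
      intro e he he1 u hu hfix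
      obtain ⟨e0, he0, rfl⟩ := Subgroup.mem_map.mp he
      obtain ⟨u0, hu0, rfl⟩ := Subgroup.mem_map.mp hu
      have he01 : e0 ≠ 1 := by rintro rfl; exact he1 (map_one _)
      have hm : e0 * u0 * e0⁻¹ * u0⁻¹ ∈ A := by
        rw [← QuotientGroup.eq_one_iff]
        have : ((e0 * u0 * e0⁻¹ * u0⁻¹ : X) : X ⧸ A) = (QuotientGroup.mk' A e0 *
            QuotientGroup.mk' A u0 * (QuotientGroup.mk' A e0)⁻¹) * (QuotientGroup.mk' A u0)⁻¹ := by
          simp
        rw [this, hfix, mul_inv_cancel]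
      have hmU : e0 * u0 * e0⁻¹ * u0⁻¹ ∈ U := U.mul_mem (hUn e0 he0 u0 hu0) (U.inv_mem hu0)
      have h1 : e0 * u0 * e0⁻¹ * u0⁻¹ ∈ H ⊓ (U ⊔ E) :=
        ⟨hAH hm, (le_sup_left : U ≤ U ⊔ E) hmU⟩
      rw [hdisj, Subgroup.mem_bot] at h1
      have h2 : e0 * u0 * e0⁻¹ = u0 := mul_inv_eq_one.mp h1
      rw [fpf e0 he0 he01 u0 hu0 h2, map_one]
    have hsolvb : Group.IsSolvable Hb := by
      haveI := hsolv
      exact Group.isSolvable_of_surjective (f := (QuotientGroup.mk' A).subgroupMap H)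
        (MonoidHom.subgroupMap_surjective _ _)
    have hsup : Ub ⊔ Eb = (U ⊔ E).map (QuotientGroup.mk' A) := (Subgroup.map_sup U E _).symm
    have hcopb : (Nat.card Hb).Coprime (Nat.card ↥(Ub ⊔ Eb)) := by
      rw [hsup]
      exact (hcop.coprime_dvd_left (Subgroup.card_map_dvd _ _)).coprime_dvd_right
        (Subgroup.card_map_dvd _ _)
    have key := ih _ hlt Ub Eb Hb rfl hUnb hUbnil fpfb hsolvb hcopb
    -- transfer
    have hcE : Nat.card Eb = Nat.card E := by
      have h1 := card_map_mk_mul_inf E A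
      have h2 : E ⊓ A = ⊥ := by
        rw [eq_bot_iff, ← hdisj]
        exact le_inf (inf_le_right.trans hAH) (inf_le_left.trans le_sup_right)
      rw [h2, Subgroup.card_bot, mul_one] at h1
      exact h1
    have t1 := card_inf_centralizer_quot H (U ⊔ E) A hAH (hcopA _ le_rfl) hAsolv
    have t2 := card_inf_centralizer_quot H E A hAH (hcopA _ le_sup_right) hAsolv
    have t3 := card_inf_centralizer_quot H U A hAH (hcopA _ le_sup_left) hAsolv
    rw [← hsup] at t1
    rw [hcE] at key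
    rw [← t1, ← t2, ← t3, ← hcH, mul_pow, mul_pow]
    calc Nat.card ↥(Hb ⊓ Subgroup.centralizer ((Ub ⊔ Eb : Subgroup (X ⧸ A)) : Set (X ⧸ A))) ^
            Nat.card E *
          Nat.card ↥(A ⊓ Subgroup.centralizer ((U ⊔ E : Subgroup X) : Set X)) ^ Nat.card E *
          (Nat.card Hb * Nat.card A)
        = (Nat.card ↥(Hb ⊓ Subgroup.centralizer ((Ub ⊔ Eb : Subgroup (X ⧸ A)) : Set (X ⧸ A))) ^
            Nat.card E * Nat.card Hb) *
          (Nat.card A *
            Nat.card ↥(A ⊓ Subgroup.centralizer ((U ⊔ E : Subgroup X) : Set X)) ^ Nat.card E) := by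
          ring
      _ = (Nat.card ↥(Hb ⊓ Subgroup.centralizer (Eb : Set (X ⧸ A))) ^ Nat.card E *
            Nat.card ↥(Hb ⊓ Subgroup.centralizer (Ub : Set (X ⧸ A)))) *
          (Nat.card ↥(A ⊓ Subgroup.centralizer (U : Set X)) *
            Nat.card ↥(A ⊓ Subgroup.centralizer (E : Set X)) ^ Nat.card E) := by
          rw [key, fA]
      _ = _ := by ring

/-- **Wielandt's formula**, with `H` normal in the ambient group. -/
theorem wielandt_core {X : Type u} [Group X] [Finite X] (U E H : Subgroup X) [H.Normal]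
    (hUn : ∀ e ∈ E, ∀ u ∈ U, e * u * e⁻¹ ∈ U) (hUnil : Group.IsNilpotent U)
    (fpf : ∀ e ∈ E, e ≠ 1 → ∀ u ∈ U, e * u * e⁻¹ = u → u = 1) (hsolv : Group.IsSolvable H)
    (hcop : (Nat.card H).Coprime (Nat.card ↥(U ⊔ E))) :
    Nat.card ↥(H ⊓ Subgroup.centralizer ((U ⊔ E : Subgroup X) : Set X)) ^ Nat.card E *
        Nat.card H =
      Nat.card ↥(H ⊓ Subgroup.centralizer (E : Set X)) ^ Nat.card E *
        Nat.card ↥(H ⊓ Subgroup.centralizer (U : Set X)) :=
  wielandt_core_aux _ U E H rfl hUn hUnil fpf hsolv hcop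

end Core

end Cfsg.Agent.Helper10.FrobRep
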