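import Mathlib
import Cfsg.Agent.S0033
import Cfsg.Agent.Lib.Helper10.FrobWielandt

/-!
# Frobenius-like actions: nilpotency of the kernel (Thompson) and Wielandt's formula
for subgroups of an arbitrary finite group
-/

set_option autoImplicit false

namespace Cfsg.Agent.Helper10.FrobRep

open Cfsg

variable {X : Type*} [Group X]

theorem le_normalizer_of_conj_mem (U E : Subgroup X) (hUn : ∀ e ∈ E, ∀ u ∈ U, e * u * e⁻¹ ∈ U) :
    E ≤ Subgroup.normalizer (U : Set X) := by
  intro e he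
  rw [Subgroup.mem_normalizer_iff]
  intro u
  constructor
  · intro hu
    exact hUn e he u hu
  · intro hu
    have := hUn e⁻¹ (E.inv_mem he) _ hu
    convert this using 1
    group

/-- Thompson: a group admitting a fixed-point-free action of a nontrivial group is nilpotent. -/
theorem nilpotent_of_fpf [Finite X] (U E : Subgroup X) (hE1 : E ≠ ⊥)
    (hUn : ∀ e ∈ E, ∀ u ∈ U, e * u * e⁻¹ ∈ U)
    (fpf : ∀ e ∈ E, e ≠ 1 → ∀ u ∈ U, e * u * e⁻¹ = u → u = 1) : Group.IsNilpotent U := by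
  by_cases hU1 : U = ⊥
  · subst hU1
    infer_instance
  have hEN := le_normalizer_of_conj_mem U E hUn
  let Φ : E →* MulAut U := U.normalizerMonoidHom.comp (Subgroup.inclusion hEN)
  have hΦ : ∀ (e : E) (u : U), ((Φ e u : U) : X) = (e : X) * u * (e : X)⁻¹ := fun e u => rfl
  have hcard : 1 < Nat.card E := by
    rw [Subgroup.one_lt_card_iff_ne_bot]; exact hE1
  obtain ⟨p, hp, hpd⟩ := Nat.exists_prime_and_dvd (Nat.ne_of_gt hcard)
  haveI : Fact p.Prime := ⟨hp⟩
  obtain ⟨e, he⟩ := exists_prime_orderOf_dvd_card' p hpd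
  have he1 : e ≠ 1 := by
    rintro rfl
    rw [orderOf_one] at he
    exact hp.one_lt.ne he
  have he1' : (e : X) ≠ 1 := fun h => he1 (Subtype.ext h)
  have hfpf : MonoidHom.FixedPointFree ((Φ e : U ≃* U) : U →* U) := by
    intro u hu
    have h1 : (e : X) * u * (e : X)⁻¹ = u := by
      have := congrArg Subtype.val hu
      exact this
    exact Subtype.ext (fpf e e.2 he1' u u.2 h1)
  have hord : orderOf (Φ e) = p := by
    apply orderOf_eq_prime
    · rw [← map_pow, ← he, pow_orderOf_eq_one, map_one]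
    · intro h1
      apply hU1
      rw [eq_bot_iff]
      intro u hu
      have h2 : Φ e ⟨u, hu⟩ = ⟨u, hu⟩ := by rw [h1]; rfl
      have h3 : (e : X) * u * (e : X)⁻¹ = u := congrArg Subtype.val h2
      rw [Subgroup.mem_bot]
      exact fpf e e.2 he1' u hu h3
  exact Cfsg.Agent.S0033.result (Φ e) hfpf p hp hord

theorem card_subgroupOf_inf_centralizer (Γ H B : Subgroup X) (hH : H ≤ Γ) (hB : B ≤ Γ) :
    Nat.card ↥(H.subgroupOf Γ ⊓ Subgroup.centralizer ((B.subgroupOf Γ : Subgroup Γ) : Set Γ)) =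
      Nat.card ↥(H ⊓ Subgroup.centralizer (B : Set X)) := by
  have e1 : H.subgroupOf Γ ⊓ Subgroup.centralizer ((B.subgroupOf Γ : Subgroup Γ) : Set Γ) =
      (H ⊓ Subgroup.centralizer (B : Set X)).subgroupOf Γ := by
    ext x
    rw [Subgroup.mem_inf, Subgroup.mem_subgroupOf, Subgroup.mem_subgroupOf, Subgroup.mem_inf,
      Subgroup.mem_centralizer_iff, Subgroup.mem_centralizer_iff]
    constructor
    · rintro ⟨h1, h2⟩
      refine ⟨h1, fun b hb => ?_⟩
      exact congrArg Subtype.val (h2 ⟨b, hB hb⟩ (Subgroup.mem_subgroupOf.mpr hb))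
    · rintro ⟨h1, h2⟩
      refine ⟨h1, fun b hb => ?_⟩
      exact Subtype.ext (h2 b (Subgroup.mem_subgroupOf.mp hb))
  rw [e1]
  exact Nat.card_congr (Subgroup.subgroupOfEquivOfLe (inf_le_left.trans hH)).toEquiv

/-- **Wielandt's formula** for subgroups `U`, `E`, `H` of a finite group, `E` acting without
fixed points on the nilpotent group `U`, and `UE` acting coprimely on the solvable group `H`. -/
theorem wielandt_formula [Finite X] (U E H : Subgroup X)
    (hUn : ∀ e ∈ E, ∀ u ∈ U, e * u * e⁻¹ ∈ U) (hUnil : Group.IsNilpotent U)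
    (fpf : ∀ e ∈ E, e ≠ 1 → ∀ u ∈ U, e * u * e⁻¹ = u → u = 1)
    (hHn : U ⊔ E ≤ Subgroup.normalizer (H : Set X)) (hsolv : Group.IsSolvable H)
    (hcop : (Nat.card H).Coprime (Nat.card ↥(U ⊔ E))) :
    Nat.card ↥(H ⊓ Subgroup.centralizer ((U ⊔ E : Subgroup X) : Set X)) ^ Nat.card E *
        Nat.card H =
      Nat.card ↥(H ⊓ Subgroup.centralizer (E : Set X)) ^ Nat.card E *
        Nat.card ↥(H ⊓ Subgroup.centralizer (U : Set X)) := by
  set Γ := H ⊔ (U ⊔ E) with hΓ
  have hHΓ : H ≤ Γ := le_sup_left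
  have hUEΓ : U ⊔ E ≤ Γ := le_sup_right
  have hUΓ : U ≤ Γ := le_sup_left.trans hUEΓ
  have hEΓ : E ≤ Γ := le_sup_right.trans hUEΓ
  haveI : (H.subgroupOf Γ).Normal := by
    rw [Subgroup.normal_subgroupOf_iff_le_normalizer hHΓ]
    exact sup_le Subgroup.le_normalizer hHn
  have hUn' : ∀ e ∈ E.subgroupOf Γ, ∀ u ∈ U.subgroupOf Γ, e * u * e⁻¹ ∈ U.subgroupOf Γ := by
    intro e he u hu
    rw [Subgroup.mem_subgroupOf] at he hu ⊢
    exact hUn e he u hu
  have hUnil' : Group.IsNilpotent (U.subgroupOf Γ) := by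
    haveI := hUnil
    exact Group.nilpotent_of_mulEquiv (Subgroup.subgroupOfEquivOfLe hUΓ).symm
  have fpf' : ∀ e ∈ E.subgroupOf Γ, e ≠ 1 → ∀ u ∈ U.subgroupOf Γ, e * u * e⁻¹ = u → u = 1 := by
    intro e he he1 u hu hfix
    rw [Subgroup.mem_subgroupOf] at he hu
    have h1 : (e : X) ≠ 1 := fun h => he1 (Subtype.ext h)
    exact Subtype.ext (fpf e he h1 u hu (congrArg Subtype.val hfix))
  have hsolv' : Group.IsSolvable (H.subgroupOf Γ) := by
    haveI := hsolv
    exact Group.isSolvable_of_isSolvable_injective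
      (f := (Subgroup.subgroupOfEquivOfLe hHΓ).toMonoidHom) (Subgroup.subgroupOfEquivOfLe hHΓ).injective
  have hcH : Nat.card (H.subgroupOf Γ) = Nat.card H :=
    Nat.card_congr (Subgroup.subgroupOfEquivOfLe hHΓ).toEquiv
  have hcE : Nat.card (E.subgroupOf Γ) = Nat.card E :=
    Nat.card_congr (Subgroup.subgroupOfEquivOfLe hEΓ).toEquiv
  have hsup : U.subgroupOf Γ ⊔ E.subgroupOf Γ = (U ⊔ E).subgroupOf Γ :=
    (Subgroup.subgroupOf_sup hUΓ hEΓ).symm
  have hcop' : (Nat.card (H.subgroupOf Γ)).Coprime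
      (Nat.card ↥(U.subgroupOf Γ ⊔ E.subgroupOf Γ)) := by
    rw [hsup, hcH, Nat.card_congr (Subgroup.subgroupOfEquivOfLe hUEΓ).toEquiv]
    exact hcop
  have key := wielandt_core (U.subgroupOf Γ) (E.subgroupOf Γ) (H.subgroupOf Γ) hUn' hUnil' fpf'
    hsolv' hcop'
  rw [hsup, card_subgroupOf_inf_centralizer Γ H (U ⊔ E) hHΓ hUEΓ,
    card_subgroupOf_inf_centralizer Γ H E hHΓ hEΓ,
    card_subgroupOf_inf_centralizer Γ H U hHΓ hUΓ, hcH, hcE] at key
  exact key

end Cfsg.Agent.Helper10.FrobRep
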