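import Mathlib
import Cfsg.Agent.Lib.Helper10.FrobThompson

/-!
# Frobenius-like actions with cyclic fixed points of the complement
-/

set_option autoImplicit false

namespace Cfsg.Agent.Helper10.FrobRep

open Cfsg

open scoped commutatorElement

universe u

section Setup

variable {X : Type*} [Group X] [Finite X]

theorem exists_normal_elemAb_le (H : Subgroup X) [H.Normal] (hsolv : Group.IsSolvable H)
    (hH1 : H ≠ ⊥) :
    ∃ (p : ℕ) (A : Subgroup X), p.Prime ∧ A.Normal ∧ A ≠ ⊥ ∧ A ≤ H ∧ IsElementaryAbelian p A ∧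
      p ∣ Nat.card A := by
  obtain ⟨r, hr, R₀, hR₀n, hR₀H, hR₀1, hR₀p⟩ :=
    Cfsg.Agent.Helper52.exists_normal_pgroup_le H hsolv hH1
  haveI := hR₀n
  haveI : Fact r.Prime := ⟨hr⟩
  have hR₀nil : Group.IsNilpotent R₀ := hR₀p.isNilpotent
  have hD1 : zc R₀ ≠ ⊥ := zc_ne_bot R₀ hR₀nil hR₀1
  have hDab : ⁅zc R₀, zc R₀⁆ = ⊥ := by
    rw [Subgroup.commutator_eq_bot_iff_le_centralizer]
    intro z hz
    rw [Subgroup.mem_centralizer_iff]
    intro w hw
    exact zc_comm R₀ w z hw hz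
  obtain ⟨p, hp, A, hAn, hA1, hAD, hAab, hAexp⟩ :=
    Cfsg.Agent.Helper1.exists_normal_elementary_of_abelian (zc R₀) hD1 hDab
  have hAH : A ≤ H := hAD.trans ((zc_le R₀).trans hR₀H)
  have hAel : IsElementaryAbelian p A :=
    ⟨Cfsg.Agent.Helper1.isMulCommutative_of_commutator_eq_bot A hAab, hAexp⟩
  have hApg : IsPGroup p A := Cfsg.Agent.Helper1.isPGroup_of_forall_pow_eq_one A hAexp
  have hAcard : 1 < Nat.card A := by
    rw [Subgroup.one_lt_card_iff_ne_bot]; exact hA1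
  haveI : Fact p.Prime := ⟨hp⟩
  have hpA : p ∣ Nat.card A := by
    obtain ⟨k, hk⟩ := hApg.exists_card_eq
    rw [hk]
    rcases k with _ | k
    · rw [hk] at hAcard; simp at hAcard
    · exact dvd_pow_self p (Nat.succ_ne_zero k)
  exact ⟨p, A, hp, hAn, hA1, hAH, hAel, hpA⟩

theorem quot_setup (U E H A : Subgroup X) [H.Normal] [A.Normal] (hAH : A ≤ H)
    (hUn : ∀ e ∈ E, ∀ u ∈ U, e * u * e⁻¹ ∈ U) (hUnil : Group.IsNilpotent U)
    (fpf : ∀ e ∈ E, e ≠ 1 → ∀ u ∈ U, e * u * e⁻¹ = u → u = 1) (hsolv : Group.IsSolvable H)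
    (hcop : (Nat.card H).Coprime (Nat.card ↥(U ⊔ E))) :
    (H.map (QuotientGroup.mk' A)).Normal ∧
    (∀ e ∈ E.map (QuotientGroup.mk' A), ∀ u ∈ U.map (QuotientGroup.mk' A),
      e * u * e⁻¹ ∈ U.map (QuotientGroup.mk' A)) ∧
    Group.IsNilpotent (U.map (QuotientGroup.mk' A)) ∧
    (∀ e ∈ E.map (QuotientGroup.mk' A), e ≠ 1 → ∀ u ∈ U.map (QuotientGroup.mk' A),
      e * u * e⁻¹ = u → u = 1) ∧
    Group.IsSolvable (H.map (QuotientGroup.mk' A)) ∧
    (Nat.card (H.map (QuotientGroup.mk' A))).Coprime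
      (Nat.card ↥(U.map (QuotientGroup.mk' A) ⊔ E.map (QuotientGroup.mk' A))) ∧
    Nat.card (E.map (QuotientGroup.mk' A)) = Nat.card E ∧
    Nat.card (H.map (QuotientGroup.mk' A)) * Nat.card A = Nat.card H := by
  have hdisj : H ⊓ (U ⊔ E) = ⊥ := (Subgroup.disjoint_of_coprime_natCard hcop).eq_bot
  refine ⟨Subgroup.Normal.map inferInstance _ (QuotientGroup.mk'_surjective A), ?_, ?_, ?_, ?_,
    ?_, ?_, ?_⟩
  · intro e he u hu
    obtain ⟨e0, he0, rfl⟩ := Subgroup.mem_map.mp he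
    obtain ⟨u0, hu0, rfl⟩ := Subgroup.mem_map.mp hu
    rw [← map_inv, ← map_mul, ← map_mul]
    exact Subgroup.mem_map_of_mem _ (hUn e0 he0 u0 hu0)
  · haveI := hUnil
    exact Group.nilpotent_of_surjective ((QuotientGroup.mk' A).subgroupMap U)
      (MonoidHom.subgroupMap_surjective _ _)
  · intro e he he1 u hu hfix
    obtain ⟨e0, he0, rfl⟩ := Subgroup.mem_map.mp he
    obtain ⟨u0, hu0, rfl⟩ := Subgroup.mem_map.mp hu
    have he01 : e0 ≠ 1 := by rintro rfl; exact he1 (map_one _)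
    have hm : e0 * u0 * e0⁻¹ * u0⁻¹ ∈ A := by
      rw [← QuotientGroup.eq_one_iff]
      have : ((e0 * u0 * e0⁻¹ * u0⁻¹ : X) : X ⧸ A) = (QuotientGroup.mk' A e0 *
          QuotientGroup.mk' A u0 * (QuotientGroup.mk' A e0)⁻¹) * (QuotientGroup.mk' A u0)⁻¹ := by
        simp
      rw [this, hfix, mul_inv_cancel]
    have hmU : e0 * u0 * e0⁻¹ * u0⁻¹ ∈ U := U.mul_mem (hUn e0 he0 u0 hu0) (U.inv_mem hu0)
    have h1 : e0 * u0 * e0⁻¹ * u0⁻¹ ∈ H ⊓ (U ⊔ E) :=
      ⟨hAH hm, (le_sup_left : U ≤ U ⊔ E) hmU⟩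
    rw [hdisj, Subgroup.mem_bot] at h1
    have h2 : e0 * u0 * e0⁻¹ = u0 := mul_inv_eq_one.mp h1
    rw [fpf e0 he0 he01 u0 hu0 h2, map_one]
  · haveI := hsolv
    exact Group.isSolvable_of_surjective (f := (QuotientGroup.mk' A).subgroupMap H)
      (MonoidHom.subgroupMap_surjective _ _)
  · rw [← Subgroup.map_sup]
    exact (hcop.coprime_dvd_left (Subgroup.card_map_dvd _ _)).coprime_dvd_right
      (Subgroup.card_map_dvd _ _)
  · have h1 := card_map_mk_mul_inf E A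
    have h2 : E ⊓ A = ⊥ := by
      rw [eq_bot_iff, ← hdisj]
      exact le_inf (inf_le_right.trans hAH) (inf_le_left.trans le_sup_right)
    rw [h2, Subgroup.card_bot, mul_one] at h1
    exact h1
  · have hcH := card_map_mk_mul_inf H A
    rw [inf_eq_right.mpr hAH] at hcH
    exact hcH

end Setup

section Cyc

theorem card_le_of_cyclic_of_exp {C : Type*} [Group C] [Finite C] [IsCyclic C] (p : ℕ)
    (hp : 0 < p) (h : ∀ x : C, x ^ p = 1) : Nat.card C ≤ p := by
  obtain ⟨g, hg⟩ := IsCyclic.exists_generator (α := C)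
  rw [← orderOf_eq_card_of_forall_mem_zpowers hg]
  exact Nat.le_of_dvd hp (orderOf_dvd_of_pow_eq_one (h g))

theorem comm_le_centralizer_aux (n : ℕ) : ∀ {X : Type u} [Group X] [Finite X]
    (U E H : Subgroup X) [H.Normal], Nat.card H = n → (∀ e ∈ E, ∀ u ∈ U, e * u * e⁻¹ ∈ U) →
    Group.IsNilpotent U → (∀ e ∈ E, e ≠ 1 → ∀ u ∈ U, e * u * e⁻¹ = u → u = 1) →
    Group.IsSolvable H → (Nat.card H).Coprime (Nat.card ↥(U ⊔ E)) →
    IsCyclic ↥(H ⊓ Subgroup.centralizer (E : Set X)) →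
    ⁅U, U⁆ ≤ Subgroup.centralizer (H : Set X) := by
  induction n using Nat.strong_induction_on with
  | _ n ih =>
  intro X _ _ U E H _ hn hUn hUnil fpf hsolv hcop hcyc
  by_cases hH1 : H = ⊥
  · subst hH1
    intro x _
    rw [Subgroup.mem_centralizer_iff]
    intro h hh
    rw [SetLike.mem_coe, Subgroup.mem_bot] at hh
    subst hh
    simp
  · obtain ⟨p, A, hp, hAn, hA1, hAH, hAel, hpA⟩ := exists_normal_elemAb_le H hsolv hH1
    haveI := hAn
    haveI : Fact p.Prime := ⟨hp⟩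
    have hAdvd : Nat.card A ∣ Nat.card H := Subgroup.card_dvd_of_le hAH
    have hcopA : ∀ B : Subgroup X, B ≤ U ⊔ E → (Nat.card B).Coprime (Nat.card A) := by
      intro B hB
      exact (hcop.coprime_dvd_left hAdvd).symm.coprime_dvd_left (Subgroup.card_dvd_of_le hB)
    have hcopU : ¬ p ∣ Nat.card U := by
      intro h
      have h1 := hcopA U le_sup_left
      have := Nat.eq_one_of_dvd_coprimes h1 h hpA
      exact hp.one_lt.ne' this
    have hUE_norm : ∀ g ∈ U ⊔ E, ∀ x ∈ U, g * x * g⁻¹ ∈ U := by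
      have h1 : U ⊔ E ≤ Subgroup.normalizer (U : Set X) :=
        sup_le Subgroup.le_normalizer (le_normalizer_of_conj_mem U E hUn)
      intro g hg x hx
      exact ((Subgroup.mem_normalizer_iff.mp (h1 hg)) x).mp hx
    have hGA : U ⊔ E ≤ Subgroup.normalizer (A : Set X) := by
      rw [Subgroup.normalizer_eq_top]; exact le_top
    -- K' centralizes A
    have hfixA : Nat.card ↥(A ⊓ Subgroup.centralizer (E : Set X)) ≤ p := by
      haveI : IsCyclic ↥(A ⊓ Subgroup.centralizer (E : Set X)) :=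
        isCyclic_of_injective (Subgroup.inclusion (inf_le_inf_right _ hAH))
          (Subgroup.inclusion_injective _)
      apply card_le_of_cyclic_of_exp p hp.pos
      intro x
      apply Subtype.ext
      rw [Subgroup.coe_pow, Subgroup.coe_one]
      exact hAel.2 x x.2.1
    have hLA : ⁅U, U⁆ ≤ Subgroup.centralizer (A : Set X) :=
      commutator_le_centralizer_of_card_le hAel hGA U E le_sup_left le_sup_right hUE_norm hUnil
        fpf hcopU hfixA
    -- the quotient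
    obtain ⟨hHbn, hUnb, hUbnil, fpfb, hsolvb, hcopb, hcE, hcH⟩ :=
      quot_setup U E H A hAH hUn hUnil fpf hsolv hcop
    haveI := hHbn
    have hAsolv : Group.IsSolvable A :=
      Group.isSolvable_of_isSolvable_injective (Subgroup.inclusion_injective hAH)
    have hAcard : 1 < Nat.card A := by
      rw [Subgroup.one_lt_card_iff_ne_bot]; exact hA1
    have hlt : Nat.card (H.map (QuotientGroup.mk' A)) < n := by
      rw [← hn, ← hcH]
      have hpos : 0 < Nat.card (H.map (QuotientGroup.mk' A)) := Nat.card_pos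
      nlinarith
    have hcycb : IsCyclic ↥((H.map (QuotientGroup.mk' A)) ⊓ Subgroup.centralizer
        ((E.map (QuotientGroup.mk' A) : Subgroup (X ⧸ A)) : Set (X ⧸ A))) := by
      rw [map_inf_centralizer_eq H E A hAH (hcopA _ le_sup_right) hAsolv]
      exact isCyclic_of_surjective ((QuotientGroup.mk' A).subgroupMap _)
        (MonoidHom.subgroupMap_surjective _ _)
    have key := ih _ hlt (U.map (QuotientGroup.mk' A)) (E.map (QuotientGroup.mk' A))
      (H.map (QuotientGroup.mk' A)) rfl hUnb hUbnil fpfb hsolvb hcopb hcycb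
    -- [H, K'] ≤ A
    have h1 : ⁅H, ⁅U, U⁆⁆ ≤ A := by
      rw [Subgroup.commutator_le]
      intro h hh c hc
      have hc' : QuotientGroup.mk' A c ∈ Subgroup.centralizer
          ((H.map (QuotientGroup.mk' A) : Subgroup (X ⧸ A)) : Set (X ⧸ A)) := by
        apply key
        rw [← Subgroup.map_commutator]
        exact Subgroup.mem_map_of_mem _ hc
      rw [Subgroup.mem_centralizer_iff] at hc'
      have h2 := hc' (QuotientGroup.mk' A h) (Subgroup.mem_map_of_mem _ hh)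
      have h3 : QuotientGroup.mk' A ⁅h, c⁆ = 1 := by
        rw [map_commutatorElement, commutatorElement_eq_one_iff_mul_comm]
        exact h2
      exact (QuotientGroup.eq_one_iff _).mp h3
    have h2 : ⁅⁅H, ⁅U, U⁆⁆, ⁅U, U⁆⁆ = ⊥ := by
      rw [eq_bot_iff]
      calc ⁅⁅H, ⁅U, U⁆⁆, ⁅U, U⁆⁆ ≤ ⁅A, ⁅U, U⁆⁆ := Subgroup.commutator_mono h1 le_rfl
        _ = ⊥ := by
          rw [Subgroup.commutator_comm, Subgroup.commutator_eq_bot_iff_le_centralizer]
          exact hLA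
    have hLU : ⁅U, U⁆ ≤ U := Subgroup.commutator_le.mpr (fun a ha b hb =>
      U.mul_mem (U.mul_mem (U.mul_mem ha hb) (U.inv_mem ha)) (U.inv_mem hb))
    have hcopL : (Nat.card ↥(⁅U, U⁆)).Coprime (Nat.card H) :=
      (hcop.symm.coprime_dvd_left (Subgroup.card_dvd_of_le (hLU.trans le_sup_left)))
    have h3 := Cfsg.Agent.Helper1.commutator_commutator_eq ⁅U, U⁆ H
      (by rw [Subgroup.normalizer_eq_top]; exact le_top) hcopL (Or.inr hsolv)
    rw [h2] at h3
    rw [← Subgroup.commutator_eq_bot_iff_le_centralizer, Subgroup.commutator_comm]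
    exact h3.symm

theorem subgroupOf_inf_centralizer {X : Type*} [Group X] (Γ H B : Subgroup X) (hB : B ≤ Γ) :
    H.subgroupOf Γ ⊓ Subgroup.centralizer ((B.subgroupOf Γ : Subgroup Γ) : Set Γ) =
      (H ⊓ Subgroup.centralizer (B : Set X)).subgroupOf Γ := by
  ext x
  rw [Subgroup.mem_inf, Subgroup.mem_subgroupOf, Subgroup.mem_subgroupOf, Subgroup.mem_inf,
    Subgroup.mem_centralizer_iff, Subgroup.mem_centralizer_iff]
  constructor
  · rintro ⟨h1, h2⟩
    refine ⟨h1, fun b hb => ?_⟩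
    exact congrArg Subtype.val (h2 ⟨b, hB hb⟩ (Subgroup.mem_subgroupOf.mpr hb))
  · rintro ⟨h1, h2⟩
    refine ⟨h1, fun b hb => ?_⟩
    exact Subtype.ext (h2 b (Subgroup.mem_subgroupOf.mp hb))

/-- If the complement `E` has cyclic fixed points on the solvable group `H` (coprime action of
the Frobenius-like group `UE`), then `U'` centralizes `H`. -/
theorem commutator_le_centralizer_of_cyclic {X : Type*} [Group X] [Finite X] (U E H : Subgroup X)
    (hUn : ∀ e ∈ E, ∀ u ∈ U, e * u * e⁻¹ ∈ U) (hUnil : Group.IsNilpotent U)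
    (fpf : ∀ e ∈ E, e ≠ 1 → ∀ u ∈ U, e * u * e⁻¹ = u → u = 1)
    (hHn : U ⊔ E ≤ Subgroup.normalizer (H : Set X)) (hsolv : Group.IsSolvable H)
    (hcop : (Nat.card H).Coprime (Nat.card ↥(U ⊔ E)))
    (hcyc : IsCyclic ↥(H ⊓ Subgroup.centralizer (E : Set X))) :
    ⁅U, U⁆ ≤ Subgroup.centralizer (H : Set X) := by
  set Γ := H ⊔ (U ⊔ E) with hΓ
  have hHΓ : H ≤ Γ := le_sup_left
  have hUEΓ : U ⊔ E ≤ Γ := le_sup_right
  have hUΓ : U ≤ Γ := le_sup_left.trans hUEΓ
  have hEΓ : E ≤ Γ := le_sup_right.trans hUEΓ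
  haveI : (H.subgroupOf Γ).Normal := by
    rw [Subgroup.normal_subgroupOf_iff_le_normalizer hHΓ]
    exact sup_le Subgroup.le_normalizer hHn
  have hUn' : ∀ e ∈ E.subgroupOf Γ, ∀ u ∈ U.subgroupOf Γ, e * u * e⁻¹ ∈ U.subgroupOf Γ := by
    intro e he u hu
    rw [Subgroup.mem_subgroupOf] at he hu ⊢
    exact hUn e he u hu
  have hUnil' : Group.IsNilpotent (U.subgroupOf Γ) := by
    haveI := hUnil
    exact Group.nilpotent_of_mulEquiv (Subgroup.subgroupOfEquivOfLe hUΓ).symm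
  have fpf' : ∀ e ∈ E.subgroupOf Γ, e ≠ 1 → ∀ u ∈ U.subgroupOf Γ, e * u * e⁻¹ = u → u = 1 := by
    intro e he he1 u hu hfix
    rw [Subgroup.mem_subgroupOf] at he hu
    have h1 : (e : X) ≠ 1 := fun h => he1 (Subtype.ext h)
    exact Subtype.ext (fpf e he h1 u hu (congrArg Subtype.val hfix))
  have hsolv' : Group.IsSolvable (H.subgroupOf Γ) := by
    haveI := hsolv
    exact Group.isSolvable_of_isSolvable_injective
      (f := (Subgroup.subgroupOfEquivOfLe hHΓ).toMonoidHom) (Subgroup.subgroupOfEquivOfLe hHΓ).injective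
  have hcH : Nat.card (H.subgroupOf Γ) = Nat.card H :=
    Nat.card_congr (Subgroup.subgroupOfEquivOfLe hHΓ).toEquiv
  have hsup : U.subgroupOf Γ ⊔ E.subgroupOf Γ = (U ⊔ E).subgroupOf Γ :=
    (Subgroup.subgroupOf_sup hUΓ hEΓ).symm
  have hcop' : (Nat.card (H.subgroupOf Γ)).Coprime
      (Nat.card ↥(U.subgroupOf Γ ⊔ E.subgroupOf Γ)) := by
    rw [hsup, hcH, Nat.card_congr (Subgroup.subgroupOfEquivOfLe hUEΓ).toEquiv]
    exact hcop
  have hcyc' : IsCyclic ↥(H.subgroupOf Γ ⊓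
      Subgroup.centralizer ((E.subgroupOf Γ : Subgroup Γ) : Set Γ)) := by
    rw [subgroupOf_inf_centralizer Γ H E hEΓ]
    exact isCyclic_of_surjective
      (Subgroup.subgroupOfEquivOfLe (inf_le_left.trans hHΓ :
        H ⊓ Subgroup.centralizer (E : Set X) ≤ Γ)).symm
      (Subgroup.subgroupOfEquivOfLe _).symm.surjective
  have key := comm_le_centralizer_aux _ (U.subgroupOf Γ) (E.subgroupOf Γ) (H.subgroupOf Γ) rfl
    hUn' hUnil' fpf' hsolv' hcop' hcyc'
  rw [Subgroup.commutator_le]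
  intro a ha b hb
  have h1 : ⁅(⟨a, hUΓ ha⟩ : Γ), (⟨b, hUΓ hb⟩ : Γ)⁆ ∈ ⁅U.subgroupOf Γ, U.subgroupOf Γ⁆ :=
    Subgroup.commutator_mem_commutator (Subgroup.mem_subgroupOf.mpr ha)
      (Subgroup.mem_subgroupOf.mpr hb)
  have h2 := key h1
  rw [Subgroup.mem_centralizer_iff] at h2 ⊢
  intro h hh
  exact congrArg Subtype.val (h2 ⟨h, hHΓ hh⟩ (Subgroup.mem_subgroupOf.mpr hh))

end Cyc

end Cfsg.Agent.Helper10.FrobRep
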