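import Mathlib
import Cfsg.Agent.Lib.Helper31.G2Defs
import Cfsg.Agent.Lib.Helper7.SGCOP

set_option autoImplicit false

/-!
# S3795 (Gross, `p = 2`), piece (GLUE) for helper31: apply (TOP) to `W = S / Z`
-/

namespace Cfsg.Agent.Helper10.G2

open Module Subgroup Cfsg.Agent.Helper31.SG Cfsg.Agent.Helper31.G2

universe u

/-- `x` centralising no nontrivial element of the `x`-invariant finite `Q` acts fixed-point-freely
on every invariant section (copy of `Helper58.SG.h58_fpfOn_of_fixed`, to keep the imports light). -/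
theorem h10_fpfOn_of_fixed {G : Type*} [Group G] [Finite G] (x : G) (Q : Subgroup G)
    (hxQ : ∀ g ∈ Q, x * g * x⁻¹ = g → g = 1) : FpfOn x Q := by
  have hinj : ∀ g ∈ Q, ∀ h ∈ Q, x * g * x⁻¹ * g⁻¹ = x * h * x⁻¹ * h⁻¹ → g = h := by
    intro g hg h hh e
    have h1 : h⁻¹ * g ∈ Q := Q.mul_mem (Q.inv_mem hh) hg
    have h2 : x * (h⁻¹ * g) * x⁻¹ = h⁻¹ * g := by
      have h3 : (x * h * x⁻¹)⁻¹ * (x * g * x⁻¹) = h⁻¹ * g := by
        calc (x * h * x⁻¹)⁻¹ * (x * g * x⁻¹)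
            = (x * h * x⁻¹)⁻¹ * (x * g * x⁻¹ * g⁻¹) * g := by group
          _ = (x * h * x⁻¹)⁻¹ * (x * h * x⁻¹ * h⁻¹) * g := by rw [e]
          _ = h⁻¹ * g := by group
      calc x * (h⁻¹ * g) * x⁻¹ = (x * h * x⁻¹)⁻¹ * (x * g * x⁻¹) := by group
        _ = h⁻¹ * g := h3
    have h4 := hxQ _ h1 h2
    exact (inv_mul_eq_one.mp h4).symm
  intro Q₂ hQ₂ hinv g hg hc
  let f : ↥Q₂ → ↥Q₂ := fun a =>
    ⟨x * (a : G) * x⁻¹ * (a : G)⁻¹, Q₂.mul_mem (hinv a a.2) (Q₂.inv_mem a.2)⟩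
  have hf : Function.Injective f := by
    intro a b hab
    apply Subtype.ext
    exact hinj a (hQ₂ a.2) b (hQ₂ b.2) (congrArg Subtype.val hab)
  obtain ⟨a, ha⟩ := Finite.surjective_of_injective hf ⟨_, hc⟩
  have hga : g = a := hinj g hg a (hQ₂ a.2) (congrArg Subtype.val ha).symm
  rw [hga]
  exact a.2

section Setup

variable {G : Type u} [Group G] (S Z : Subgroup G)

/-- `Γ`: the elements normalising `S` and `Z`. -/
def gam : Subgroup G := normalizer (S : Set G) ⊓ normalizer (Z : Set G)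

theorem mem_gam {g : G} : g ∈ gam S Z ↔
    (∀ a, a ∈ S ↔ g * a * g⁻¹ ∈ S) ∧ (∀ a, a ∈ Z ↔ g * a * g⁻¹ ∈ Z) := by
  unfold gam
  rw [Subgroup.mem_inf, mem_normalizer_iff, mem_normalizer_iff]

theorem gam_S (γ : gam S Z) (a : G) : a ∈ S ↔ (γ : G) * a * (γ : G)⁻¹ ∈ S :=
  ((mem_gam S Z).1 γ.2).1 a

theorem gam_Z (γ : gam S Z) (a : G) : a ∈ Z ↔ (γ : G) * a * (γ : G)⁻¹ ∈ Z :=
  ((mem_gam S Z).1 γ.2).2 a

theorem gam_S' (γ : gam S Z) (a : G) : a ∈ S ↔ (γ : G)⁻¹ * a * (γ : G) ∈ S := by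
  rw [gam_S S Z γ ((γ : G)⁻¹ * a * (γ : G))]
  have : (γ : G) * ((γ : G)⁻¹ * a * (γ : G)) * (γ : G)⁻¹ = a := by group
  rw [this]

theorem gam_Z' (γ : gam S Z) (a : G) : a ∈ Z ↔ (γ : G)⁻¹ * a * (γ : G) ∈ Z := by
  rw [gam_Z S Z γ ((γ : G)⁻¹ * a * (γ : G))]
  have : (γ : G) * ((γ : G)⁻¹ * a * (γ : G)) * (γ : G)⁻¹ = a := by group
  rw [this]

/-- conjugation by `γ ∈ Γ` on `S`. -/
def conjS (γ : gam S Z) : ↥S ≃* ↥S where
  toFun a := ⟨(γ : G) * a * (γ : G)⁻¹, (gam_S S Z γ a).1 a.2⟩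
  invFun a := ⟨(γ : G)⁻¹ * a * (γ : G), (gam_S' S Z γ a).1 a.2⟩
  left_inv a := by
    apply Subtype.ext
    show (γ : G)⁻¹ * ((γ : G) * a * (γ : G)⁻¹) * (γ : G) = a
    group
  right_inv a := by
    apply Subtype.ext
    show (γ : G) * ((γ : G)⁻¹ * a * (γ : G)) * (γ : G)⁻¹ = a
    group
  map_mul' a b := by
    apply Subtype.ext
    show (γ : G) * ((a : G) * (b : G)) * (γ : G)⁻¹
      = ((γ : G) * a * (γ : G)⁻¹) * ((γ : G) * b * (γ : G)⁻¹)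
    group

@[simp] theorem conjS_coe (γ : gam S Z) (a : ↥S) :
    ((conjS S Z γ a : ↥S) : G) = (γ : G) * a * (γ : G)⁻¹ := rfl

theorem map_conjS (γ : gam S Z) :
    (Z.subgroupOf S).map ((conjS S Z γ : ↥S ≃* ↥S) : ↥S →* ↥S) = Z.subgroupOf S := by
  ext a
  constructor
  · rintro ⟨b, hb, rfl⟩
    rw [mem_subgroupOf]
    have hb' : (b : G) ∈ Z := mem_subgroupOf.1 hb
    exact (gam_Z S Z γ b).1 hb'
  · intro ha
    have ha' : (a : G) ∈ Z := mem_subgroupOf.1 ha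
    refine ⟨(conjS S Z γ).symm a, ?_, ?_⟩
    · rw [SetLike.mem_coe, mem_subgroupOf]
      exact (gam_Z' S Z γ a).1 ha'
    · exact (conjS S Z γ).apply_symm_apply a

variable [hZn : (Z.subgroupOf S).Normal]

/-- the action of `Γ` on `W = S / Z`. -/
noncomputable def phi : ↥(gam S Z) →* MulAut (↥S ⧸ Z.subgroupOf S) where
  toFun γ := QuotientGroup.congr (Z.subgroupOf S) (Z.subgroupOf S) (conjS S Z γ) (map_conjS S Z γ)
  map_one' := by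
    apply MulEquiv.ext
    intro w
    induction w using QuotientGroup.induction_on with
    | H a =>
      rw [QuotientGroup.congr_mk]
      show _ = (QuotientGroup.mk a : ↥S ⧸ Z.subgroupOf S)
      congr 1
      apply Subtype.ext
      show ((1 : gam S Z) : G) * a * ((1 : gam S Z) : G)⁻¹ = a
      simp
  map_mul' γ δ := by
    apply MulEquiv.ext
    intro w
    induction w using QuotientGroup.induction_on with
    | H a =>
      rw [MulAut.mul_apply, QuotientGroup.congr_mk, QuotientGroup.congr_mk, QuotientGroup.congr_mk]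
      congr 1
      apply Subtype.ext
      show ((γ * δ : gam S Z) : G) * a * ((γ * δ : gam S Z) : G)⁻¹
        = (γ : G) * ((δ : G) * a * (δ : G)⁻¹) * (γ : G)⁻¹
      rw [Subgroup.coe_mul]
      group

theorem phi_mk (γ : gam S Z) (a : ↥S) :
    phi S Z γ (QuotientGroup.mk a) = QuotientGroup.mk (conjS S Z γ a) :=
  QuotientGroup.congr_mk _ _ _ (map_conjS S Z γ) a

end Setup

/-- a finite-group fact: one-sided normalisation is two-sided. -/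
theorem h10_conj_iff {G : Type*} [Group G] [Finite G] (H : Subgroup G) (g : G)
    (h : ∀ a ∈ H, g * a * g⁻¹ ∈ H) : ∀ a, a ∈ H ↔ g * a * g⁻¹ ∈ H := by
  have hk : ∀ k : ℕ, ∀ a ∈ H, g ^ k * a * (g ^ k)⁻¹ ∈ H := by
    intro k
    induction k with
    | zero => intro a ha; simpa using ha
    | succ k ih =>
      intro a ha
      have h1 := h _ (ih a ha)
      have h2 : g ^ (k + 1) * a * (g ^ (k + 1))⁻¹ = g * (g ^ k * a * (g ^ k)⁻¹) * g⁻¹ := by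
        rw [pow_succ']
        group
      rw [h2]
      exact h1
  intro a
  refine ⟨h a, fun ha => ?_⟩
  have hm : 0 < orderOf g := orderOf_pos g
  have h1 := hk (orderOf g - 1) _ ha
  have h2 : g ^ (orderOf g - 1) * g = 1 := by
    rw [← pow_succ, Nat.sub_add_cancel hm, pow_orderOf_eq_one]
  have h3 : g ^ (orderOf g - 1) * (g * a * g⁻¹) * (g ^ (orderOf g - 1))⁻¹
      = (g ^ (orderOf g - 1) * g) * a * (g ^ (orderOf g - 1) * g)⁻¹ := by group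
  rw [h3, h2] at h1
  simpa using h1

/-- (GLUE) apply (TOP) to `W := S / Z`. -/
theorem g2_glue (TOP : TopGrp.{u}) {G : Type u} [Group G] [Finite G] {q s : ℕ} (hq : q.Prime)
    (hs : s.Prime) (hq2 : q ≠ 2) (hs2 : s ≠ 2) (hqs : q ≠ s) (S Z Q : Subgroup G) (x : G) (n : ℕ)
    (hn : 1 ≤ n) (hS : IsPGroup s S) (hQ : IsPGroup q Q) (hZS : Z ≤ S)
    (hQS : ∀ g ∈ Q, ∀ a ∈ S, g * a * g⁻¹ ∈ S) (hQZ : ∀ g ∈ Q, ∀ z ∈ Z, g * z * g⁻¹ ∈ Z)
    (hxS : ∀ a ∈ S, x * a * x⁻¹ ∈ S) (hxZ : ∀ z ∈ Z, x * z * x⁻¹ ∈ Z)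
    (hxQ : ∀ g ∈ Q, x * g * x⁻¹ ∈ Q) (hx : x ^ 2 ^ (n + 1) = 1)
    (hcomm : ∀ a ∈ S, ∀ b ∈ S, a * b * a⁻¹ * b⁻¹ ∈ Z) (hpow : ∀ a ∈ S, a ^ s ∈ Z)
    (hfS : ∀ a ∈ S, x * a * x⁻¹ = a → a = 1) (hfQ : ∀ g ∈ Q, x * g * x⁻¹ = g → g = 1)
    (hNC : ∃ g ∈ Q, ∃ a ∈ S, cm (x ^ 2 ^ n) g * a * (cm (x ^ 2 ^ n) g)⁻¹ * a⁻¹ ∉ Z) :
    s ^ 2 ^ n * Nat.card Z ≤
      Nat.card {a : G // a ∈ S ∧ x ^ 2 ^ n * a * (x ^ 2 ^ n)⁻¹ * a ∈ Z} ∧
    ∃ a ∈ S, x ^ 2 ^ n * a * (x ^ 2 ^ n)⁻¹ * a⁻¹ ∈ Z ∧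
      x ^ 2 ^ (n - 1) * a * (x ^ 2 ^ (n - 1))⁻¹ * a⁻¹ ∉ Z := by
  classical
  have hsF : Fact s.Prime := ⟨hs⟩
  -- `Z ⊴ S`
  have hZconj : ∀ a ∈ S, ∀ z ∈ Z, a * z * a⁻¹ ∈ Z := by
    intro a ha z hz
    have h1 := hcomm a ha z (hZS hz)
    have h2 : a * z * a⁻¹ = (a * z * a⁻¹ * z⁻¹) * z := by group
    rw [h2]
    exact Z.mul_mem h1 hz
  have hZconj' : ∀ a ∈ S, ∀ z ∈ Z, a⁻¹ * z * a ∈ Z := by
    intro a ha z hz
    have h1 := hZconj a⁻¹ (S.inv_mem ha) z hz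
    rwa [inv_inv] at h1
  have hZn : (Z.subgroupOf S).Normal := by
    constructor
    intro z hz a
    rw [mem_subgroupOf] at hz ⊢
    exact hZconj a a.2 z hz
  -- swapping the two forms of `b ≡ a mod Z`
  have hswap : ∀ a ∈ S, ∀ b : G, b⁻¹ * a ∈ Z → b * a⁻¹ ∈ Z := by
    intro a ha b hb
    have h1 := hZconj a ha _ (Z.inv_mem hb)
    have h2 : a * (b⁻¹ * a)⁻¹ * a⁻¹ = b * a⁻¹ := by group
    rwa [h2] at h1
  have hswap' : ∀ a ∈ S, ∀ b : G, b * a⁻¹ ∈ Z → b⁻¹ * a ∈ Z := by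
    intro a ha b hb
    have h1 := hZconj' a ha _ (Z.inv_mem hb)
    have h2 : a⁻¹ * (b * a⁻¹)⁻¹ * a = b⁻¹ * a := by group
    rwa [h2] at h1
  -- `Z` has odd order
  have h2Z : ¬ 2 ∣ Nat.card Z := by
    obtain ⟨k, hk⟩ := IsPGroup.iff_card.1 (hS.to_le hZS)
    rw [hk]
    intro hdvd
    have h1 := Nat.Prime.dvd_of_dvd_pow Nat.prime_two hdvd
    exact hs2 ((Nat.prime_dvd_prime_iff_eq Nat.prime_two hs).1 h1).symm
  -- membership in `Γ`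
  have hmemΓ : ∀ g : G, (∀ a ∈ S, g * a * g⁻¹ ∈ S) → (∀ z ∈ Z, g * z * g⁻¹ ∈ Z) →
      g ∈ gam S Z := by
    intro g h1 h2
    rw [mem_gam]
    exact ⟨h10_conj_iff S g h1, h10_conj_iff Z g h2⟩
  have hxΓ : x ∈ gam S Z := hmemΓ x hxS hxZ
  have hQΓ : ∀ g ∈ Q, g ∈ gam S Z := fun g hg => hmemΓ g (hQS g hg) (hQZ g hg)
  -- the data for (TOP)
  have hWcomm : ∀ a b : ↥S ⧸ Z.subgroupOf S, a * b = b * a := by
    intro a b
    induction a using QuotientGroup.induction_on with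
    | H a =>
      induction b using QuotientGroup.induction_on with
      | H b =>
        rw [← QuotientGroup.mk_mul, ← QuotientGroup.mk_mul, QuotientGroup.eq, mem_subgroupOf]
        have h1 := hcomm _ (S.inv_mem b.2) _ (S.inv_mem a.2)
        have h2 : ((((a * b)⁻¹ * (b * a) : ↥S)) : G)
            = (b : G)⁻¹ * (a : G)⁻¹ * ((b : G)⁻¹)⁻¹ * ((a : G)⁻¹)⁻¹ := by
          simp only [Subgroup.coe_mul, Subgroup.coe_inv]
          group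
        rw [h2]
        exact h1
  have hWexp : ∀ w : ↥S ⧸ Z.subgroupOf S, w ^ s = 1 := by
    intro w
    induction w using QuotientGroup.induction_on with
    | H a =>
      rw [← QuotientGroup.mk_pow, QuotientGroup.eq_one_iff, mem_subgroupOf, Subgroup.coe_pow]
      exact hpow a a.2
  have hQ' : IsPGroup q (Q.subgroupOf (gam S Z)) := hQ.comap_subtype
  have hx' : (⟨x, hxΓ⟩ : ↥(gam S Z)) ^ 2 ^ (n + 1) = 1 := by
    apply Subtype.ext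
    rw [Subgroup.coe_pow]
    exact hx
  have hxQ' : ∀ g ∈ Q.subgroupOf (gam S Z),
      (⟨x, hxΓ⟩ : ↥(gam S Z)) * g * (⟨x, hxΓ⟩ : ↥(gam S Z))⁻¹ ∈ Q.subgroupOf (gam S Z) := by
    intro g hg
    rw [mem_subgroupOf] at hg ⊢
    exact hxQ g hg
  have hfixW : ∀ w : ↥S ⧸ Z.subgroupOf S, phi S Z ⟨x, hxΓ⟩ w = w → w = 1 := by
    intro w
    induction w using QuotientGroup.induction_on with
    | H a =>
      intro h
      rw [phi_mk, QuotientGroup.eq, mem_subgroupOf] at h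
      have h1 : ((a : G))⁻¹ * (x * a * x⁻¹) ∈ Z := by
        have h2 := Z.inv_mem h
        have h3 : ((((conjS S Z ⟨x, hxΓ⟩ a)⁻¹ * a : ↥S) : G))⁻¹ = ((a : G))⁻¹ * (x * a * x⁻¹) := by
          simp only [Subgroup.coe_mul, Subgroup.coe_inv, conjS_coe]
          group
        rwa [h3] at h2
      obtain ⟨r, hr, hfix⟩ := Cfsg.Agent.Helper7.SG.sg_coset_fixed (p := 2) (k := n + 1)
        Nat.prime_two Z h2Z x a hx hxZ h1
      have h4 : (a : G) * r = 1 := hfS _ (S.mul_mem a.2 (hZS hr)) hfix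
      rw [QuotientGroup.eq_one_iff, mem_subgroupOf]
      have h5 : (a : G) = r⁻¹ := eq_inv_of_mul_eq_one_left h4
      rw [h5]
      exact Z.inv_mem hr
  have hFpf : FpfOn (⟨x, hxΓ⟩ : ↥(gam S Z)) (Q.subgroupOf (gam S Z)) := by
    apply h10_fpfOn_of_fixed
    intro g hg h
    rw [mem_subgroupOf] at hg
    apply Subtype.ext
    have h1 := congrArg Subtype.val h
    exact hfQ g hg h1
  have hNC' : ∃ g ∈ Q.subgroupOf (gam S Z),
      phi S Z g * phi S Z ((⟨x, hxΓ⟩ : ↥(gam S Z)) ^ 2 ^ n)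
        ≠ phi S Z ((⟨x, hxΓ⟩ : ↥(gam S Z)) ^ 2 ^ n) * phi S Z g := by
    obtain ⟨g, hg, a, ha, hne⟩ := hNC
    refine ⟨⟨g, hQΓ g hg⟩, mem_subgroupOf.2 hg, ?_⟩
    intro hcommute
    apply hne
    set g' : ↥(gam S Z) := ⟨g, hQΓ g hg⟩ with hg'
    set τ' : ↥(gam S Z) := (⟨x, hxΓ⟩ : ↥(gam S Z)) ^ 2 ^ n with hτ'
    have hc1 : phi S Z (g'⁻¹ * (τ' * g' * τ'⁻¹)) = 1 := by
      rw [map_mul, map_mul, map_mul, map_inv, map_inv]
      have h1 : phi S Z τ' * phi S Z g' * (phi S Z τ')⁻¹ = phi S Z g' :=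
        mul_inv_eq_iff_eq_mul.2 hcommute.symm
      rw [h1, inv_mul_cancel]
    have hc2 : ((g'⁻¹ * (τ' * g' * τ'⁻¹) : ↥(gam S Z)) : G) = cm (x ^ 2 ^ n) g := by
      simp only [Subgroup.coe_mul, Subgroup.coe_inv, hτ', Subgroup.coe_pow, hg', cm]
    have h2 : phi S Z (g'⁻¹ * (τ' * g' * τ'⁻¹)) (QuotientGroup.mk ⟨a, ha⟩)
        = QuotientGroup.mk ⟨a, ha⟩ := by
      rw [hc1]
      rfl
    rw [phi_mk, QuotientGroup.eq, mem_subgroupOf] at h2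
    have h3 : ((((conjS S Z (g'⁻¹ * (τ' * g' * τ'⁻¹)) ⟨a, ha⟩)⁻¹ * ⟨a, ha⟩ : ↥S)) : G)
        = (cm (x ^ 2 ^ n) g * a * (cm (x ^ 2 ^ n) g)⁻¹)⁻¹ * a := by
      simp only [Subgroup.coe_mul, Subgroup.coe_inv, conjS_coe, hc2]
    rw [h3] at h2
    exact hswap a ha _ h2
  have key := TOP (↥S ⧸ Z.subgroupOf S) hWcomm q s hq hs hq2 hs2 hqs hWexp ↥(gam S Z) (phi S Z)
    (Q.subgroupOf (gam S Z)) hQ' ⟨x, hxΓ⟩ n hn hx' hxQ' hfixW hFpf hNC'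
  obtain ⟨hA1, w, hw1, hw2⟩ := key
  -- coercions of the powers of `x'`
  have hcoe : ∀ k : ℕ, (((⟨x, hxΓ⟩ : ↥(gam S Z)) ^ k : ↥(gam S Z)) : G) = x ^ k := by
    intro k
    rw [Subgroup.coe_pow]
  refine ⟨?_, ?_⟩
  · -- (A1)
    have hIW : ∀ a : ↥S, phi S Z ((⟨x, hxΓ⟩ : ↥(gam S Z)) ^ 2 ^ n) (QuotientGroup.mk a)
        = (QuotientGroup.mk a)⁻¹ → x ^ 2 ^ n * a * (x ^ 2 ^ n)⁻¹ * a ∈ Z := by
      intro a h
      rw [phi_mk, ← QuotientGroup.mk_inv, QuotientGroup.eq, mem_subgroupOf] at h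
      have h1 : ((((conjS S Z ((⟨x, hxΓ⟩ : ↥(gam S Z)) ^ 2 ^ n) a)⁻¹ * a⁻¹ : ↥S)) : G)
          = (x ^ 2 ^ n * a * (x ^ 2 ^ n)⁻¹)⁻¹ * (a : G)⁻¹ := by
        simp only [Subgroup.coe_mul, Subgroup.coe_inv, conjS_coe, hcoe]
      rw [h1] at h
      have h2 := hZconj' a a.2 _ (Z.inv_mem h)
      have h3 : (a : G)⁻¹ * ((x ^ 2 ^ n * a * (x ^ 2 ^ n)⁻¹)⁻¹ * (a : G)⁻¹)⁻¹ * a
          = x ^ 2 ^ n * a * (x ^ 2 ^ n)⁻¹ * a := by group
      rwa [h3] at h2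
    let T := {w : ↥S ⧸ Z.subgroupOf S //
      phi S Z ((⟨x, hxΓ⟩ : ↥(gam S Z)) ^ 2 ^ n) w = w⁻¹}
    let aS : T × ↥Z → ↥S := fun p => (p.1.1).out * ⟨p.2, hZS p.2.2⟩
    have haS : ∀ p : T × ↥Z, (QuotientGroup.mk (aS p) : ↥S ⧸ Z.subgroupOf S) = p.1.1 := by
      intro p
      show (QuotientGroup.mk ((p.1.1).out * ⟨p.2, hZS p.2.2⟩) : ↥S ⧸ Z.subgroupOf S) = p.1.1
      rw [QuotientGroup.mk_mul, QuotientGroup.out_eq']
      have h1 : (QuotientGroup.mk (⟨p.2, hZS p.2.2⟩ : ↥S) : ↥S ⧸ Z.subgroupOf S) = 1 := by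
        rw [QuotientGroup.eq_one_iff, mem_subgroupOf]
        exact p.2.2
      rw [h1, mul_one]
    let f : T × ↥Z → {a : G // a ∈ S ∧ x ^ 2 ^ n * a * (x ^ 2 ^ n)⁻¹ * a ∈ Z} := fun p =>
      ⟨(aS p : G), (aS p).2, hIW (aS p) (by rw [haS p]; exact p.1.2)⟩
    have hf : Function.Injective f := by
      intro p p' h
      have h1 : (f p).1 = (f p').1 := congrArg Subtype.val h
      have h2 : aS p = aS p' := Subtype.ext h1
      have h3 : p.1.1 = p'.1.1 := by rw [← haS p, ← haS p', h2]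
      have h4 : p.1 = p'.1 := Subtype.ext h3
      have h5 : (⟨p.2, hZS p.2.2⟩ : ↥S) = ⟨p'.2, hZS p'.2.2⟩ := by
        have h6 : (p.1.1).out * (⟨p.2, hZS p.2.2⟩ : ↥S) = (p'.1.1).out * ⟨p'.2, hZS p'.2.2⟩ := h2
        rw [h3] at h6
        exact mul_left_cancel h6
      have h8 : ((⟨p.2, hZS p.2.2⟩ : ↥S) : G) = ((⟨p'.2, hZS p'.2.2⟩ : ↥S) : G) :=
        congrArg Subtype.val h5
      have h7 : p.2 = p'.2 := Subtype.ext h8
      exact Prod.ext h4 h7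
    calc s ^ 2 ^ n * Nat.card Z ≤ Nat.card T * Nat.card Z := Nat.mul_le_mul_right _ hA1
      _ = Nat.card (T × ↥Z) := (Nat.card_prod _ _).symm
      _ ≤ _ := Nat.card_le_card_of_injective f hf
  · -- (A2)
    obtain ⟨a, rfl⟩ := QuotientGroup.mk_surjective w
    refine ⟨a, a.2, ?_, ?_⟩
    · rw [phi_mk, QuotientGroup.eq, mem_subgroupOf] at hw1
      have h1 : ((((conjS S Z ((⟨x, hxΓ⟩ : ↥(gam S Z)) ^ 2 ^ n) a)⁻¹ * a : ↥S)) : G)
          = (x ^ 2 ^ n * a * (x ^ 2 ^ n)⁻¹)⁻¹ * (a : G) := by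
        simp only [Subgroup.coe_mul, Subgroup.coe_inv, conjS_coe, hcoe]
      rw [h1] at hw1
      exact hswap a a.2 _ hw1
    · intro hmem
      apply hw2
      rw [phi_mk, QuotientGroup.eq, mem_subgroupOf]
      have h1 : ((((conjS S Z ((⟨x, hxΓ⟩ : ↥(gam S Z)) ^ 2 ^ (n - 1)) a)⁻¹ * a : ↥S)) : G)
          = (x ^ 2 ^ (n - 1) * a * (x ^ 2 ^ (n - 1))⁻¹)⁻¹ * (a : G) := by
        simp only [Subgroup.coe_mul, Subgroup.coe_inv, conjS_coe, hcoe]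
      rw [h1]
      exact hswap' a a.2 _ hmem

end Cfsg.Agent.Helper10.G2
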