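import Mathlib
import Cfsg.Agent.Lib.Helper14.GLIDefs

/-!
# GLI (LINES) core (helper14's lemma server for S5958)

`lines_core` : the (LINES) statement, with the conclusions of (GFIX) at `W = ⊤`, of (GST) on the moved
part and the statement of (MONO) as hypotheses.
-/

set_option autoImplicit false

namespace Cfsg.Agent.Helper10.GLI

open Module Polynomial Cfsg.Agent.Helper14.GLI

/-- the dimension of a finite supremum of an independent family is the sum of the dimensions -/
theorem h10_finrank_biSup {F V : Type*} [Field F] [AddCommGroup V] [Module F V]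
    [FiniteDimensional F V] {K : Type*} (W : K → Submodule F V) (hind : iSupIndep W)
    (s : Finset K) : finrank F ↥(⨆ k ∈ s, W k) = ∑ k ∈ s, finrank F (W k) := by
  classical
  induction s using Finset.induction_on with
  | empty => simp
  | insert k s₀ hk ih =>
    rw [Finset.iSup_insert, Finset.sum_insert hk, ← ih]
    have hdisj : Disjoint (W k) (⨆ i ∈ s₀, W i) := by
      have h := hind.disjoint_biSup (x := k) (y := (↑s₀ : Set K)) (by simpa using hk)
      simpa using h
    have h := Submodule.finrank_sup_add_finrank_inf_eq (W k) (⨆ i ∈ s₀, W i)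
    rw [disjoint_iff.mp hdisj, finrank_bot, add_zero] at h
    exact h

/-- powers of `x` preserve an invariant subspace -/
theorem h10_pow_mem {F V : Type*} [Field F] [AddCommGroup V] [Module F V]
    (x : V →ₗ[F] V) (Z : Submodule F V) (hZ : Z.map x ≤ Z) (j : ℕ) (v : V) (hv : v ∈ Z) :
    (x ^ j) v ∈ Z := by
  induction j with
  | zero => simpa using hv
  | succ j ih =>
    rw [pow_succ', Module.End.mul_apply]
    exact hZ (Submodule.mem_map_of_mem ih)

/-- powers of `x` fix a fixed vector -/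
theorem h10_pow_fix {F V : Type*} [Field F] [AddCommGroup V] [Module F V]
    (x : V →ₗ[F] V) (j : ℕ) (v : V) (hv : x v = v) : (x ^ j) v = v := by
  induction j with
  | zero => simp
  | succ j ih => rw [pow_succ, Module.End.mul_apply, hv, ih]

/-- an irreducible invariant subspace is spanned by the orbit of any nonzero vector -/
theorem h10_span_orbit {F V : Type*} [Field F] [AddCommGroup V] [Module F V]
    (x : V →ₗ[F] V) (r : ℕ) (hrpos : 0 < r) (hxr : x ^ r = 1) (Z : Submodule F V) (hZ : Z.map x ≤ Z)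
    (hirr : ∀ Y : Submodule F V, Y ≤ Z → Y.map x ≤ Y → Y = ⊥ ∨ Y = Z)
    (b : V) (hb : b ∈ Z) (hb0 : b ≠ 0) :
    Submodule.span F (Set.range (fun j : Fin r => (x ^ (j : ℕ)) b)) = Z := by
  set S := Submodule.span F (Set.range (fun j : Fin r => (x ^ (j : ℕ)) b)) with hS
  have hSZ : S ≤ Z := by
    rw [hS, Submodule.span_le]
    rintro _ ⟨j, rfl⟩
    exact h10_pow_mem x Z hZ j b hb
  have hSx : S.map x ≤ S := by
    rw [hS, Submodule.map_span, Submodule.span_le]
    rintro _ ⟨_, ⟨j, rfl⟩, rfl⟩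
    have : x ((x ^ (j : ℕ)) b) = (x ^ (((j : ℕ) + 1) % r)) b := by
      rw [← Module.End.mul_apply, ← pow_succ', pow_eq_pow_mod ((j : ℕ) + 1) hxr]
    rw [this]
    exact Submodule.subset_span ⟨⟨((j : ℕ) + 1) % r, Nat.mod_lt _ hrpos⟩, rfl⟩
  rcases hirr S hSZ hSx with h | h
  · exfalso
    apply hb0
    have : b ∈ S := by
      rw [hS]
      refine Submodule.subset_span ⟨⟨0, hrpos⟩, ?_⟩
      simp
    rw [h] at this
    simpa using this
  · exact h

/-- (LINES) core. -/
theorem lines_core {F V : Type*} [Field F] [AddCommGroup V] [Module F V]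
    [FiniteDimensional F V] (x : V →ₗ[F] V) (r : ℕ) [Fact r.Prime]
    (hr0 : (r : F) ≠ 0) (hxr : x ^ r = 1) (c : ℕ) (hc1 : 1 < c) (hcr : c = r - 1)
    (t : ℕ) (ht : finrank F V = t) (hnk : t ≤ (t % c) * r)
    (h1 : ((⊤ : Submodule F V) ⊓ LinearMap.ker (x - 1)) ⊓ (⊤ : Submodule F V).map (x - 1) = ⊥)
    (h2 : ((⊤ : Submodule F V) ⊓ LinearMap.ker (x - 1)) ⊔ (⊤ : Submodule F V).map (x - 1) = ⊤)
    (m : ℕ) (W : Fin m → Submodule F V)
    (hW : IsIndepFam ((⊤ : Submodule F V).map (x - 1)) W)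
    (hWx : ∀ k, (W k).map x ≤ W k) (hWc : ∀ k, finrank F (W k) = c)
    (hWirr : ∀ k, ∀ Z : Submodule F V, Z ≤ W k → Z.map x ≤ Z → Z = ⊥ ∨ Z = W k)
    (hmono : ∀ {ι : Type} [Fintype ι] (b : Basis ι F V) (π : Equiv.Perm ι) (lam : ι → F),
      (∀ i, lam i ≠ 0) → (∀ i, x (b i) = lam i • b (π i)) →
      ∀ {t : ℕ} (a : ℕ) (β : ι → Fin t),
      (∀ j, (Finset.univ.filter (fun i => β i = j)).card = a) →
      ∀ (τ : Equiv.Perm (Fin t)), (∀ i, β (π i) = τ (β i)) →
      ∃ D : Fin t → Submodule F V, IsIndepFam ⊤ D ∧ (∀ j, finrank F (D j) = a) ∧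
        ∀ j, (D j).map x = D (τ j)) :
    ∃ D : Fin t → Submodule F V, IsIndepFam ⊤ D ∧ (∀ j, finrank F (D j) = 1) ∧
      ∃ σ : Equiv.Perm (Fin t), ∀ j, (D j).map x = D (σ j) := by
  classical
  have hrprime : r.Prime := Fact.out
  have hrpos : 0 < r := hrprime.pos
  have hr : r = c + 1 := by omega
  have : NeZero r := ⟨hrprime.ne_zero⟩
  rw [top_inf_eq] at h1 h2
  set U : Submodule F V := LinearMap.ker (x - 1) with hU
  set R : Submodule F V := (⊤ : Submodule F V).map (x - 1) with hR
  -- the norm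
  set N : V →ₗ[F] V := ∑ j ∈ Finset.range r, x ^ j with hN
  have hNR : ∀ w ∈ R, N w = 0 := by
    rintro _ ⟨w', _, rfl⟩
    have : N * (x - 1) = 0 := by
      rw [hN, geom_sum_mul, hxr, sub_self]
    rw [← Module.End.mul_apply, this]
    simp
  have hUfix : ∀ v ∈ U, x v = v := by
    intro v hv
    rw [hU, LinearMap.mem_ker, LinearMap.sub_apply, Module.End.one_apply, sub_eq_zero] at hv
    exact hv
  have hNU : ∀ v ∈ U, N v = (r : F) • v := by
    intro v hv
    rw [hN, LinearMap.sum_apply]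
    rw [Finset.sum_congr rfl (fun j _ => h10_pow_fix x j v (hUfix v hv))]
    rw [Finset.sum_const, Finset.card_range, Nat.cast_smul_eq_nsmul]
  -- dimensions
  set u := finrank F U with hu
  have hdimR : finrank F R = m * c := by
    have e1 : (⨆ k ∈ (Finset.univ : Finset (Fin m)), W k) = R := by
      rw [← hW.sup]; simp
    have := h10_finrank_biSup W hW.indep Finset.univ
    rw [e1] at this
    rw [this, Finset.sum_congr rfl (fun k _ => hWc k)]
    simp
  have hdim : t = m * c + u := by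
    have := Submodule.finrank_sup_add_finrank_inf_eq U R
    rw [h1, h2, finrank_bot, finrank_top, add_zero, ht, hdimR] at this
    omega
  have hmu : m ≤ u := by
    have h3 : t % c = u % c := by
      rw [hdim, Nat.mul_add_mod']
    have h4 : u % c ≤ u := Nat.mod_le _ _
    have h5 : t ≤ u * r := le_trans hnk (Nat.mul_le_mul_right r (h3 ▸ h4))
    rw [hdim, hr] at h5
    have h6 : m * c ≤ u * c := by
      have : u * (c + 1) = u * c + u := by ring
      omega
    exact Nat.le_of_mul_le_mul_right h6 (by omega)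
  -- basis of U
  let bU : Basis (Fin u) F U := finBasis F U
  -- nonzero vectors of the blocks
  have hWne : ∀ k, ∃ b ∈ W k, b ≠ 0 := by
    intro k
    apply Submodule.exists_mem_ne_zero_of_ne_bot
    intro h
    have := hWc k
    rw [h, finrank_bot] at this
    omega
  choose b hbW hb0 using hWne
  -- the family
  let uu : Fin m → V := fun k => (bU (Fin.castLE hmu k) : V)
  have huuU : ∀ k, uu k ∈ U := fun k => (bU (Fin.castLE hmu k)).2
  let f : (Fin m × Fin r) ⊕ Fin (u - m) → V := fun i =>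
    match i with
    | Sum.inl (k, j) => (x ^ (j : ℕ)) (b k + uu k)
    | Sum.inr l => (bU ⟨m + (l : ℕ), by omega⟩ : V)
  set T := Submodule.span F (Set.range f) with hT
  have hgen1 : ∀ k (j : Fin r), (x ^ (j : ℕ)) (b k + uu k) ∈ T := fun k j =>
    Submodule.subset_span ⟨Sum.inl (k, j), rfl⟩
  have hgen2 : ∀ l : Fin (u - m), (bU ⟨m + (l : ℕ), by omega⟩ : V) ∈ T := fun l =>
    Submodule.subset_span ⟨Sum.inr l, rfl⟩
  have hbR : ∀ k, b k ∈ R := by
    intro k
    rw [← hW.sup]
    exact (le_iSup W k) (hbW k)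
  have huuT : ∀ k, uu k ∈ T := by
    intro k
    have h3 : N (b k + uu k) ∈ T := by
      rw [hN, LinearMap.sum_apply, Finset.sum_range]
      exact Submodule.sum_mem _ (fun j _ => hgen1 k j)
    rw [map_add, hNR _ (hbR k), zero_add, hNU _ (huuU k)] at h3
    have := Submodule.smul_mem T ((r : F)⁻¹) h3
    rwa [smul_smul, inv_mul_cancel₀ hr0, one_smul] at this
  have hpowb : ∀ k (j : Fin r), (x ^ (j : ℕ)) (b k) ∈ T := by
    intro k j
    have h3 := hgen1 k j
    rw [map_add, h10_pow_fix x j (uu k) (hUfix _ (huuU k))] at h3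
    have := Submodule.sub_mem T h3 (huuT k)
    rwa [add_sub_cancel_right] at this
  have hWT : ∀ k, W k ≤ T := by
    intro k
    rw [← h10_span_orbit x r hrpos hxr (W k) (hWx k) (hWirr k) (b k) (hbW k) (hb0 k),
      Submodule.span_le]
    rintro _ ⟨j, rfl⟩
    exact hpowb k j
  have hRT : R ≤ T := by
    rw [← hW.sup]
    exact iSup_le hWT
  have hbUT : ∀ l : Fin u, (bU l : V) ∈ T := by
    intro l
    by_cases hl : (l : ℕ) < m
    · have : l = Fin.castLE hmu ⟨l, hl⟩ := by
        ext; simp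
      rw [this]
      exact huuT ⟨l, hl⟩
    · have h3 : (l : ℕ) - m < u - m := by have := l.2; omega
      have := hgen2 ⟨(l : ℕ) - m, h3⟩
      have h4 : (⟨m + ((⟨(l : ℕ) - m, h3⟩ : Fin (u - m)) : ℕ), by have := l.2; simp only []; omega⟩ : Fin u) = l := by
        ext; simp only []; omega
      rw [h4] at this
      exact this
  have hUT : U ≤ T := by
    intro v hv
    have h3 : (⟨v, hv⟩ : U) ∈ Submodule.span F (Set.range bU) := by
      rw [bU.span_eq]; trivial
    have h4 : v ∈ (Submodule.span F (Set.range bU)).map U.subtype :=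
      ⟨⟨v, hv⟩, h3, rfl⟩
    rw [Submodule.map_span] at h4
    refine (Submodule.span_le.2 ?_) h4
    rintro _ ⟨_, ⟨l, rfl⟩, rfl⟩
    exact hbUT l
  have htop : ⊤ ≤ T := by
    rw [← h2]
    exact sup_le hUT hRT
  have hcard : Fintype.card ((Fin m × Fin r) ⊕ Fin (u - m)) = finrank F V := by
    rw [Fintype.card_sum, Fintype.card_prod, Fintype.card_fin, Fintype.card_fin, Fintype.card_fin, ht,
      hdim, hr]
    have : m * (c + 1) = m * c + m := by ring
    omega
  let bas : Basis ((Fin m × Fin r) ⊕ Fin (u - m)) F V := basisOfTopLeSpanOfCardEqFinrank f htop hcard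
  have hbas : ∀ i, bas i = f i := by
    intro i
    simp only [bas, coe_basisOfTopLeSpanOfCardEqFinrank]
  -- the permutation
  let π : Equiv.Perm ((Fin m × Fin r) ⊕ Fin (u - m)) :=
    Equiv.sumCongr (Equiv.prodCongr (Equiv.refl (Fin m)) (Equiv.addRight (1 : Fin r))) (Equiv.refl _)
  have hxbas : ∀ i, x (bas i) = (1 : F) • bas (π i) := by
    intro i
    rw [one_smul, hbas, hbas]
    rcases i with ⟨k, j⟩ | l
    · show x ((x ^ (j : ℕ)) (b k + uu k)) = (x ^ ((j + 1 : Fin r) : ℕ)) (b k + uu k)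
      rw [← Module.End.mul_apply, ← pow_succ', Fin.val_add, Fin.val_one', Nat.add_mod_mod,
        ← pow_eq_pow_mod ((j : ℕ) + 1) hxr]
    · show x (bU ⟨m + (l : ℕ), _⟩ : V) = (bU ⟨m + (l : ℕ), _⟩ : V)
      exact hUfix _ (bU _).2
  have hcard' : Fintype.card ((Fin m × Fin r) ⊕ Fin (u - m)) = t := hcard.trans ht
  let e : ((Fin m × Fin r) ⊕ Fin (u - m)) ≃ Fin t := Fintype.equivFinOfCardEq hcard'
  obtain ⟨D, hD1, hD2, hD3⟩ := hmono bas π (fun _ => 1) (fun _ => one_ne_zero) hxbas 1 (fun i => e i)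
    (by
      intro j
      rw [Finset.card_eq_one]
      refine ⟨e.symm j, ?_⟩
      ext i
      simp [Equiv.eq_symm_apply])
    (e.symm.trans (π.trans e))
    (by intro i; simp)
  exact ⟨D, hD1, hD2, _, hD3⟩

end Cfsg.Agent.Helper10.GLI
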