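import Mathlib
import Cfsg.Agent.Lib.Helper14.GLIDefs
import Cfsg.Agent.Lib.Helper10.GLILINESCore
import Cfsg.Agent.Lib.Helper63.GLIGFIX
import Cfsg.Agent.Lib.Helper23.GLIGST
import Cfsg.Agent.Lib.Helper12.GLIMONO

/-!
# GLI (LINES) `lines_decomp` (helper14's lemma server for S5958)
-/

set_option autoImplicit false

namespace Cfsg.Agent.Helper10.GLI

open Module Polynomial Cfsg.Agent.Helper14.GLI

/-- (LINES) -/
theorem lines_decomp {F V : Type*} [Field F] [Fintype F] [AddCommGroup V] [Module F V]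
    [FiniteDimensional F V] (x : V →ₗ[F] V) (r : ℕ) [Fact r.Prime]
    (hr0 : (r : F) ≠ 0) (hrq : ¬ r ∣ Fintype.card F) (hxr : x ^ r = 1)
    (hc1 : 1 < orderOf ((Fintype.card F : ℕ) : ZMod r))
    (hcr : orderOf ((Fintype.card F : ℕ) : ZMod r) = r - 1)
    (t : ℕ) (ht : finrank F V = t)
    (hnk : t ≤ (t % orderOf ((Fintype.card F : ℕ) : ZMod r)) * r) :
    ∃ D : Fin t → Submodule F V, IsIndepFam ⊤ D ∧ (∀ j, finrank F (D j) = 1) ∧
      ∃ σ : Equiv.Perm (Fin t), ∀ j, (D j).map x = D (σ j) := by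
  obtain ⟨h1, h2, h3, h4⟩ := Cfsg.Agent.Helper63.GLI.gl_fix_decomp x r hr0 hxr ⊤ le_top
  obtain ⟨m, W, hW, hWx, hWc, hWirr⟩ :=
    Cfsg.Agent.Helper23.GLI.gl_block_decomp x r hr0 hrq hxr _ h3 h4
  exact lines_core x r hr0 hxr _ hc1 hcr t ht hnk h1 h2 m W hW hWx hWc hWirr
    (by
      intro ι _ b π lam hlam hx t' a β hβ τ hτ
      exact Cfsg.Agent.Helper12.GLI.mono_decomp b x π lam hlam hx a β hβ τ hτ)

end Cfsg.Agent.Helper10.GLI
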