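import Mathlib
import Cfsg.Agent.Lib.Helper10.SylowExtra

set_option autoImplicit false

namespace Cfsg.Agent.Helper10

open scoped commutatorElement

universe u

section focal

variable {G : Type u} [Group G]

lemma focalSubgroup_mono {H H' : Subgroup G} (h : H ≤ H') :
    H.focalSubgroup ≤ H'.focalSubgroup := by
  rw [Subgroup.focalSubgroup_def, Subgroup.focalSubgroup_def]
  apply Subgroup.closure_mono
  rintro g ⟨hg, x, hx, u, rfl⟩
  exact ⟨h hg, x, h hx, u, rfl⟩

lemma focalSubgroup_iterate_mono {H H' : Subgroup G} (h : H ≤ H') (n : ℕ) :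
    (fun K : Subgroup G => Subgroup.focalSubgroup K)^[n] H ≤
      (fun K : Subgroup G => Subgroup.focalSubgroup K)^[n] H' := by
  have hm : Monotone (fun K : Subgroup G => Subgroup.focalSubgroup K) :=
    fun _ _ h => focalSubgroup_mono h
  exact hm.iterate n h

lemma map_focalSubgroup_le (K : Subgroup G) (L : Subgroup K) :
    (L.focalSubgroup).map K.subtype ≤ (L.map K.subtype).focalSubgroup := by
  rw [Subgroup.focalSubgroup_def, Subgroup.focalSubgroup_def, MonoidHom.map_closure]
  apply Subgroup.closure_mono
  rintro _ ⟨g, ⟨hg, x, hx, w, rfl⟩, rfl⟩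
  refine ⟨⟨_, hg, rfl⟩, (x : G), ⟨x, hx, rfl⟩, (w : G), ?_⟩
  simp [commutatorElement_def]

lemma map_focalSubgroup_iterate_le (K : Subgroup G) (n : ℕ) : ∀ L : Subgroup K,
    ((fun M : Subgroup K => Subgroup.focalSubgroup M)^[n] L).map K.subtype ≤
      (fun M : Subgroup G => Subgroup.focalSubgroup M)^[n] (L.map K.subtype) := by
  induction n with
  | zero => intro L; exact le_rfl
  | succ n ih =>
    intro L
    rw [Function.iterate_succ_apply, Function.iterate_succ_apply]
    exact (ih L.focalSubgroup).trans (focalSubgroup_iterate_mono (map_focalSubgroup_le K L) n)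

end focal

section hall

variable {G : Type u} [Group G] [Finite G]

/-- Power map by the index is a bijection of `H / H*` for a Hall subgroup `H`. -/
lemma hall_pow_index_bijective (H : Subgroup G) (hHall : (Nat.card H).Coprime H.index) :
    Function.Bijective (fun y : H ⧸ H.focalSubgroupOf => y ^ H.index) := by
  have hcop : (Nat.card (H ⧸ H.focalSubgroupOf)).Coprime H.index :=
    Nat.Coprime.coprime_dvd_left (Subgroup.card_quotient_dvd_card _) hHall
  exact (powCoprime hcop).bijective

/-- For a Hall subgroup `H`, `ker(transfer) ∩ H` is the focal subgroup. -/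
lemma hall_ker_transferFocal_inf (H : Subgroup G) (hHall : (Nat.card H).Coprime H.index) :
    H.transferFocal.ker ⊓ H = H.focalSubgroup := by
  have hbij := hall_pow_index_bijective H hHall
  ext g
  constructor
  · rintro ⟨hgk, hgH⟩
    have h1 : H.transferFocal (⟨g, hgH⟩ : H) = 1 := hgk
    rw [Subgroup.transferFocal_eq_pow] at h1
    have h2 : ((⟨g, hgH⟩ : H) : H ⧸ H.focalSubgroupOf) = 1 := by
      apply hbij.1
      simp only
      rw [h1, one_pow]
    rw [QuotientGroup.eq_one_iff] at h2
    exact h2
  · intro hg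
    have hgH : g ∈ H := H.focalSubgroup_le hg
    refine ⟨?_, hgH⟩
    show H.transferFocal ((⟨g, hgH⟩ : H) : G) = 1
    rw [Subgroup.transferFocal_eq_pow]
    have h2 : ((⟨g, hgH⟩ : H) : H ⧸ H.focalSubgroupOf) = 1 := by
      rw [QuotientGroup.eq_one_iff]
      exact hg
    rw [h2, one_pow]

/-- For a Hall subgroup `H`, `ker(transfer) H = G`. -/
lemma hall_ker_transferFocal_sup (H : Subgroup G) (hHall : (Nat.card H).Coprime H.index) :
    H.transferFocal.ker ⊔ H = ⊤ := by
  have hbij := hall_pow_index_bijective H hHall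
  rw [eq_top_iff]
  intro g _
  obtain ⟨y, hy⟩ := hbij.2 (H.transferFocal g)
  obtain ⟨h, rfl⟩ := QuotientGroup.mk_surjective y
  simp only at hy
  rw [← Subgroup.transferFocal_eq_pow] at hy
  have h1 : g * (h : G)⁻¹ ∈ H.transferFocal.ker := by
    rw [MonoidHom.mem_ker, map_mul, map_inv, hy, mul_inv_cancel]
  have h2 : g = (g * (h : G)⁻¹) * h := by group
  rw [h2]
  exact Subgroup.mul_mem _ (Subgroup.mem_sup_left h1) (Subgroup.mem_sup_right h.2)

/-- `|ker : H*| = |G : H|`. -/
lemma hall_relIndex_focal (H : Subgroup G) (hHall : (Nat.card H).Coprime H.index) :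
    H.focalSubgroup.relIndex H.transferFocal.ker = H.index := by
  have h1 := card_sup_mul_card_inf_of_normal H.transferFocal.ker H
  rw [hall_ker_transferFocal_sup H hHall, hall_ker_transferFocal_inf H hHall,
    Subgroup.card_top] at h1
  have hle : H.focalSubgroup ≤ H.transferFocal.ker := by
    rw [← hall_ker_transferFocal_inf H hHall]; exact inf_le_left
  have h2 : Nat.card H.focalSubgroup * H.focalSubgroup.relIndex H.transferFocal.ker =
      Nat.card H.transferFocal.ker := card_mul_relIndex_of_le hle
  have h3 : H.index * Nat.card H = Nat.card G := H.index_mul_card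
  have hpos1 : 0 < Nat.card H.focalSubgroup := Nat.card_pos
  have hpos2 : 0 < Nat.card H := Nat.card_pos
  have h4 : (Nat.card H.focalSubgroup * Nat.card H) *
      H.focalSubgroup.relIndex H.transferFocal.ker =
      (Nat.card H.focalSubgroup * Nat.card H) * H.index := by
    calc (Nat.card H.focalSubgroup * Nat.card H) * H.focalSubgroup.relIndex H.transferFocal.ker
        = (Nat.card H.focalSubgroup * H.focalSubgroup.relIndex H.transferFocal.ker) *
          Nat.card H := by ring
      _ = Nat.card H.transferFocal.ker * Nat.card H := by rw [h2]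
      _ = Nat.card G * Nat.card H.focalSubgroup := h1.symm
      _ = (H.index * Nat.card H) * Nat.card H.focalSubgroup := by rw [h3]
      _ = _ := by ring
  exact Nat.eq_of_mul_eq_mul_left (Nat.mul_pos hpos1 hpos2) h4

end hall

section normalHall

variable {K : Type u} [Group K] [Finite K]

/-- Elements of order dividing `|N|` lie in a normal Hall subgroup `N`. -/
lemma mem_of_pow_card_eq_one_of_coprime (N : Subgroup K) [N.Normal]
    (hcop : (Nat.card N).Coprime N.index) {x : K} (hx : x ^ Nat.card N = 1) : x ∈ N := by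
  rw [← QuotientGroup.eq_one_iff]
  have h1 : (x : K ⧸ N) ^ Nat.card N = 1 := by
    rw [← QuotientGroup.mk_pow, hx, QuotientGroup.mk_one]
  have h2 : (x : K ⧸ N) ^ N.index = 1 := by
    rw [Subgroup.index_eq_card]; exact pow_card_eq_one'
  have h3 := pow_gcd_eq_one.mpr ⟨h1, h2⟩
  rwa [hcop.gcd_eq_one, pow_one] at h3

/-- A normal Hall subgroup is characteristic. -/
lemma characteristic_of_normal_of_coprime (N : Subgroup K) [N.Normal]
    (hcop : (Nat.card N).Coprime N.index) : N.Characteristic := by
  rw [Subgroup.characteristic_iff_comap_le]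
  intro ϕ x hx
  apply mem_of_pow_card_eq_one_of_coprime N hcop
  have h1 : (ϕ x) ^ Nat.card N = 1 := by
    have := pow_card_eq_one' (G := N) (x := ⟨ϕ x, hx⟩)
    exact congrArg Subtype.val this
  rw [← map_pow] at h1
  exact (map_eq_one_iff ϕ ϕ.injective).mp h1

end normalHall

end Cfsg.Agent.Helper10
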