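import Mathlib

set_option autoImplicit false

namespace Cfsg.Agent.Helper10

variable {G : Type*} [Group G]

/-- If `X ⊓ N = ⊥` then `X ≃* (X ⊔ N) / N`. -/
lemma nonempty_mulEquiv_sup_quotient (X N : Subgroup G) [N.Normal] (hX : X ⊓ N = ⊥) :
    Nonempty (X ≃* ↥(X ⊔ N) ⧸ N.subgroupOf (X ⊔ N)) := by
  have h0 : N.subgroupOf X = ⊥ := by
    rw [Subgroup.subgroupOf_eq_bot, disjoint_iff, inf_comm]; exact hX
  exact ⟨(QuotientGroup.quotientBot.symm.trans (QuotientGroup.quotientMulEquivOfEq h0.symm)).trans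
    (QuotientGroup.quotientInfEquivProdNormalQuotient X N)⟩

/-- Two complements-in-a-sup of a normal subgroup `N` are isomorphic. -/
lemma nonempty_mulEquiv_of_sup_eq {X Y N : Subgroup G} [N.Normal] (hX : X ⊓ N = ⊥)
    (hY : Y ⊓ N = ⊥) (h : X ⊔ N = Y ⊔ N) : Nonempty (X ≃* Y) := by
  obtain ⟨e1⟩ := nonempty_mulEquiv_sup_quotient X N hX
  have e2 := nonempty_mulEquiv_sup_quotient Y N hY
  rw [← h] at e2
  obtain ⟨e2⟩ := e2
  exact ⟨e1.trans e2.symm⟩

end Cfsg.Agent.Helper10
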