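import Mathlib
import Cfsg.Agent.Lib.Helper10.JCompUniq
import Cfsg.Agent.Lib.Helper50.JComp2
import Cfsg.Agent.Lib.Helper11.ZJ1

/-!
# `J(T)`-components normalize each other (KS 12.2/12.3, abstract form)

In the situation of `JCompSub`/`JCompUniq`, with `J` generated by the elementary abelian
subgroups of largest order of `T`: two `J`-components normalize each other, and `L = N · N_L(J)`
where `N` normalizes the four-group of every `J`-component.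
-/

set_option autoImplicit false

namespace Cfsg.Agent.Helper10.JCompNorm

open Subgroup
open scoped commutatorElement
open Cfsg.Agent.Helper10.JCompSub Cfsg.Agent.Helper10.JCompUniq
open Cfsg.Agent.Helper1.FF (VZ)
open Cfsg.Agent.Helper50.Higman (omegaZ mem_omegaZ)
open Cfsg.Agent.Helper50.JComp (conj_mem_of_le_normalizer le_normalizer_of_conj_mem four_cases
  le_normalizer_commutator zpowers_cases exists_mul_of_mem_sup MaxEA mem_sup_of_commute sq_of_sup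
  comm_of_exp_two card_sup_zpowers)

variable {L : Type*} [Group L] [Finite L]

section single

variable {T : Sylow 2 L} (h : Setup T) {Hh N J : Subgroup L} (F : FFData Hh N)
  (hJT : J ≤ (T : Subgroup L)) (hTJ : (T : Subgroup L) ≤ normalizer (J : Set L))
  (hJth : J ≤ Cfsg.thompsonSubgroup 2 L) {K P W : Subgroup L} (c : Comp J K P W)
include h F hJT hTJ hJth c

/-- `N` normalizes `W` -/
theorem N_normalizes_W : N ≤ normalizer (W : Set L) := by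
  haveI hVn : (VZ 2 L).Normal := Cfsg.Agent.Helper1.FF.VZ_normal 2
  have hKN := h.K_le_N F hJT hTJ hJth c.gen c.comm
  rw [W_eq h F hJT hTJ hJth c]
  apply le_normalizer_of_conj_mem
  intro k hk x hx
  rw [Subgroup.commutator_def] at hx
  refine Subgroup.closure_induction (p := fun x _ => k * x * k⁻¹ ∈ ⁅VZ 2 L, K⁆) ?_ ?_ ?_ ?_ hx
  · rintro _ ⟨v, hv, k₂, hk₂, rfl⟩
    obtain ⟨v', hv'⟩ : ∃ v', v' = k * v * k⁻¹ := ⟨_, rfl⟩
    obtain ⟨c', hc'⟩ : ∃ c', c' = ⁅k, k₂⁆ := ⟨_, rfl⟩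
    have hv'V : v' ∈ VZ 2 L := by rw [hv']; exact hVn.conj_mem v hv k
    have hcC : c' ∈ centralizer (VZ 2 L : Set L) := by
      rw [hc']
      exact F.comm (Subgroup.commutator_mem_commutator hk (hKN hk₂))
    have e1 : k * ⁅v, k₂⁆ * k⁻¹ = ⁅v', c' * k₂⁆ := by
      rw [hv', hc']
      simp only [commutatorElement_def]; group
    have e2 : ⁅v', c' * k₂⁆ = ⁅v', c'⁆ * (c' * ⁅v', k₂⁆ * c'⁻¹) := by
      simp only [commutatorElement_def]; group
    have e3 : ⁅v', c'⁆ = 1 := by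
      rw [commutatorElement_eq_one_iff_mul_comm]
      exact mem_centralizer_iff.mp hcC v' hv'V
    have hwV : ⁅v', k₂⁆ ∈ VZ 2 L := by
      have : ⁅VZ 2 L, K⁆ ≤ VZ 2 L := Subgroup.commutator_le_left _ _
      exact this (Subgroup.commutator_mem_commutator hv'V hk₂)
    have e4 : c' * ⁅v', k₂⁆ * c'⁻¹ = ⁅v', k₂⁆ := by
      have := mem_centralizer_iff.mp hcC _ hwV
      rw [← this]; group
    rw [e1, e2, e3, e4, one_mul]
    exact Subgroup.commutator_mem_commutator hv'V hk₂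
  · simp
  · intro x y _ _ hx hy
    have : k * (x * y) * k⁻¹ = (k * x * k⁻¹) * (k * y * k⁻¹) := by group
    rw [this]; exact Subgroup.mul_mem _ hx hy
  · intro x _ hx
    have : k * x⁻¹ * k⁻¹ = (k * x * k⁻¹)⁻¹ := by group
    rw [this]; exact Subgroup.inv_mem _ hx

/-- `P` centralizes `W` -/
theorem P_comm_W {p w : L} (hp : p ∈ P) (hw : w ∈ W) : p * w = w * p := by
  have hwV := W_le_V h F hJT hTJ hJth c hw
  exact ((V_props h).2.1 w hwV p (P_le_Q h F hJT hTJ hJth c hp)).symm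

/-- `W ≠ ⊥` -/
theorem exists_W_ne_one : ∃ w ∈ W, w ≠ 1 := by
  by_contra hne
  push Not at hne
  have hbot : W = ⊥ := by
    rw [eq_bot_iff]
    intro w hw
    exact Subgroup.mem_bot.mpr (hne w hw)
  have := c.W4
  rw [hbot] at this
  simp at this

/-- an element of `K` centralizing a nontrivial element of `W` lies in `P` -/
theorem mem_P_of_fix {e w : L} (he : e ∈ K) (hw : w ∈ W) (hw1 : w ≠ 1)
    (hfix : e * w * e⁻¹ = w) : e ∈ P := by
  by_contra heP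
  exact hw1 (c.fpf e he heP w hw hfix)

/-- if `a` normalizes `K` and centralizes `W`, then `a` centralizes `K` modulo `P` -/
theorem comm_mem_P_of_centralizes {a : L} (haK : a ∈ normalizer (K : Set L))
    (haW : ∀ w ∈ W, a * w = w * a) {k : L} (hk : k ∈ K) : k⁻¹ * (a * k * a⁻¹) ∈ P := by
  obtain ⟨w, hw, hw1⟩ := exists_W_ne_one h F hJT hTJ hJth c
  have hKW := c.KnW
  have hakK : a * k * a⁻¹ ∈ K := (mem_normalizer_iff.mp haK k).mp hk
  have heK : k⁻¹ * (a * k * a⁻¹) ∈ K := K.mul_mem (K.inv_mem hk) hakK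
  apply mem_P_of_fix h F hJT hTJ hJth c heK hw hw1
  -- a⁻¹ w a = w
  have h1 : a⁻¹ * w * a = w := by
    have := haW w hw
    calc a⁻¹ * w * a = a⁻¹ * (w * a) := by group
      _ = a⁻¹ * (a * w) := by rw [this]
      _ = w := by group
  have hkw : k * w * k⁻¹ ∈ W := conj_mem_of_le_normalizer hKW hk hw
  have h2 : a * (k * w * k⁻¹) * a⁻¹ = k * w * k⁻¹ := by
    have := haW _ hkw
    calc a * (k * w * k⁻¹) * a⁻¹ = (a * (k * w * k⁻¹)) * a⁻¹ := by group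
      _ = ((k * w * k⁻¹) * a) * a⁻¹ := by rw [this]
      _ = k * w * k⁻¹ := by group
  calc k⁻¹ * (a * k * a⁻¹) * w * (k⁻¹ * (a * k * a⁻¹))⁻¹
      = k⁻¹ * (a * (k * (a⁻¹ * w * a) * k⁻¹) * a⁻¹) * k := by group
    _ = k⁻¹ * (a * (k * w * k⁻¹) * a⁻¹) * k := by rw [h1]
    _ = k⁻¹ * (k * w * k⁻¹) * k := by rw [h2]
    _ = w := by group

/-- the normalizer of `K` normalizes `P` -/
theorem normalizer_K_le_normalizer_P : normalizer (K : Set L) ≤ normalizer (P : Set L) := by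
  intro a ha
  apply Cfsg.Agent.Helper49.mem_normalizer_of_conj_le
  intro p hp
  have hpK : a * p * a⁻¹ ∈ K := (mem_normalizer_iff.mp ha p).mp (c.PK hp)
  obtain ⟨m, hm⟩ := (IsPGroup.iff_orderOf.mp c.P2) ⟨p, hp⟩
  have hm' : p ^ (2 ^ m) = 1 := by
    have := pow_orderOf_eq_one (⟨p, hp⟩ : ↥P)
    rw [hm] at this
    simpa using congrArg Subtype.val this
  apply c.sub2 _ hpK m
  have : (a * p * a⁻¹) ^ (2 ^ m) = a * p ^ (2 ^ m) * a⁻¹ := by
    rw [conj_pow]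
  rw [this, hm']; group

/-- the normalizer of `K` normalizes `W` -/
theorem normalizer_K_le_normalizer_W : normalizer (K : Set L) ≤ normalizer (W : Set L) := by
  haveI hVn : (VZ 2 L).Normal := Cfsg.Agent.Helper1.FF.VZ_normal 2
  rw [W_eq h F hJT hTJ hJth c]
  apply le_normalizer_commutator _ le_rfl
  rw [Subgroup.normalizer_eq_top_iff.mpr hVn]; exact le_top

/-- an involution normalizing `K` and not centralizing `W` inverts `K` modulo `P` -/
theorem inv_mem_P {a : L} (haK : a ∈ normalizer (K : Set L)) (ha2 : a * a = 1)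
    (hnc : ¬ ∀ w ∈ W, a * w = w * a) {k : L} (hk : k ∈ K) (hkP : k ∉ P) :
    (a * k * a⁻¹) * k ∈ P := by
  have haP := normalizer_K_le_normalizer_P h F hJT hTJ hJth c haK
  have haW := normalizer_K_le_normalizer_W h F hJT hTJ hJth c haK
  have hKW := c.KnW
  have hainv : a⁻¹ = a := by
    calc a⁻¹ = a⁻¹ * (a * a) := by rw [ha2, mul_one]
      _ = a := by group
  have hxK : a * k * a⁻¹ ∈ K := (mem_normalizer_iff.mp haK k).mp hk
  have hKeq := c.K_eq hk hkP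
  have hzn : zpowers k ≤ normalizer (P : Set L) := (zpowers_le.mpr hk).trans c.KnP
  rw [hKeq] at hxK
  obtain ⟨p, hp, z, hz, hxpz⟩ := exists_mul_of_mem_sup hzn hxK
  obtain ⟨j, rfl⟩ := mem_zpowers_iff.mp hz
  -- reduce the exponent modulo 3
  have hk3 : k ^ 3 ∈ P := c.cube_mem hk
  have hdecomp : k ^ j = (k ^ 3) ^ (j / 3) * k ^ (j % 3) := by
    have h3 : k ^ (3 : ℤ) = k ^ (3 : ℕ) := by norm_cast
    rw [← h3, ← zpow_mul, ← zpow_add]
    congr 1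
    omega
  have hq : (k ^ 3) ^ (j / 3) ∈ P := Subgroup.zpow_mem _ hk3 _
  have hr0 : 0 ≤ j % 3 := Int.emod_nonneg _ (by norm_num)
  have hr3 : j % 3 < 3 := Int.emod_lt_of_pos _ (by norm_num)
  have hcases : j % 3 = 0 ∨ j % 3 = 1 ∨ j % 3 = 2 := by omega
  set p' := p * (k ^ 3) ^ (j / 3) with hp'
  have hp'P : p' ∈ P := P.mul_mem hp hq
  have hx : a * k * a⁻¹ = p' * k ^ (j % 3) := by
    rw [hxpz, hdecomp, hp']; group
  rcases hcases with h0 | h1 | h2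
  · exfalso
    rw [h0, zpow_zero, mul_one] at hx
    apply hkP
    have h1 : a⁻¹ * (a * k * a⁻¹) * a⁻¹⁻¹ ∈ P :=
      (mem_normalizer_iff.mp (Subgroup.inv_mem _ haP) _).mp (hx ▸ hp'P)
    have h2 : a⁻¹ * (a * k * a⁻¹) * a⁻¹⁻¹ = k := by group
    rwa [h2] at h1
  · exfalso
    rw [h1, zpow_one] at hx
    apply hnc
    -- `a` commutes with the action of `k` on `W`
    have hcomm : ∀ w ∈ W, a * (k * w * k⁻¹) * a⁻¹ = k * (a * w * a⁻¹) * k⁻¹ := by
      intro w hw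
      have hawW : a * w * a⁻¹ ∈ W := (mem_normalizer_iff.mp haW w).mp hw
      have hkawW : k * (a * w * a⁻¹) * k⁻¹ ∈ W := conj_mem_of_le_normalizer hKW hk hawW
      have hpc := P_comm_W h F hJT hTJ hJth c hp'P hkawW
      calc a * (k * w * k⁻¹) * a⁻¹ = (a * k * a⁻¹) * (a * w * a⁻¹) * (a * k * a⁻¹)⁻¹ := by group
        _ = (p' * k) * (a * w * a⁻¹) * (p' * k)⁻¹ := by rw [hx]
        _ = (p' * (k * (a * w * a⁻¹) * k⁻¹)) * p'⁻¹ := by group
        _ = ((k * (a * w * a⁻¹) * k⁻¹) * p') * p'⁻¹ := by rw [hpc]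
        _ = k * (a * w * a⁻¹) * k⁻¹ := by group
    have hnc' := hnc
    push Not at hnc'
    obtain ⟨w₀, hw₀, hw₀a⟩ := hnc'
    have haw₀ : a * w₀ * a⁻¹ ∈ W := (mem_normalizer_iff.mp haW w₀).mp hw₀
    have hWc := comm_of_exp_two c.W2
    set u := w₀ * (a * w₀ * a⁻¹) with hu
    have huW : u ∈ W := W.mul_mem hw₀ haw₀
    have hu1 : u ≠ 1 := by
      intro hu1
      apply hw₀a
      have h3 : a * w₀ * a⁻¹ = w₀⁻¹ := by
        rw [hu] at hu1
        exact (eq_inv_of_mul_eq_one_right hu1)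
      have h4 : w₀⁻¹ = w₀ := by
        have := c.W2 w₀ hw₀
        calc w₀⁻¹ = w₀⁻¹ * (w₀ * w₀) := by rw [this, mul_one]
          _ = w₀ := by group
      rw [h4] at h3
      calc a * w₀ = (a * w₀ * a⁻¹) * a := by group
        _ = w₀ * a := by rw [h3]
    have hua : a * u * a⁻¹ = u := by
      have e1 : a * u * a⁻¹ = (a * w₀ * a⁻¹) * (a * (a * w₀ * a⁻¹) * a⁻¹) := by
        rw [hu]; group
      have e2 : a * (a * w₀ * a⁻¹) * a⁻¹ = w₀ := by
        calc a * (a * w₀ * a⁻¹) * a⁻¹ = (a * a) * w₀ * (a * a)⁻¹ := by group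
          _ = w₀ := by rw [ha2]; group
      rw [e1, e2, hu]
      exact hWc _ haw₀ _ hw₀
    set v := k * u * k⁻¹ with hv
    have hvW : v ∈ W := conj_mem_of_le_normalizer hKW hk huW
    have hva : a * v * a⁻¹ = v := by
      rw [hv, hcomm u huW, hua]
    have hv1 : v ≠ 1 := by
      intro hv1
      apply hu1
      have : u = k⁻¹ * v * k := by rw [hv]; group
      rw [this, hv1]; group
    have hvu : v ∉ zpowers u := by
      intro hvz
      rcases zpowers_cases (c.W2 u huW) hvz with hz1 | hz2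
      · exact hv1 hz1
      · exact hkP (mem_P_of_fix h F hJT hTJ hJth c hk huW hu1 (hv ▸ hz2))
    intro w hw
    have hfix : a * w * a⁻¹ = w := by
      rcases four_cases c.W4 c.W2 huW hvW hu1 hvu w hw with rfl | rfl | rfl | rfl
      · group
      · exact hua
      · exact hva
      · calc a * (u * v) * a⁻¹ = (a * u * a⁻¹) * (a * v * a⁻¹) := by group
          _ = u * v := by rw [hua, hva]
    calc a * w = (a * w * a⁻¹) * a := by group
      _ = w * a := by rw [hfix]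
  · rw [h2] at hx
    rw [hx]
    have : p' * k ^ (2 : ℤ) * k = p' * k ^ 3 := by
      have h3 : k ^ (2 : ℤ) = k ^ (2 : ℕ) := by norm_cast
      rw [h3]; group
    rw [this]
    exact P.mul_mem hp'P hk3

end single

theorem sq_eq_one_of {Γ : Type*} [Group Γ] {X Y Z α : Γ} (h1 : α * Y * α⁻¹ = Y)
    (h2 : α * X * α⁻¹ = X⁻¹) (h3 : α * Z * α⁻¹ = Z) (h4 : X * Z = Z * X)
    (hZ : Z = Y * X * Y⁻¹ * X⁻¹) : Z * Z = 1 := by
  have e1 : Z = Y * X⁻¹ * Y⁻¹ * X := by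
    have e0 : α * Z * α⁻¹ = (α * Y * α⁻¹) * (α * X * α⁻¹) * (α * Y * α⁻¹)⁻¹ * (α * X * α⁻¹)⁻¹ := by
      rw [hZ]; group
    rw [h3, h1, h2, inv_inv] at e0
    exact e0
  have e2 : Y * X⁻¹ * Y⁻¹ = X⁻¹ * Z⁻¹ := by rw [hZ]; group
  have e3 : X⁻¹ * Z⁻¹ * X = Z⁻¹ := by
    have : Z⁻¹ * X = X * Z⁻¹ := by
      calc Z⁻¹ * X = Z⁻¹ * (X * Z) * Z⁻¹ := by group
        _ = Z⁻¹ * (Z * X) * Z⁻¹ := by rw [h4]
        _ = X * Z⁻¹ := by group
    calc X⁻¹ * Z⁻¹ * X = X⁻¹ * (Z⁻¹ * X) := by group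
      _ = X⁻¹ * (X * Z⁻¹) := by rw [this]
      _ = Z⁻¹ := by group
  have e4 : Z = Z⁻¹ := by
    calc Z = Y * X⁻¹ * Y⁻¹ * X := e1
      _ = X⁻¹ * Z⁻¹ * X := by rw [e2]
      _ = Z⁻¹ := e3
  calc Z * Z = Z * Z⁻¹ := by rw [← e4]
    _ = 1 := mul_inv_cancel Z

section four

variable {J K P W : Subgroup L} (c : Comp J K P W)
include c

/-- an element fixing two generators of `W` centralizes `W` -/
theorem centralizes_of_fix {g w w' : L} (hw : w ∈ W) (hw' : w' ∈ W) (hw1 : w ≠ 1)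
    (hww' : w' ∉ zpowers w) (h1 : g * w * g⁻¹ = w) (h2 : g * w' * g⁻¹ = w') :
    ∀ x ∈ W, g * x = x * g := by
  intro x hx
  have hfix : g * x * g⁻¹ = x := by
    rcases four_cases c.W4 c.W2 hw hw' hw1 hww' x hx with rfl | rfl | rfl | rfl
    · group
    · exact h1
    · exact h2
    · calc g * (w * w') * g⁻¹ = (g * w * g⁻¹) * (g * w' * g⁻¹) := by group
        _ = w * w' := by rw [h1, h2]
  calc g * x = (g * x * g⁻¹) * g := by group
    _ = x * g := by rw [hfix]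

/-- `C_A(W)` has index at most two in an elementary abelian `2`-group `A` normalizing `W` -/
theorem relIndex_dvd_two {A : Subgroup L} (hA2 : ∀ x ∈ A, x * x = 1)
    (hAc : ∀ x ∈ A, ∀ y ∈ A, x * y = y * x) (hAW : A ≤ normalizer (W : Set L)) :
    (A ⊓ centralizer (W : Set L)).relIndex A ∣ 2 := by
  by_cases hall : ∀ a ∈ A, ∀ w ∈ W, a * w = w * a
  · have : (A ⊓ centralizer (W : Set L)).relIndex A = 1 := by
      rw [Subgroup.relIndex_eq_one]
      intro a ha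
      refine mem_inf.mpr ⟨ha, ?_⟩
      rw [mem_centralizer_iff]
      intro w hw
      exact (hall a ha w hw).symm
    rw [this]; exact one_dvd 2
  push Not at hall
  obtain ⟨a₀, ha₀, w, hw, hne⟩ := hall
  rw [Subgroup.relIndex_dvd_two_iff]
  refine ⟨a₀, ha₀, ?_⟩
  intro b hb
  by_cases hbc : b ∈ A ⊓ centralizer (W : Set L)
  · right; exact hbc
  left
  refine mem_inf.mpr ⟨A.mul_mem hb ha₀, ?_⟩
  have hWc := comm_of_exp_two c.W2
  set w' := a₀ * w * a₀⁻¹ with hw'def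
  have hw'W : w' ∈ W := conj_mem_of_le_normalizer hAW ha₀ hw
  have hw1 : w ≠ 1 := by
    rintro rfl
    apply hne; simp
  have hw'w : w' ≠ w := by
    intro heq
    apply hne
    calc a₀ * w = (a₀ * w * a₀⁻¹) * a₀ := by group
      _ = w * a₀ := by rw [← hw'def, heq]
  have hw'1 : w' ≠ 1 := by
    intro heq
    apply hw1
    have : w = a₀⁻¹ * w' * a₀ := by rw [hw'def]; group
    rw [this, heq]; group
  have hww' : w' ∉ zpowers w := by
    intro hz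
    rcases zpowers_cases (c.W2 w hw) hz with h1 | h1
    · exact hw'1 h1
    · exact hw'w h1
  have ha₀w' : a₀ * w' * a₀⁻¹ = w := by
    calc a₀ * w' * a₀⁻¹ = (a₀ * a₀) * w * (a₀ * a₀)⁻¹ := by rw [hw'def]; group
      _ = w := by rw [hA2 a₀ ha₀]; group
  have hba : b * a₀ = a₀ * b := hAc b hb a₀ ha₀
  have hbwW : b * w * b⁻¹ ∈ W := conj_mem_of_le_normalizer hAW hb hw
  -- `b w' b⁻¹ = a₀ (b w b⁻¹) a₀⁻¹`
  have hbw' : b * w' * b⁻¹ = a₀ * (b * w * b⁻¹) * a₀⁻¹ := by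
    calc b * w' * b⁻¹ = (b * a₀) * w * (b * a₀)⁻¹ := by rw [hw'def]; group
      _ = (a₀ * b) * w * (a₀ * b)⁻¹ := by rw [hba]
      _ = a₀ * (b * w * b⁻¹) * a₀⁻¹ := by group
  have key : ∀ x ∈ W, (b * a₀) * x = x * (b * a₀) := by
    rcases four_cases c.W4 c.W2 hw hw'W hw1 hww' _ hbwW with h1 | h1 | h1 | h1
    · exfalso
      apply hw1
      have : w = b⁻¹ * (b * w * b⁻¹) * b := by group
      rw [this, h1]; group
    · exfalso
      apply hbc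
      refine mem_inf.mpr ⟨hb, ?_⟩
      rw [mem_centralizer_iff]
      intro x hx
      have hb2 : b * w' * b⁻¹ = w' := by rw [hbw', h1]
      exact (centralizes_of_fix c hw hw'W hw1 hww' h1 hb2 x hx).symm
    · have hb2 : b * w' * b⁻¹ = w := by rw [hbw', h1, ha₀w']
      apply centralizes_of_fix c hw hw'W hw1 hww'
      · calc b * a₀ * w * (b * a₀)⁻¹ = b * (a₀ * w * a₀⁻¹) * b⁻¹ := by group
          _ = w := by rw [← hw'def, hb2]
      · calc b * a₀ * w' * (b * a₀)⁻¹ = b * (a₀ * w' * a₀⁻¹) * b⁻¹ := by group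
          _ = w' := by rw [ha₀w', h1]
    · exfalso
      apply hw'w
      have hb2 : b * w' * b⁻¹ = w * w' := by
        rw [hbw', h1]
        calc a₀ * (w * w') * a₀⁻¹ = (a₀ * w * a₀⁻¹) * (a₀ * w' * a₀⁻¹) := by group
          _ = w' * w := by rw [← hw'def, ha₀w']
          _ = w * w' := hWc _ hw'W _ hw
      have : b * w' * b⁻¹ = b * w * b⁻¹ := by rw [hb2, h1]
      have h3 : w' = b⁻¹ * (b * w' * b⁻¹) * b := by group
      rw [h3, this]; group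
  rw [mem_centralizer_iff]
  intro x hx
  exact (key x hx).symm

theorem card_le_two_mul {A : Subgroup L} (hA2 : ∀ x ∈ A, x * x = 1)
    (hAc : ∀ x ∈ A, ∀ y ∈ A, x * y = y * x) (hAW : A ≤ normalizer (W : Set L)) :
    Nat.card A ≤ 2 * Nat.card ↥(A ⊓ centralizer (W : Set L)) := by
  have h1 := relIndex_dvd_two c hA2 hAc hAW
  have h2 := Subgroup.relIndex_mul_relIndex ⊥ (A ⊓ centralizer (W : Set L)) A bot_le inf_le_left
  rw [Subgroup.relIndex_bot_left, Subgroup.relIndex_bot_left] at h2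
  have h3 : (A ⊓ centralizer (W : Set L)).relIndex A ≤ 2 := Nat.le_of_dvd (by norm_num) h1
  calc Nat.card A = Nat.card ↥(A ⊓ centralizer (W : Set L)) *
        (A ⊓ centralizer (W : Set L)).relIndex A := h2.symm
    _ ≤ Nat.card ↥(A ⊓ centralizer (W : Set L)) * 2 := Nat.mul_le_mul_left _ h3
    _ = 2 * Nat.card ↥(A ⊓ centralizer (W : Set L)) := by ring

end four

section pair

variable {T : Sylow 2 L} (h : Setup T) {Hh N J : Subgroup L} (F : FFData Hh N)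
  (hJT : J ≤ (T : Subgroup L)) (hTJ : (T : Subgroup L) ≤ normalizer (J : Set L))
  (hJth : J ≤ Cfsg.thompsonSubgroup 2 L) {K₁ P₁ W₁ K₂ P₂ W₂ : Subgroup L}
  (c₁ : Comp J K₁ P₁ W₁) (c₂ : Comp J K₂ P₂ W₂)
include h F hJT hTJ hJth c₁ c₂

/-- an element of `T` centralizing `W₂`, not centralizing `W₁`, forces `[K₂, K₁] ≤ O₂(L)` -/
theorem comm_mem_Q_of {a : L} (haT : a ∈ (T : Subgroup L)) (haK₁ : a ∈ normalizer (K₁ : Set L))
    (haK₂ : a ∈ normalizer (K₂ : Set L)) (ha2 : a * a = 1)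
    (hc₂ : ∀ w ∈ W₂, a * w = w * a) (hnc₁ : ¬ ∀ w ∈ W₁, a * w = w * a)
    {k₁ k₂ : L} (hk₁ : k₁ ∈ K₁) (hk₂ : k₂ ∈ K₂) :
    k₂ * k₁ * k₂⁻¹ * k₁⁻¹ ∈ Cfsg.pCore 2 L := by
  haveI hQn := h.Qn
  set Q := Cfsg.pCore 2 L with hQ
  by_cases hk₁P : k₁ ∈ P₁
  · have hk₁Q : k₁ ∈ Q := P_le_Q h F hJT hTJ hJth c₁ hk₁P
    exact Q.mul_mem (hQn.conj_mem k₁ hk₁Q k₂) (Q.inv_mem hk₁Q)
  have hK₁N := h.K_le_N F hJT hTJ hJth c₁.gen c₁.comm
  have hK₂N := h.K_le_N F hJT hTJ hJth c₂.gen c₂.comm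
  set z := k₂ * k₁ * k₂⁻¹ * k₁⁻¹ with hz
  have hzC : z ∈ centralizer (VZ 2 L : Set L) := by
    have : z = ⁅k₂, k₁⁆ := by rw [commutatorElement_def]
    rw [this]
    exact F.comm (Subgroup.commutator_mem_commutator (hK₂N hk₂) (hK₁N hk₁))
  have H1 : k₂⁻¹ * (a * k₂ * a⁻¹) ∈ Q :=
    P_le_Q h F hJT hTJ hJth c₂ (comm_mem_P_of_centralizes h F hJT hTJ hJth c₂ haK₂ hc₂ hk₂)
  have H2 : (a * k₁ * a⁻¹) * k₁ ∈ Q :=
    P_le_Q h F hJT hTJ hJth c₁ (inv_mem_P h F hJT hTJ hJth c₁ haK₁ ha2 hnc₁ hk₁ hk₁P)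
  have H3 : a * z * a⁻¹ * z⁻¹ ∈ Q := (h.T_le_Mker haT) z hzC
  have H4 : k₁ * z * k₁⁻¹ * z⁻¹ ∈ Q :=
    (h.K_le_Mker F hJT hTJ hJth c₁.gen c₁.comm hk₁) z hzC
  -- pass to the quotient
  let π := QuotientGroup.mk' Q
  have hπ : ∀ x : L, π x = 1 ↔ x ∈ Q := fun x => QuotientGroup.eq_one_iff x
  have q1 : π a * π k₂ * (π a)⁻¹ = π k₂ := by
    have := (hπ _).mpr H1
    rw [map_mul, map_inv, map_mul, map_mul, map_inv] at this
    calc π a * π k₂ * (π a)⁻¹ = π k₂ * ((π k₂)⁻¹ * (π a * π k₂ * (π a)⁻¹)) := by group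
      _ = π k₂ := by rw [this, mul_one]
  have q2 : π a * π k₁ * (π a)⁻¹ = (π k₁)⁻¹ := by
    have := (hπ _).mpr H2
    rw [map_mul, map_mul, map_mul, map_inv] at this
    exact eq_inv_of_mul_eq_one_left this
  have q3 : π a * π z * (π a)⁻¹ = π z := by
    have := (hπ _).mpr H3
    rw [map_mul, map_mul, map_mul, map_inv, map_inv] at this
    exact mul_inv_eq_one.mp this
  have q4 : π k₁ * π z = π z * π k₁ := by
    have := (hπ _).mpr H4
    rw [map_mul, map_mul, map_mul, map_inv, map_inv] at this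
    have h5 : π k₁ * π z * (π k₁)⁻¹ = π z := mul_inv_eq_one.mp this
    calc π k₁ * π z = (π k₁ * π z * (π k₁)⁻¹) * π k₁ := by group
      _ = π z * π k₁ := by rw [h5]
  have q5 : π z = π k₂ * π k₁ * (π k₂)⁻¹ * (π k₁)⁻¹ := by
    rw [hz, map_mul, map_mul, map_mul, map_inv, map_inv]
  have hzz : z * z ∈ Q := by
    rw [← hπ, map_mul]
    exact sq_eq_one_of q1 q2 q3 q4 q5
  -- `z` is a `2`-element of `C`
  obtain ⟨m, hm⟩ := IsPGroup.iff_card.mp h.Q2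
  have hzpow : z ^ (2 ^ (m + 1)) = 1 := by
    have := pow_card_eq_one' (G := ↥(Cfsg.pCore 2 L)) (x := ⟨z * z, hzz⟩)
    rw [hm] at this
    have h6 : (z * z) ^ (2 ^ m) = 1 := by simpa using congrArg Subtype.val this
    rw [pow_succ, pow_mul']
    rw [← pow_two] at h6
    exact h6
  exact h.C_inf_T_le_Q (mem_inf.mpr ⟨hzC, h.mem_T_of_two hzC hzpow⟩)

end pair

/-- an element `k q` of odd order (`k ∈ K`, `q ∈ O₂(L)` normalizing `K`) lies in `K` -/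
theorem odd_mul_mem {T : Sylow 2 L} (h : Setup T) {K : Subgroup L}
    (hQK : Cfsg.pCore 2 L ≤ normalizer (K : Set L)) {k q : L} (hk : k ∈ K)
    (hq : q ∈ Cfsg.pCore 2 L) (hodd : Odd (orderOf (k * q))) : k * q ∈ K := by
  have hpow : ∀ n : ℕ, ∃ k' ∈ K, (k * q) ^ n = k' * q ^ n := by
    intro n
    induction n with
    | zero => exact ⟨1, K.one_mem, by simp⟩
    | succ n ih =>
      obtain ⟨k', hk', he⟩ := ih
      refine ⟨k' * (q ^ n * k * (q ^ n)⁻¹), K.mul_mem hk'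
        (conj_mem_of_le_normalizer hQK (Subgroup.pow_mem _ hq n) hk), ?_⟩
      rw [pow_succ, he, pow_succ]; group
  obtain ⟨m, hm⟩ := IsPGroup.iff_card.mp h.Q2
  have hqm : q ^ (2 ^ m) = 1 := by
    have := pow_card_eq_one' (G := ↥(Cfsg.pCore 2 L)) (x := ⟨q, hq⟩)
    rw [hm] at this
    simpa using congrArg Subtype.val this
  obtain ⟨k', hk', he⟩ := hpow (2 ^ m)
  rw [hqm, mul_one] at he
  have hcop : Nat.Coprime (2 ^ m) (orderOf (k * q)) :=
    (Nat.Coprime.pow_right m hodd.coprime_two_right).symm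
  obtain ⟨j, hj⟩ := exists_pow_eq_self_of_coprime hcop
  rw [← hj, he]
  exact K.pow_mem hk' j

section main

variable {T : Sylow 2 L} (h : Setup T) {Hh N J : Subgroup L} (F : FFData Hh N)
  (hJT : J ≤ (T : Subgroup L)) (hTJ : (T : Subgroup L) ≤ normalizer (J : Set L))
  (hJth : J ≤ Cfsg.thompsonSubgroup 2 L)
  (hJA : J = sSup {A : Subgroup L | MaxEA (T : Subgroup L) A})
  {K₁ P₁ W₁ K₂ P₂ W₂ : Subgroup L}
  (c₁ : Comp J K₁ P₁ W₁) (c₂ : Comp J K₂ P₂ W₂)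
include h F hJT hTJ hJth hJA c₁ c₂

omit c₂ in
/-- some elementary abelian subgroup of largest order of `T` does not centralize `W₁` -/
theorem exists_A : ∃ A : Subgroup L, MaxEA (T : Subgroup L) A ∧
    ∃ a ∈ A, ¬ ∀ w ∈ W₁, a * w = w * a := by
  by_contra hne
  push Not at hne
  have hJK := h.JnK F hJT hTJ hJth c₁.gen c₁.comm
  apply c₁.K_ne_P
  have hJc : ∀ a ∈ J, ∀ w ∈ W₁, a * w = w * a := by
    have h1 : J ≤ centralizer (W₁ : Set L) := by
      rw [hJA]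
      apply sSup_le
      intro A hA a ha
      rw [mem_centralizer_iff]
      intro w hw
      exact (hne A hA a ha w hw).symm
    intro a ha w hw
    exact (mem_centralizer_iff.mp (h1 ha) w hw).symm
  rw [← c₁.comm, Subgroup.commutator_le]
  intro k hk a ha
  have := comm_mem_P_of_centralizes h F hJT hTJ hJth c₁ (hJK ha) (hJc a ha) (K₁.inv_mem hk)
  rw [commutatorElement_def]
  convert this using 1
  group

/-- `[K₂, K₁] ≤ O₂(L)` when the four-groups meet trivially -/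
theorem comm_mem_Q (hW : W₁ ⊓ W₂ = ⊥) {k₁ k₂ : L} (hk₁ : k₁ ∈ K₁) (hk₂ : k₂ ∈ K₂) :
    k₂ * k₁ * k₂⁻¹ * k₁⁻¹ ∈ Cfsg.pCore 2 L := by
  haveI hQn := h.Qn
  obtain ⟨A, hA, a₀, ha₀, hnc₀⟩ := exists_A h F hJT hTJ hJth hJA c₁
  obtain ⟨hAT, hA2, hAc, hAmax⟩ := hA
  have hAJ : A ≤ J := by rw [hJA]; exact le_sSup ⟨hAT, hA2, hAc, hAmax⟩
  have hJK₁ := h.JnK F hJT hTJ hJth c₁.gen c₁.comm
  have hJK₂ := h.JnK F hJT hTJ hJth c₂.gen c₂.comm
  by_cases hcase : ∃ a ∈ A, (∀ w ∈ W₂, a * w = w * a) ∧ ¬ ∀ w ∈ W₁, a * w = w * a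
  · obtain ⟨a, ha, hc₂, hnc₁⟩ := hcase
    exact comm_mem_Q_of h F hJT hTJ hJth c₁ c₂ (hAT ha) (hJK₁ (hAJ ha)) (hJK₂ (hAJ ha))
      (hA2 a ha) hc₂ hnc₁ hk₁ hk₂
  by_cases hcase' : ∃ a ∈ A, (∀ w ∈ W₁, a * w = w * a) ∧ ¬ ∀ w ∈ W₂, a * w = w * a
  · obtain ⟨a, ha, hc₁, hnc₂⟩ := hcase'
    have := comm_mem_Q_of h F hJT hTJ hJth c₂ c₁ (hAT ha) (hJK₂ (hAJ ha)) (hJK₁ (hAJ ha))
      (hA2 a ha) hc₁ hnc₂ hk₂ hk₁
    have h2 := Subgroup.inv_mem _ this
    convert h2 using 1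
    group
  exfalso
  push Not at hcase hcase'
  -- `C_A(W₁) = C_A(W₂)`
  have hiff : ∀ a ∈ A, (∀ w ∈ W₁, a * w = w * a) ↔ (∀ w ∈ W₂, a * w = w * a) := by
    intro a ha
    constructor
    · intro h1
      by_contra h2
      exact h2 (hcase' a ha h1)
    · intro h2
      by_contra h1
      exact h1 (hcase a ha h2)
  have hW₁V := W_le_V h F hJT hTJ hJth c₁
  have hW₂V := W_le_V h F hJT hTJ hJth c₂
  obtain ⟨hVQ, hVc, hV2⟩ := V_props h
  have hW₁T : W₁ ≤ (T : Subgroup L) := (hW₁V.trans hVQ).trans h.Q_le_T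
  have hW₂T : W₂ ≤ (T : Subgroup L) := (hW₂V.trans hVQ).trans h.Q_le_T
  have hWW : ∀ x ∈ W₁, ∀ y ∈ W₂, x * y = y * x := fun x hx y hy =>
    hVc x (hW₁V hx) y (hVQ (hW₂V hy))
  have hAW₁ : A ≤ normalizer (W₁ : Set L) :=
    (hAJ.trans hJK₁).trans (normalizer_K_le_normalizer_W h F hJT hTJ hJth c₁)
  have hAW₂ : A ≤ normalizer (W₂ : Set L) :=
    (hAJ.trans hJK₂).trans (normalizer_K_le_normalizer_W h F hJT hTJ hJth c₂)
  set A₀ := A ⊓ centralizer (W₁ : Set L) with hA₀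
  have hA₀c : ∀ x ∈ A₀, ∀ w ∈ W₁, x * w = w * x := fun x hx w hw =>
    (mem_centralizer_iff.mp (mem_inf.mp hx).2 w hw).symm
  have hA₀c₂ : ∀ x ∈ A₀, ∀ w ∈ W₂, x * w = w * x := fun x hx =>
    (hiff x (mem_inf.mp hx).1).mp (hA₀c x hx)
  have hcard := card_le_two_mul c₁ hA2 hAc hAW₁
  -- the replacement `B = A₀ W₁`
  have hA₀2 : ∀ x ∈ A₀, x * x = 1 := fun x hx => hA2 x (mem_inf.mp hx).1
  have hB2 : ∀ x ∈ A₀ ⊔ W₁, x * x = 1 := sq_of_sup hA₀2 c₁.W2 hA₀c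
  have hBc := comm_of_exp_two hB2
  have hBT : A₀ ⊔ W₁ ≤ (T : Subgroup L) := sup_le (inf_le_left.trans hAT) hW₁T
  have hBle := hAmax _ hBT hB2 hBc
  have hn : W₁ ≤ normalizer ((A₀ : Subgroup L) : Set L) :=
    Cfsg.Agent.Helper50.JComp.le_normalizer_of_commute hA₀c
  have hprod := Cfsg.Agent.Helper50.card_sup_mul_card_inf_of_le_normalizer A₀ W₁ hn
  rw [c₁.W4] at hprod
  -- `A₀ ∩ W₁` is a proper subgroup of `W₁`
  have hinf : Nat.card ↥(A₀ ⊓ W₁) ≤ 2 := by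
    have hdvd : Nat.card ↥(A₀ ⊓ W₁) ∣ 4 := c₁.W4 ▸ Subgroup.card_dvd_of_le inf_le_right
    have hne4 : Nat.card ↥(A₀ ⊓ W₁) ≠ 4 := by
      intro h4
      have heq : A₀ ⊓ W₁ = W₁ := Subgroup.eq_of_le_of_card_ge inf_le_right (by rw [h4, c₁.W4])
      have hW₁A : W₁ ≤ A := by
        rw [← heq]; exact inf_le_left.trans inf_le_left
      apply hnc₀
      intro w hw
      exact hAc a₀ ha₀ w (hW₁A hw)
    have hle4 : Nat.card ↥(A₀ ⊓ W₁) ≤ 4 := Nat.le_of_dvd (by norm_num) hdvd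
    interval_cases hc : Nat.card ↥(A₀ ⊓ W₁)
    · omega
    · omega
    · omega
    · exfalso; revert hdvd; decide
    · exact absurd rfl hne4
  have hBcard : Nat.card ↥(A₀ ⊔ W₁) = Nat.card A := by
    have hpos : 0 < Nat.card ↥(A₀ ⊓ W₁) := Nat.card_pos
    obtain ⟨n, hn'⟩ : ∃ n, n = Nat.card ↥A₀ := ⟨_, rfl⟩
    obtain ⟨b, hb⟩ : ∃ b, b = Nat.card ↥(A₀ ⊔ W₁) := ⟨_, rfl⟩
    obtain ⟨i, hi⟩ : ∃ i, i = Nat.card ↥(A₀ ⊓ W₁) := ⟨_, rfl⟩
    obtain ⟨m, hm⟩ : ∃ m, m = Nat.card ↥A := ⟨_, rfl⟩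
    rw [← hn', ← hb, ← hi] at hprod
    rw [← hn', ← hm] at hcard
    rw [← hb, ← hm] at hBle ⊢
    rw [← hi] at hinf hpos
    interval_cases i
    · nlinarith
    · nlinarith
  have hBmax : MaxEA (T : Subgroup L) (A₀ ⊔ W₁) := by
    refine ⟨hBT, hB2, hBc, ?_⟩
    intro B' h1 h2 h3
    rw [hBcard]
    exact hAmax B' h1 h2 h3
  -- `W₂ ≤ B`
  have hW₂B : W₂ ≤ A₀ ⊔ W₁ := by
    intro w hw
    apply hBmax.mem_of_commute (hW₂T hw) (c₂.W2 w hw)
    intro x hx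
    obtain ⟨y, hy, z, hz, rfl⟩ := mem_sup_of_commute hA₀c hx
    calc y * z * w = y * (z * w) := by group
      _ = y * (w * z) := by rw [hWW z hz w hw]
      _ = (y * w) * z := by group
      _ = (w * y) * z := by rw [hA₀c₂ y hy w hw]
      _ = w * (y * z) := by group
  -- `a₀` centralizes `W₂`
  apply hnc₀
  rw [hiff a₀ ha₀]
  intro w hw
  obtain ⟨y, hy, z, hz, rfl⟩ := mem_sup_of_commute hA₀c (hW₂B hw)
  have hya : a₀ * y = y * a₀ := hAc a₀ ha₀ y (mem_inf.mp hy).1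
  -- `[a₀, z] ∈ W₁ ∩ W₂`
  have hcz : a₀ * z * a₀⁻¹ * z⁻¹ ∈ W₁ :=
    W₁.mul_mem (conj_mem_of_le_normalizer hAW₁ ha₀ hz) (W₁.inv_mem hz)
  have hcw : a₀ * (y * z) * a₀⁻¹ * (y * z)⁻¹ ∈ W₂ :=
    W₂.mul_mem (conj_mem_of_le_normalizer hAW₂ ha₀ hw) (W₂.inv_mem hw)
  have heq : a₀ * (y * z) * a₀⁻¹ * (y * z)⁻¹ = a₀ * z * a₀⁻¹ * z⁻¹ := by
    have hazW : a₀ * z * a₀⁻¹ * z⁻¹ ∈ W₁ := hcz
    have hyc := hA₀c y hy _ hazW
    calc a₀ * (y * z) * a₀⁻¹ * (y * z)⁻¹ = (a₀ * y) * (z * a₀⁻¹ * z⁻¹) * y⁻¹ := by group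
      _ = (y * a₀) * (z * a₀⁻¹ * z⁻¹) * y⁻¹ := by rw [hya]
      _ = (y * (a₀ * z * a₀⁻¹ * z⁻¹)) * y⁻¹ := by group
      _ = ((a₀ * z * a₀⁻¹ * z⁻¹) * y) * y⁻¹ := by rw [hyc]
      _ = a₀ * z * a₀⁻¹ * z⁻¹ := by group
  have hbot : a₀ * (y * z) * a₀⁻¹ * (y * z)⁻¹ ∈ W₁ ⊓ W₂ :=
    mem_inf.mpr ⟨heq ▸ hcz, hcw⟩
  rw [hW, Subgroup.mem_bot] at hbot
  calc a₀ * (y * z) = (a₀ * (y * z) * a₀⁻¹ * (y * z)⁻¹) * ((y * z) * a₀) := by group
    _ = (y * z) * a₀ := by rw [hbot, one_mul]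

/-- **`K₂` normalizes `K₁`.** -/
theorem normalizes : K₂ ≤ normalizer (K₁ : Set L) := by
  haveI hQn := h.Qn
  by_cases hW : W₁ ⊓ W₂ = ⊥
  · have hQK₁ := h.Q_le_normalizer_K F hJT hTJ hJth c₁.gen c₁.comm
    intro k₂ hk₂
    apply Cfsg.Agent.Helper49.mem_normalizer_of_conj_le
    intro y hy
    rw [← c₁.gen] at hy
    refine Subgroup.closure_induction (p := fun y _ => k₂ * y * k₂⁻¹ ∈ K₁) ?_ ?_ ?_ ?_ hy
    · rintro d ⟨hd, hdodd⟩
      -- `k₂ d k₂⁻¹ = q d` with `q ∈ Q`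
      have hq := comm_mem_Q h F hJT hTJ hJth hJA c₁ c₂ hW hd hk₂
      set q := k₂ * d * k₂⁻¹ * d⁻¹ with hqdef
      have hx : k₂ * d * k₂⁻¹ = q * d := by rw [hqdef]; group
      have hord : orderOf (k₂ * d * k₂⁻¹) = orderOf d := by
        have : k₂ * d * k₂⁻¹ = MulAut.conj k₂ d := by simp
        rw [this]
        exact orderOf_injective (MulAut.conj k₂).toMonoidHom (MulAut.conj k₂).injective d
      have hodd' : Odd (orderOf (q * d)) := by rw [← hx, hord]; exact hdodd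
      have hq'' : d⁻¹ * q * d⁻¹⁻¹ ∈ Cfsg.pCore 2 L := hQn.conj_mem q hq d⁻¹
      have hx' : q * d = d * (d⁻¹ * q * d⁻¹⁻¹) := by group
      rw [hx, hx']
      rw [hx'] at hodd'
      exact odd_mul_mem h hQK₁ hd hq'' hodd'
    · simp
    · intro x y _ _ hx hy
      have : k₂ * (x * y) * k₂⁻¹ = (k₂ * x * k₂⁻¹) * (k₂ * y * k₂⁻¹) := by group
      rw [this]; exact K₁.mul_mem hx hy
    · intro x _ hx
      have : k₂ * x⁻¹ * k₂⁻¹ = (k₂ * x * k₂⁻¹)⁻¹ := by group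
      rw [this]; exact K₁.inv_mem hx
  · rw [eq_of_inf_ne_bot h F hJT hTJ hJth c₁ c₂ hW]
    exact le_normalizer

end main

section factor

variable {T : Sylow 2 L} (h : Setup T) {Hh N J : Subgroup L} (F : FFData Hh N)
  (hJT : J ≤ (T : Subgroup L)) (hTJ : (T : Subgroup L) ≤ normalizer (J : Set L))
  (hJth : J ≤ Cfsg.thompsonSubgroup 2 L)
  (hJwc : ∀ y : L, (∀ x ∈ J, y * x * y⁻¹ ∈ (T : Subgroup L)) → y ∈ normalizer (J : Set L))
include h F hJT hTJ hJth hJwc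

/-- **Frattini factorization**: `L = N · N_L(J)`. -/
theorem factor (x : L) : ∃ n ∈ N, ∃ m ∈ normalizer (J : Set L), x = n * m := by
  haveI hHn := F.hn
  -- `L = Hh · N_L(T ∩ Hh)`
  have hfr := Cfsg.Agent.Helper11.ZJ.frattini_inf T Hh
  have hx : x ∈ Hh ⊔ normalizer ((((T : Subgroup L) ⊓ Hh : Subgroup L)) : Set L) := by
    rw [sup_comm, hfr]; exact mem_top x
  have hnn : normalizer ((((T : Subgroup L) ⊓ Hh : Subgroup L)) : Set L) ≤
      normalizer ((Hh : Subgroup L) : Set L) := by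
    rw [Subgroup.normalizer_eq_top_iff.mpr hHn]; exact le_top
  obtain ⟨y, hy, m, hm, rfl⟩ := exists_mul_of_mem_sup hnn hx
  -- `Hh = N · (T ∩ Hh)`
  obtain ⟨P, hP⟩ := Cfsg.Agent.Helper11.ZJ.exists_sylow_subgroupOf_normal T Hh
  haveI hNn : (N.subgroupOf Hh).Normal :=
    (normal_subgroupOf_iff_le_normalizer F.NH).mpr F.HnN
  have hpow : ∀ d ∈ (⊤ : Subgroup ↥Hh), ∃ k : ℕ, d ^ 2 ^ k ∈ N.subgroupOf Hh := by
    intro d _
    have ho : orderOf (d : L) ≠ 0 := (orderOf_pos (d : L)).ne'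
    obtain ⟨k, m', hm', hkm⟩ := Nat.exists_eq_two_pow_mul_odd ho
    refine ⟨k, ?_⟩
    rw [mem_subgroupOf]
    have hd : ((d ^ 2 ^ k : ↥Hh) : L) = (d : L) ^ 2 ^ k := by simp
    rw [hd]
    apply F.odd _ (Subgroup.pow_mem _ d.2 _)
    have hdvd : orderOf ((d : L) ^ 2 ^ k) ∣ m' := by
      apply orderOf_dvd_of_pow_eq_one
      rw [← pow_mul, ← hkm]
      exact pow_orderOf_eq_one _
    exact hm'.of_dvd_nat hdvd
  obtain ⟨c, hc, t, ht, hyct⟩ := Cfsg.Agent.Helper11.ZJ.exists_mul_of_pow_mem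
    (N := N.subgroupOf Hh) (D := (⊤ : Subgroup ↥Hh)) inferInstance hpow P ⟨y, hy⟩ (mem_top _)
  rw [hP, mem_subgroupOf] at ht
  rw [mem_subgroupOf] at hc
  have hy' : y = (c : L) * (t : L) := by
    have := congrArg Subtype.val hyct
    simpa using this
  have hJH : J ≤ (T : Subgroup L) ⊓ Hh := le_inf hJT (hJth.trans F.thom)
  have hmJ : m ∈ normalizer (J : Set L) := by
    apply hJwc
    intro a ha
    have := conj_mem_of_le_normalizer (le_refl _) hm (hJH ha)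
    exact (mem_inf.mp this).1
  refine ⟨c, hc, (t : L) * m, Subgroup.mul_mem _ (hTJ ht) hmJ, ?_⟩
  rw [hy']; group

end factor

end Cfsg.Agent.Helper10.JCompNorm
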