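import Mathlib
import Cfsg.Agent.Lib.Helper10.JCompNorm
import Cfsg.Agent.Lib.Helper10.JCompTrU
import Cfsg.Agent.Lib.Helper1.JCA

/-!
# `J(T)`-components in a member of `ℒ(T)`: statements inside `G`

Transport of `JCompNorm`/`JCompUniq` from `↥X` to `G`, for `X ∈ jOvergroups T`.
-/

set_option autoImplicit false

namespace Cfsg.Agent.Helper10.JCompNorm

open Subgroup
open Cfsg.Agent.Helper10.JCompSub Cfsg.Agent.Helper10.JCompUniq Cfsg.Agent.Helper10.JCompTr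
open Cfsg.Agent.Helper50.JComp (conj_mem_of_le_normalizer le_normalizer_of_conj_mem MaxEA
  thompsonTwo_eq)

variable {G : Type*} [Group G] [Finite G]

/-- `J(T)` is weakly closed in `T` -/
theorem mem_normalizer_thompson_of_conj_mem {T : Subgroup G} {g : G}
    (hg : ∀ x ∈ Cfsg.thompsonSubgroupOf 2 T, g * x * g⁻¹ ∈ T) :
    g ∈ normalizer (Cfsg.thompsonSubgroupOf 2 T : Set G) := by
  apply Cfsg.Agent.Helper49.mem_normalizer_of_conj_le
  have hle : Cfsg.thompsonSubgroupOf 2 T ≤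
      (Cfsg.thompsonSubgroupOf 2 T).comap (MulAut.conj g).toMonoidHom := by
    conv_lhs => rw [thompsonTwo_eq]
    apply sSup_le
    intro A hA
    rw [← Subgroup.map_le_iff_le_comap]
    have hAJ : A ≤ Cfsg.thompsonSubgroupOf 2 T := hA.le_thompson
    have hmax := Cfsg.Agent.Helper1.JC.maxEA_map (MulAut.conj g) hA
    have hAT : A.map (MulAut.conj g).toMonoidHom ≤ T := by
      rintro _ ⟨a, ha, rfl⟩
      simpa using hg a (hAJ ha)
    have : MaxEA T (A.map (MulAut.conj g).toMonoidHom) := by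
      refine ⟨hAT, hmax.2.1, hmax.2.2.1, ?_⟩
      intro B hB hB2 hBc
      rw [Subgroup.card_map_of_injective (MulAut.conj g).injective]
      exact hA.2.2.2 B hB hB2 hBc
    exact this.le_thompson
  intro y hy
  have := hle hy
  rw [mem_comap] at this
  simpa using this

variable (hN : ∀ N : Subgroup G, Cfsg.IsTwoLocal N → Group.IsSolvable ↥N)
  (hZ : ∀ S : Sylow 2 G, Subgroup.centralizer (Cfsg.omegaCenterOf (S : Subgroup G) : Set G) ≤
    Subgroup.normalizer ((S : Subgroup G) : Set G))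
  {T X : Subgroup G} (hT1 : T ≠ ⊥) (hXT : X ∈ Cfsg.jOvergroups T)
include hN hZ hT1 hXT

/-- **(L1w)** a `J(T)`-component of `X` normalizes the four-group of every other one -/
theorem comp_normalizes_wOf {K1 K2 : Subgroup G} (h1 : Cfsg.IsJComponent T K1) (h1X : K1 ≤ X)
    (h2 : Cfsg.IsJComponent T K2) (h2X : K2 ≤ X) :
    K1 ≤ normalizer (Cfsg.wOf K2 : Set G) := by
  have hT : IsPGroup 2 ↥T := hXT.1.2.1
  obtain ⟨TL, hTLeq, hS⟩ := exists_setup hN hZ hT1 hXT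
  obtain ⟨hJ1, hJ2, hJ3⟩ := thompson_props hXT.1 TL hTLeq
  obtain ⟨Hh, N, F⟩ := hS.ffdata
  have hJX : Cfsg.thompsonSubgroupOf 2 T ≤ X :=
    (Cfsg.Agent.Helper1.JC.thompson_le T).trans hXT.1.1
  have c1 := comp_of_isJComponent hT h1 h1X hJX
  have c2 := comp_of_isJComponent hT h2 h2X hJX
  have hKW := K_normalizes_W hS F hJ1 hJ2 hJ3 c1 c2
  have hW2K : Cfsg.wOf K2 ≤ K2 := (Cfsg.Agent.Helper50.JComp.JD.of_isJComponent h2 hT).WK
  intro k hk
  apply Cfsg.Agent.Helper49.mem_normalizer_of_conj_le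
  intro w hw
  have hwX : w ∈ X := h2X (hW2K hw)
  have hk' : (⟨k, h1X hk⟩ : ↥X) ∈ K1.subgroupOf X := mem_subgroupOf.mpr hk
  have hw' : (⟨w, hwX⟩ : ↥X) ∈ (Cfsg.wOf K2).subgroupOf X := mem_subgroupOf.mpr hw
  have := conj_mem_of_le_normalizer hKW hk' hw'
  rw [mem_subgroupOf] at this
  simpa using this

/-- **(L2)** Frattini factorization of `X` -/
theorem exists_factor : ∃ N0 : Subgroup G, N0 ≤ X ∧
    (∀ x ∈ X, ∃ n ∈ N0, ∃ m ∈ X ⊓ normalizer (Cfsg.thompsonSubgroupOf 2 T : Set G), x = n * m) ∧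
    ∀ K' : Subgroup G, Cfsg.IsJComponent T K' → K' ≤ X →
      N0 ≤ normalizer (Cfsg.wOf K' : Set G) := by
  have hT : IsPGroup 2 ↥T := hXT.1.2.1
  obtain ⟨TL, hTLeq, hS⟩ := exists_setup hN hZ hT1 hXT
  obtain ⟨hJ1, hJ2, hJ3⟩ := thompson_props hXT.1 TL hTLeq
  obtain ⟨Hh, N, F⟩ := hS.ffdata
  have hTX : T ≤ X := hXT.1.1
  have hJX : Cfsg.thompsonSubgroupOf 2 T ≤ X :=
    (Cfsg.Agent.Helper1.JC.thompson_le T).trans hTX
  have hJwc : ∀ y : ↥X, (∀ x ∈ (Cfsg.thompsonSubgroupOf 2 T).subgroupOf X,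
      y * x * y⁻¹ ∈ (TL : Subgroup ↥X)) →
      y ∈ normalizer (((Cfsg.thompsonSubgroupOf 2 T).subgroupOf X : Subgroup ↥X) : Set ↥X) := by
    intro y hy
    have hyG : (y : G) ∈ normalizer (Cfsg.thompsonSubgroupOf 2 T : Set G) := by
      apply mem_normalizer_thompson_of_conj_mem
      intro a ha
      have := hy ⟨a, hJX ha⟩ (mem_subgroupOf.mpr ha)
      rw [hTLeq, mem_subgroupOf] at this
      simpa using this
    apply Cfsg.Agent.Helper49.mem_normalizer_of_conj_le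
    intro a ha
    rw [mem_subgroupOf] at ha ⊢
    have := conj_mem_of_le_normalizer (le_refl _) hyG ha
    simpa using this
  refine ⟨N.map X.subtype, Subgroup.map_subtype_le _, ?_, ?_⟩
  · intro x hx
    obtain ⟨n, hn, m, hm, hxnm⟩ := factor hS F hJ1 hJ2 hJ3 hJwc ⟨x, hx⟩
    refine ⟨(n : G), Subgroup.mem_map_of_mem X.subtype hn, (m : G), mem_inf.mpr ⟨m.2, ?_⟩, ?_⟩
    · apply Cfsg.Agent.Helper49.mem_normalizer_of_conj_le
      intro a ha
      have ha' : (⟨a, hJX ha⟩ : ↥X) ∈ (Cfsg.thompsonSubgroupOf 2 T).subgroupOf X :=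
        mem_subgroupOf.mpr ha
      have := conj_mem_of_le_normalizer (le_refl _) hm ha'
      rw [mem_subgroupOf] at this
      simpa using this
    · have := congrArg Subtype.val hxnm
      simpa using this
  · intro K' hK' hK'X
    have c := comp_of_isJComponent hT hK' hK'X hJX
    have hNW := N_normalizes_W hS F hJ1 hJ2 hJ3 c
    have hWK : Cfsg.wOf K' ≤ K' := (Cfsg.Agent.Helper50.JComp.JD.of_isJComponent hK' hT).WK
    rintro _ ⟨n, hn, rfl⟩
    apply Cfsg.Agent.Helper49.mem_normalizer_of_conj_le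
    intro w hw
    have hwX : w ∈ X := hK'X (hWK hw)
    have hw' : (⟨w, hwX⟩ : ↥X) ∈ (Cfsg.wOf K').subgroupOf X := mem_subgroupOf.mpr hw
    have := conj_mem_of_le_normalizer hNW hn hw'
    rw [mem_subgroupOf] at this
    simpa using this

/-- **(L3)** the four-group of a `J(T)`-component of `X` lies in `O₂(X)` -/
theorem wOf_le_pCoreOf {K' : Subgroup G} (hK' : Cfsg.IsJComponent T K') (hK'X : K' ≤ X) :
    Cfsg.wOf K' ≤ Cfsg.pCoreOf 2 X := by
  have hT : IsPGroup 2 ↥T := hXT.1.2.1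
  obtain ⟨TL, hTLeq, hS⟩ := exists_setup hN hZ hT1 hXT
  obtain ⟨hJ1, hJ2, hJ3⟩ := thompson_props hXT.1 TL hTLeq
  obtain ⟨Hh, N, F⟩ := hS.ffdata
  have hJX : Cfsg.thompsonSubgroupOf 2 T ≤ X :=
    (Cfsg.Agent.Helper1.JC.thompson_le T).trans hXT.1.1
  have c := comp_of_isJComponent hT hK' hK'X hJX
  have hWV := W_le_V hS F hJ1 hJ2 hJ3 c
  have hVQ := (V_props hS).1
  have hWK : Cfsg.wOf K' ≤ K' := (Cfsg.Agent.Helper50.JComp.JD.of_isJComponent hK' hT).WK
  intro w hw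
  have hwX : w ∈ X := hK'X (hWK hw)
  have hw' : (⟨w, hwX⟩ : ↥X) ∈ (Cfsg.wOf K').subgroupOf X := mem_subgroupOf.mpr hw
  exact ⟨⟨w, hwX⟩, hVQ (hWV hw'), rfl⟩

end Cfsg.Agent.Helper10.JCompNorm
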