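import Mathlib

/-!
# JPC (T13c2) for helper35's S4150 server: `isThreeCycle_pow_forty`
-/

set_option autoImplicit false

namespace Cfsg.Agent.Helper10.JPC

open Equiv Equiv.Perm MulAction Subgroup

universe u

section aux

variable {Ω : Type u} [Fintype Ω] [DecidableEq Ω]

omit [Fintype Ω] [DecidableEq Ω] in
theorem h10_inv_apply (g : Perm Ω) (x : Ω) : g⁻¹ (g x) = x := by
  rw [← Perm.mul_apply, inv_mul_cancel, Perm.one_apply]

omit [Fintype Ω] [DecidableEq Ω] in
theorem h10_apply_inv (g : Perm Ω) (x : Ω) : g (g⁻¹ x) = x := by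
  rw [← Perm.mul_apply, mul_inv_cancel, Perm.one_apply]

omit [Fintype Ω] [DecidableEq Ω] in
/-- membership in the orbit of a subgroup of `Perm Ω` -/
theorem h10_mem_orbit_iff (H : Subgroup (Perm Ω)) (x y : Ω) :
    y ∈ orbit H x ↔ ∃ r ∈ H, r x = y := by
  constructor
  · rintro ⟨r, rfl⟩
    exact ⟨r.1, r.2, rfl⟩
  · rintro ⟨r, hr, rfl⟩
    exact ⟨⟨r, hr⟩, rfl⟩

theorem h10_orbit_ncard_pow (H : Subgroup (Perm Ω)) (hH : IsPGroup 5 H) (x : Ω) :
    ∃ j : ℕ, (orbit H x).ncard = 5 ^ j := by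
  have : Fact (Nat.Prime 5) := ⟨by norm_num⟩
  obtain ⟨n, hn⟩ := hH.card_orbit x
  exact ⟨n, by rw [← hn, _root_.Nat.card_coe_set_eq]⟩

theorem h10_fixed_of_small (H : Subgroup (Perm Ω)) (hH : IsPGroup 5 H) (x : Ω) (T : Set Ω)
    (hT : orbit H x ⊆ T) (hc : T.ncard < 5) : ∀ h ∈ H, h x = x := by
  obtain ⟨j, hj⟩ := h10_orbit_ncard_pow H hH x
  have hle : (orbit H x).ncard ≤ T.ncard := Set.ncard_le_ncard hT (Set.toFinite T)
  have hj0 : j = 0 := by
    by_contra h
    have : 5 ^ 1 ≤ 5 ^ j := Nat.pow_le_pow_right (by norm_num) (Nat.one_le_iff_ne_zero.mpr h)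
    omega
  rw [hj0, pow_zero, Set.ncard_eq_one] at hj
  obtain ⟨w, hw⟩ := hj
  intro h hh
  have h1 : x ∈ orbit H x := mem_orbit_self x
  have h2 : h x ∈ orbit H x := (h10_mem_orbit_iff H x (h x)).mpr ⟨h, hh, rfl⟩
  rw [hw, Set.mem_singleton_iff] at h1 h2
  rw [h2, h1]

theorem h10_orbit_five (H : Subgroup (Perm Ω)) (hH : IsPGroup 5 H) (x : Ω) (T : Set Ω)
    (hT : orbit H x ⊆ T) (hc : T.ncard < 25) (h : ∃ h ∈ H, h x ≠ x) :
    (orbit H x).ncard = 5 := by
  obtain ⟨j, hj⟩ := h10_orbit_ncard_pow H hH x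
  have hle := Set.ncard_le_ncard hT (Set.toFinite T)
  have hj0 : j ≠ 0 := by
    rintro rfl
    rw [pow_zero, Set.ncard_eq_one] at hj
    obtain ⟨w, hw⟩ := hj
    obtain ⟨g, hg, hgx⟩ := h
    have h1 : x ∈ orbit H x := mem_orbit_self x
    have h2 : g x ∈ orbit H x := (h10_mem_orbit_iff H x (g x)).mpr ⟨g, hg, rfl⟩
    rw [hw, Set.mem_singleton_iff] at h1 h2
    exact hgx (by rw [h2, h1])
  have hj2 : j < 2 := by
    by_contra hcon
    push Not at hcon
    have : 5 ^ 2 ≤ 5 ^ j := Nat.pow_le_pow_right (by norm_num) hcon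
    omega
  have : j = 1 := by omega
  rw [hj, this, pow_one]

/-- an element of a `5`-group of permutations with support of size `10` has order dividing `5` -/
theorem h10_pow_five (R : Subgroup (Perm Ω)) (hR : IsPGroup 5 R) {f : Perm Ω} (hfR : f ∈ R)
    (hf10 : f.support.card = 10) : f ^ 5 = 1 := by
  have : Fact (Nat.Prime 5) := ⟨by norm_num⟩
  obtain ⟨k, hk⟩ := (IsPGroup.iff_orderOf.mp hR) ⟨f, hfR⟩
  have hk' : orderOf f = 5 ^ k := by rw [← hk]; exact (Subgroup.orderOf_mk f hfR).symm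
  have hdvd : orderOf f ∣ 5 := by
    rw [← lcm_cycleType]
    apply Multiset.lcm_dvd.mpr
    intro n hn
    have h2 := two_le_of_mem_cycleType hn
    have hd := dvd_of_mem_cycleType hn
    have hle := le_card_support_of_mem_cycleType hn
    rw [hk'] at hd
    obtain ⟨j, hj, rfl⟩ := (Nat.dvd_prime_pow (by norm_num : Nat.Prime 5)).mp hd
    have : j = 1 := by
      rcases j with _ | _ | j
      · simp at h2
      · rfl
      · exfalso
        have : 5 ^ 2 ≤ 5 ^ (j + 1 + 1) := Nat.pow_le_pow_right (by norm_num) (by omega)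
        omega
    rw [this, pow_one]
  exact orderOf_dvd_iff_pow_eq_one.mp hdvd

/-- the key: `a ^ 40` is trivial on the support of `f` -/
theorem h10_pow_forty_fix (R : Subgroup (Perm Ω)) (hR : IsPGroup 5 R) {f : Perm Ω}
    (hfR : f ∈ R) (hf10 : f.support.card = 10)
    (hRfix : ∀ r ∈ R, ∀ t, t ∉ f.support → r t = t)
    {a : Perm Ω} (ha : ∀ r, a * r * a⁻¹ ∈ R ↔ r ∈ R)
    (haX : ∀ x ∈ f.support, a x ∈ f.support) :
    ∀ x ∈ f.support, (a ^ 40) x = x := by
  classical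
  have hf5 : f ^ 5 = 1 := h10_pow_five R hR hfR hf10
  -- R preserves the support
  have hRX : ∀ r ∈ R, ∀ x ∈ f.support, r x ∈ f.support := by
    intro r hr x hx
    by_contra hcon
    have h1 := hRfix r hr (r x) hcon
    have h2 : r x = x := r.injective h1
    rw [h2] at hcon; exact hcon hx
  have hOX : ∀ x ∈ f.support, orbit R x ⊆ (↑f.support : Set Ω) := by
    intro x hx y hy
    obtain ⟨r, hr, rfl⟩ := (h10_mem_orbit_iff R x y).mp hy
    exact hRX r hr x hx
  have hXc : (↑f.support : Set Ω).ncard = 10 := by rw [Set.ncard_coe_finset, hf10]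
  have hOrbR5 : ∀ x ∈ f.support, (orbit R x).ncard = 5 := by
    intro x hx
    exact h10_orbit_five R hR x _ (hOX x hx) (by rw [hXc]; norm_num)
      ⟨f, hfR, Perm.mem_support.mp hx⟩
  have hfz : zpowers f ≤ R := zpowers_le.mpr hfR
  have hOF : ∀ x : Ω, orbit (zpowers f) x ⊆ orbit R x := by
    intro x y hy
    obtain ⟨g, hg, rfl⟩ := (h10_mem_orbit_iff _ x y).mp hy
    exact (h10_mem_orbit_iff R x _).mpr ⟨g, hfz hg, rfl⟩
  have hOrbF5 : ∀ x ∈ f.support, (orbit (zpowers f) x).ncard = 5 := by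
    intro x hx
    exact h10_orbit_five (zpowers f) (hR.to_le hfz) x _ ((hOF x).trans (hOX x hx))
      (by rw [hXc]; norm_num) ⟨f, mem_zpowers f, Perm.mem_support.mp hx⟩
  have hOeq : ∀ x ∈ f.support, orbit (zpowers f) x = orbit R x := by
    intro x hx
    exact Set.eq_of_subset_of_ncard_le (hOF x) (by rw [hOrbR5 x hx, hOrbF5 x hx])
  -- (A) elements of the orbit are f-powers
  have hA : ∀ x ∈ f.support, ∀ y ∈ orbit R x, ∃ k : ℕ, y = (f ^ k) x := by
    intro x hx y hy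
    rw [← hOeq x hx] at hy
    obtain ⟨g, hg, rfl⟩ := (h10_mem_orbit_iff _ x y).mp hy
    have hg' : g ∈ Submonoid.powers f :=
      (isOfFinOrder_of_finite f).mem_powers_iff_mem_zpowers.mpr hg
    obtain ⟨k, rfl⟩ := (Submonoid.mem_powers_iff _ _).mp hg'
    exact ⟨k, rfl⟩
  have hmemO : ∀ r ∈ R, ∀ x y : Ω, y ∈ orbit R x → r y ∈ orbit R x := by
    intro r hr x y hy
    obtain ⟨s, hs, rfl⟩ := (h10_mem_orbit_iff R x y).mp hy
    exact (h10_mem_orbit_iff R x _).mpr ⟨r * s, mul_mem hr hs, rfl⟩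
  -- (C) every r ∈ R acts as a power of f on each orbit
  have hC : ∀ r ∈ R, ∀ x₀ ∈ f.support, ∃ k : ℕ, ∀ y ∈ orbit R x₀, r y = (f ^ k) y := by
    intro r hr x₀ hx₀
    obtain ⟨k, hk⟩ := hA x₀ hx₀ (r x₀) ((h10_mem_orbit_iff R x₀ _).mpr ⟨r, hr, rfl⟩)
    refine ⟨k, ?_⟩
    obtain ⟨r', hr'⟩ : ∃ r', r' = (f ^ k)⁻¹ * r := ⟨_, rfl⟩
    have hr'R : r' ∈ R := by rw [hr']; exact mul_mem (inv_mem (pow_mem hfR k)) hr
    have hr'x : r' x₀ = x₀ := by
      rw [hr', Perm.mul_apply, hk, h10_inv_apply]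
    have hrr' : ∀ y, r y = (f ^ k) (r' y) := by
      intro y
      rw [hr', Perm.mul_apply, h10_apply_inv]
    intro y hy
    by_cases hyx : y = x₀
    · rw [hyx]; exact hk
    · have hfix : ∀ h ∈ zpowers r', h y = y := by
        apply h10_fixed_of_small (zpowers r') (hR.to_le (zpowers_le.mpr hr'R)) y
          (orbit R x₀ \ {x₀})
        · intro z hz
          obtain ⟨h, hh, rfl⟩ := (h10_mem_orbit_iff _ _ _).mp hz
          constructor
          · exact hmemO h (zpowers_le.mpr hr'R hh) x₀ y hy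
          · intro hzx
            rw [Set.mem_singleton_iff] at hzx
            have hhx : h x₀ = x₀ := by
              obtain ⟨i, rfl⟩ := mem_zpowers_iff.mp hh
              exact zpow_apply_eq_self_of_apply_eq_self hr'x i
            apply hyx
            apply h.injective
            rw [hzx, hhx]
        · rw [Set.ncard_sdiff_singleton_of_mem (mem_orbit_self x₀), hOrbR5 x₀ hx₀]
          norm_num
      rw [hrr' y, hfix r' (mem_zpowers r')]
  -- (D) two orbits
  have hD : ∀ x ∈ f.support, ∀ y ∈ f.support, ∀ z ∈ f.support,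
      y ∉ orbit R x → z ∉ orbit R x → z ∈ orbit R y := by
    intro x hx y hy z hz hyx hzx
    have hsub : orbit R y ⊆ (↑f.support : Set Ω) \ orbit R x := by
      intro w hw
      refine ⟨hOX y hy hw, fun hwx => hyx ?_⟩
      have e1 : orbit R w = orbit R y := orbit_eq_iff.mpr hw
      have e2 : orbit R w = orbit R x := orbit_eq_iff.mpr hwx
      rw [← e2, e1]
      exact mem_orbit_self y
    have hcard : ((↑f.support : Set Ω) \ orbit R x).ncard = 5 := by
      have := Set.ncard_sdiff_add_ncard_of_subset (hOX x hx)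
      rw [hXc, hOrbR5 x hx] at this
      omega
    have heq := Set.eq_of_subset_of_ncard_le hsub (by rw [hcard, hOrbR5 y hy])
    rw [heq]
    exact ⟨hz, hzx⟩
  -- (E) a maps orbits to orbits
  have hE : ∀ x y : Ω, a y ∈ orbit R (a x) ↔ y ∈ orbit R x := by
    intro x y
    constructor
    · intro h
      obtain ⟨r, hr, hrx⟩ := (h10_mem_orbit_iff R _ _).mp h
      have hr' : a⁻¹ * r * a ∈ R := by
        rw [← ha]
        have : a * (a⁻¹ * r * a) * a⁻¹ = r := by group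
        rw [this]; exact hr
      refine (h10_mem_orbit_iff R _ _).mpr ⟨a⁻¹ * r * a, hr', ?_⟩
      rw [Perm.mul_apply, Perm.mul_apply, hrx, h10_inv_apply]
    · intro h
      obtain ⟨r, hr, rfl⟩ := (h10_mem_orbit_iff R _ _).mp h
      refine (h10_mem_orbit_iff R _ _).mpr ⟨a * r * a⁻¹, (ha r).mpr hr, ?_⟩
      rw [Perm.mul_apply, Perm.mul_apply, h10_inv_apply]
  -- (F) b = a * a preserves each orbit
  obtain ⟨b, hb⟩ : ∃ b, b = a * a := ⟨_, rfl⟩
  have hbX : ∀ x ∈ f.support, b x ∈ f.support := by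
    intro x hx
    rw [hb, Perm.mul_apply]
    exact haX _ (haX x hx)
  have hF : ∀ x ∈ f.support, b x ∈ orbit R x := by
    intro x hx
    rw [hb, Perm.mul_apply]
    by_cases h1 : a x ∈ orbit R x
    · have e : orbit R (a x) = orbit R x := orbit_eq_iff.mpr h1
      rw [← e, hE]
      exact h1
    · have h2 : a (a x) ∉ orbit R (a x) := by rw [hE]; exact h1
      by_contra h3
      exact h2 (hD x hx (a x) (haX x hx) (a (a x)) (haX _ (haX x hx)) h1 h3)
  have hbO : ∀ x ∈ f.support, ∀ z ∈ orbit R x, b z ∈ orbit R x := by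
    intro x hx z hz
    have e : orbit R z = orbit R x := orbit_eq_iff.mpr hz
    rw [← e]
    exact hF z (hOX x hx hz)
  have hbR : ∀ r, r ∈ R → b * r * b⁻¹ ∈ R := by
    intro r hr
    have : b * r * b⁻¹ = a * (a * r * a⁻¹) * a⁻¹ := by rw [hb]; group
    rw [this]
    exact (ha _).mpr ((ha r).mpr hr)
  have hfO : ∀ x : Ω, ∀ z ∈ orbit R x, ∀ j : ℕ, (f ^ j) z ∈ orbit R x := by
    intro x z hz j
    exact hmemO (f ^ j) (pow_mem hfR j) x z hz
  have hbpO : ∀ x ∈ f.support, ∀ m : ℕ, ∀ z ∈ orbit R x, (b ^ m) z ∈ orbit R x := by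
    intro x hx m
    induction m with
    | zero => intro z hz; simpa using hz
    | succ m ih =>
      intro z hz
      rw [pow_succ' b m, Perm.mul_apply]
      exact hbO x hx _ (ih z hz)
  -- now fix an orbit
  intro x₀ hx₀
  -- (G)
  obtain ⟨k, hk⟩ := hC (b * f * b⁻¹) (hbR f hfR) x₀ hx₀
  have hG : ∀ z ∈ orbit R x₀, b (f z) = (f ^ k) (b z) := by
    intro z hz
    have := hk (b z) (hbO x₀ hx₀ z hz)
    rw [Perm.mul_apply, Perm.mul_apply, h10_inv_apply] at this
    exact this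
  have hG' : ∀ j : ℕ, ∀ w ∈ orbit R x₀, b ((f ^ j) w) = (f ^ (k * j)) (b w) := by
    intro j
    induction j with
    | zero => intro w _; simp
    | succ j ih =>
      intro w hw
      rw [pow_succ' f j, Perm.mul_apply, hG _ (hfO x₀ w hw j), ih w hw, ← Perm.mul_apply, ← pow_add]
      congr 2
      ring
  have hH : ∀ m : ℕ, ∀ z ∈ orbit R x₀, (b ^ m) (f z) = (f ^ (k ^ m)) ((b ^ m) z) := by
    intro m
    induction m with
    | zero => intro z _; simp
    | succ m ih =>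
      intro z hz
      rw [pow_succ' b m, Perm.mul_apply, ih z hz, hG' _ _ (hbpO x₀ hx₀ m z hz), Perm.mul_apply]
      congr 2
      ring
  -- 5 ∤ k
  have hk5 : ¬ 5 ∣ k := by
    rintro ⟨q, rfl⟩
    have h1 := hG x₀ (mem_orbit_self x₀)
    rw [pow_mul, hf5, one_pow, Perm.one_apply] at h1
    have h2 : f x₀ = x₀ := b.injective h1
    exact (Perm.mem_support.mp hx₀) h2
  have hk4 : k ^ 4 % 5 = 1 := by
    have h5 : k % 5 = 1 ∨ k % 5 = 2 ∨ k % 5 = 3 ∨ k % 5 = 4 := by omega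
    rcases h5 with h | h | h | h <;> simp [Nat.pow_mod, h]
  have hfk4 : f ^ (k ^ 4) = f := by
    conv_lhs => rw [← Nat.div_add_mod (k ^ 4) 5, hk4, pow_add, pow_mul, hf5, one_pow, one_mul, pow_one]
  -- c = b^4 commutes with f on the orbit
  have hcf : ∀ z ∈ orbit R x₀, (b ^ 4) (f z) = f ((b ^ 4) z) := by
    intro z hz
    rw [hH 4 z hz, hfk4]
  have hcfj : ∀ j : ℕ, ∀ z ∈ orbit R x₀, (b ^ 4) ((f ^ j) z) = (f ^ j) ((b ^ 4) z) := by
    intro j
    induction j with
    | zero => intro z _; simp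
    | succ j ih =>
      intro z hz
      rw [pow_succ' f j, Perm.mul_apply, hcf _ (hfO x₀ z hz j), ih z hz, Perm.mul_apply]
  obtain ⟨m, hm⟩ := hA x₀ hx₀ ((b ^ 4) x₀) (hbpO x₀ hx₀ 4 x₀ (mem_orbit_self x₀))
  have hcm : ∀ z ∈ orbit R x₀, (b ^ 4) z = (f ^ m) z := by
    intro z hz
    obtain ⟨j, rfl⟩ := hA x₀ hx₀ z hz
    rw [hcfj j x₀ (mem_orbit_self x₀), hm, ← Perm.mul_apply, ← Perm.mul_apply, ← pow_add, ← pow_add,
      add_comm]
  have hcmi : ∀ i : ℕ, ∀ z ∈ orbit R x₀, ((b ^ 4) ^ i) z = (f ^ (m * i)) z := by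
    intro i
    induction i with
    | zero => intro z _; simp
    | succ i ih =>
      intro z hz
      rw [pow_succ' (b ^ 4) i, Perm.mul_apply, ih z hz, hcm _ (hfO x₀ z hz _), ← Perm.mul_apply, ← pow_add]
      congr 2
      ring
  have h40 : a ^ 40 = (b ^ 4) ^ 5 := by
    rw [hb, ← pow_two, ← pow_mul, ← pow_mul]
  rw [h40, hcmi 5 x₀ (mem_orbit_self x₀), mul_comm, pow_mul, hf5, one_pow, Perm.one_apply]

end aux

/-- **(T13c2)** -/
theorem isThreeCycle_pow_forty {Ω : Type u} [Fintype Ω] [DecidableEq Ω]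
    (hcard : Fintype.card Ω = 13) (R : Subgroup (Perm Ω)) (hR : IsPGroup 5 R) {f : Perm Ω}
    (hfR : f ∈ R) (hf10 : f.support.card = 10)
    (hRfix : ∀ r ∈ R, ∀ t, t ∉ f.support → r t = t)
    {a : Perm Ω} (ha : ∀ r, a * r * a⁻¹ ∈ R ↔ r ∈ R)
    {t₁ t₂ t₃ : Ω} (h1 : t₁ ∉ f.support) (h2 : t₂ ∉ f.support) (h3 : t₃ ∉ f.support)
    (h12 : t₁ ≠ t₂) (h23 : t₂ ≠ t₃) (h13 : t₁ ≠ t₃)
    (ha1 : a t₁ = t₂) (ha2 : a t₂ = t₃) (ha3 : a t₃ = t₁) :
    (a ^ 40).IsThreeCycle := by
  classical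
  -- the complement of the support is {t₁, t₂, t₃}
  have hcompl : ∀ y, y ∉ f.support → y = t₁ ∨ y = t₂ ∨ y = t₃ := by
    intro y hy
    have hsub : ({t₁, t₂, t₃} : Finset Ω) ⊆ f.supportᶜ := by
      intro w hw
      simp only [Finset.mem_insert, Finset.mem_singleton] at hw
      rw [Finset.mem_compl]
      rcases hw with rfl | rfl | rfl
      · exact h1
      · exact h2
      · exact h3
    have hc3 : ({t₁, t₂, t₃} : Finset Ω).card = 3 := by
      rw [Finset.card_insert_of_notMem, Finset.card_insert_of_notMem, Finset.card_singleton]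
      · simpa using h23
      · simp only [Finset.mem_insert, Finset.mem_singleton, not_or]
        exact ⟨h12, h13⟩
    have hcc : f.supportᶜ.card = 3 := by rw [Finset.card_compl, hcard, hf10]
    have heq := Finset.eq_of_subset_of_card_le hsub (by rw [hcc, hc3])
    have hy' : y ∈ f.supportᶜ := by rw [Finset.mem_compl]; exact hy
    rw [← heq] at hy'
    simpa using hy'
  have haX : ∀ x ∈ f.support, a x ∈ f.support := by
    intro x hx
    by_contra hcon
    rcases hcompl (a x) hcon with h | h | h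
    · rw [← ha3] at h
      exact h3 (a.injective h ▸ hx)
    · rw [← ha1] at h
      exact h1 (a.injective h ▸ hx)
    · rw [← ha2] at h
      exact h2 (a.injective h ▸ hx)
  have hfix := h10_pow_forty_fix R hR hfR hf10 hRfix ha haX
  -- a^3 fixes the t's
  have h3t : ∀ t, (t = t₁ ∨ t = t₂ ∨ t = t₃) → (a ^ 3) t = t := by
    intro t ht
    have e : (a ^ 3) t = a (a (a t)) := by
      rw [pow_succ, pow_succ, pow_one, Perm.mul_apply, Perm.mul_apply]
    rcases ht with rfl | rfl | rfl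
    · rw [e, ha1, ha2, ha3]
    · rw [e, ha2, ha3, ha1]
    · rw [e, ha3, ha1, ha2]
  have h39 : ∀ t, (t = t₁ ∨ t = t₂ ∨ t = t₃) → (a ^ 40) t = a t := by
    intro t ht
    have e : a ^ 40 = a * (a ^ 3) ^ 13 := by
      rw [← pow_mul, ← pow_succ']
    rw [e, Perm.mul_apply, pow_apply_eq_self_of_apply_eq_self (h3t t ht)]
  have hkey : a ^ 40 = swap t₃ t₂ * swap t₃ t₁ := by
    ext y
    rw [Perm.mul_apply]
    by_cases hy : y ∈ f.support
    · rw [hfix y hy]
      have hy1 : y ≠ t₁ := fun h => h1 (h ▸ hy)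
      have hy2 : y ≠ t₂ := fun h => h2 (h ▸ hy)
      have hy3 : y ≠ t₃ := fun h => h3 (h ▸ hy)
      rw [swap_apply_of_ne_of_ne hy3 hy1, swap_apply_of_ne_of_ne hy3 hy2]
    · rcases hcompl y hy with rfl | rfl | rfl
      · rw [h39 _ (Or.inl rfl), ha1, swap_apply_right, swap_apply_left]
      · rw [h39 _ (Or.inr (Or.inl rfl)), ha2, swap_apply_of_ne_of_ne h23 h12.symm,
          swap_apply_right]
      · rw [h39 _ (Or.inr (Or.inr rfl)), ha3, swap_apply_left,
          swap_apply_of_ne_of_ne h13 h12]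
  rw [hkey]
  exact isThreeCycle_swap_mul_swap_same h23.symm h13.symm h12.symm

end Cfsg.Agent.Helper10.JPC
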