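import Mathlib

set_option autoImplicit false

namespace Cfsg.Agent.Helper10

variable {G : Type*} [Group G]

/-- `N` is a minimal normal subgroup of `G`. -/
def IsMinNormal (N : Subgroup G) : Prop :=
  N.Normal ∧ N ≠ ⊥ ∧ ∀ K : Subgroup G, K.Normal → K ≤ N → K = ⊥ ∨ K = N

/-- Every nontrivial normal subgroup of a finite group contains a minimal normal subgroup. -/
lemma exists_isMinNormal_le [Finite G] (L : Subgroup G) [hL : L.Normal] (hne : L ≠ ⊥) :
    ∃ N : Subgroup G, IsMinNormal N ∧ N ≤ L := by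
  classical
  have hfin : Set.Finite {K : Subgroup G | K.Normal ∧ K ≠ ⊥ ∧ K ≤ L} := Set.toFinite _
  have hnonempty : {K : Subgroup G | K.Normal ∧ K ≠ ⊥ ∧ K ≤ L}.Nonempty := ⟨L, hL, hne, le_rfl⟩
  obtain ⟨N, hN, hmin⟩ := Set.exists_min_image _ (fun K : Subgroup G => Nat.card K) hfin hnonempty
  obtain ⟨hNn, hNne, hNL⟩ := hN
  refine ⟨N, ⟨hNn, hNne, ?_⟩, hNL⟩
  intro K hK hKN
  by_cases hK0 : K = ⊥
  · exact Or.inl hK0
  · right
    have := hmin K ⟨hK, hK0, hKN.trans hNL⟩
    exact Subgroup.eq_of_le_of_card_ge hKN this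

lemma exists_isMinNormal [Finite G] [Nontrivial G] : ∃ N : Subgroup G, IsMinNormal N := by
  obtain ⟨N, hN, _⟩ := exists_isMinNormal_le (⊤ : Subgroup G) top_ne_bot
  exact ⟨N, hN⟩

/-- A minimal normal subgroup of a solvable group is abelian. -/
lemma IsMinNormal.isMulCommutative [Group.IsSolvable G] {N : Subgroup G} (hN : IsMinNormal N) :
    IsMulCommutative N := by
  obtain ⟨hNn, hNne, hmin⟩ := hN
  have hlt := Group.IsSolvable.commutator_lt_of_ne_bot hNne
  rcases hmin ⁅N, N⁆ inferInstance hlt.le with h | h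
  · exact Subgroup.commutator_self_eq_bot_iff.mp h
  · exact absurd h hlt.ne

/-- A minimal normal subgroup of a finite solvable group has prime exponent. -/
lemma IsMinNormal.exists_prime_pow_eq_one [Finite G] [Group.IsSolvable G] {N : Subgroup G}
    (hN : IsMinNormal N) : ∃ p : ℕ, p.Prime ∧ p ∣ Nat.card N ∧ ∀ x ∈ N, x ^ p = 1 := by
  have hab := hN.isMulCommutative
  obtain ⟨hNn, hNne, hmin⟩ := hN
  have hcard : Nat.card N ≠ 1 := by
    intro h1
    exact hNne (Subgroup.card_eq_one.mp h1)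
  obtain ⟨p, hp, hpd⟩ := Nat.exists_prime_and_dvd hcard
  refine ⟨p, hp, hpd, ?_⟩
  haveI : Fact p.Prime := ⟨hp⟩
  -- the subgroup of elements of N of order dividing p
  let Ω : Subgroup G :=
    { carrier := {x | x ∈ N ∧ x ^ p = 1}
      mul_mem' := by
        rintro a b ⟨ha, hap⟩ ⟨hb, hbp⟩
        refine ⟨N.mul_mem ha hb, ?_⟩
        have : Commute a b := setLike_mul_comm ha hb
        rw [this.mul_pow, hap, hbp, one_mul]
      one_mem' := ⟨N.one_mem, one_pow p⟩
      inv_mem' := by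
        rintro a ⟨ha, hap⟩
        exact ⟨N.inv_mem ha, by rw [inv_pow, hap, inv_one]⟩ }
  have hΩn : Ω.Normal := by
    constructor
    rintro x ⟨hx, hxp⟩ g
    refine ⟨hNn.conj_mem x hx g, ?_⟩
    rw [conj_pow, hxp, mul_one, mul_inv_cancel]
  have hΩle : Ω ≤ N := fun x hx => hx.1
  have hΩne : Ω ≠ ⊥ := by
    obtain ⟨x, hx⟩ := exists_prime_orderOf_dvd_card' (G := N) p hpd
    intro h0
    have hxΩ : (x : G) ∈ Ω := by
      refine ⟨x.2, ?_⟩
      rw [← Subgroup.coe_pow, ← hx, pow_orderOf_eq_one, Subgroup.coe_one]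
    rw [h0, Subgroup.mem_bot] at hxΩ
    have : x = 1 := Subtype.ext hxΩ
    rw [this, orderOf_one] at hx
    exact hp.one_lt.ne hx
  rcases hmin Ω hΩn hΩle with h | h
  · exact absurd h hΩne
  · intro x hx
    have : x ∈ Ω := by rw [h]; exact hx
    exact this.2

end Cfsg.Agent.Helper10
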