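import Mathlib

set_option autoImplicit false

namespace Cfsg.Agent.Helper10

open scoped commutatorElement

variable {G : Type*} [Group G]

/-- In a nilpotent group, a nontrivial normal subgroup meets the center nontrivially. -/
lemma normal_inf_center_ne_bot [hG : Group.IsNilpotent G] (K : Subgroup G) [K.Normal] (hK : K ≠ ⊥) :
    K ⊓ Subgroup.center G ≠ ⊥ := by
  obtain ⟨n, hn⟩ := hG.nilpotent'
  have key : ∀ i : ℕ, K ⊓ Subgroup.upperCentralSeries G i ≠ ⊥ → K ⊓ Subgroup.center G ≠ ⊥ := by
    intro i
    induction i with
    | zero =>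
      intro h
      exact absurd (by rw [Subgroup.upperCentralSeries_zero, inf_bot_eq]) h
    | succ i ih =>
      intro h
      by_cases hi : K ⊓ Subgroup.upperCentralSeries G i = ⊥
      · rcases Subgroup.bot_or_exists_ne_one (K ⊓ Subgroup.upperCentralSeries G (i + 1)) with h0 | ⟨x, hx, hx1⟩
        · exact absurd h0 h
        -- hx : x ∈ K ⊓ Z_{i+1}
        intro hbot
        have hxc : x ∈ K ⊓ Subgroup.center G := by
          refine ⟨hx.1, ?_⟩
          show x ∈ Subgroup.center G
          rw [Subgroup.mem_center_iff]
          intro y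
          have h1 : ⁅x, y⁆ ∈ Subgroup.upperCentralSeries G i :=
            Subgroup.mem_upperCentralSeries_succ_iff.mp hx.2 y
          have h2 : ⁅x, y⁆ ∈ K := by
            rw [commutatorElement_def]
            have := (inferInstance : K.Normal).conj_mem _ (K.inv_mem hx.1) y
            have h3 : x * y * x⁻¹ * y⁻¹ = x * (y * x⁻¹ * y⁻¹) := by group
            rw [h3]
            exact K.mul_mem hx.1 this
          have h3 : ⁅x, y⁆ ∈ K ⊓ Subgroup.upperCentralSeries G i := ⟨h2, h1⟩
          rw [hi, Subgroup.mem_bot, commutatorElement_def] at h3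
          calc y * x = (x * y * x⁻¹ * y⁻¹)⁻¹ * (x * y) := by group
            _ = x * y := by rw [h3, inv_one, one_mul]
        rw [hbot, Subgroup.mem_bot] at hxc
        exact hx1 hxc
      · exact ih hi
  apply key n
  rw [hn, inf_top_eq]
  exact hK

end Cfsg.Agent.Helper10
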