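import Mathlib
import Cfsg.Prelude.Def_Solvable
import Cfsg.Agent.Lib.Helper10.MinNormal
import Cfsg.Agent.Lib.Helper10.Nilp

set_option autoImplicit false

namespace Cfsg.Agent.Helper10

variable {G : Type*} [Group G]

/-- A solvable minimal normal subgroup is abelian. -/
lemma IsMinNormal.isMulCommutative_of_isSolvable {N : Subgroup G} (hN : IsMinNormal N)
    [hs : Group.IsSolvable N] : IsMulCommutative N := by
  obtain ⟨hNn, hNne, hmin⟩ := hN
  have hlt : ⁅N, N⁆ < N := by
    rw [← Subgroup.nontrivial_iff_ne_bot] at hNne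
    have h1 := Group.IsSolvable.commutator_lt_top_of_nontrivial N
    have h2 := Subgroup.map_subtype_commutator N
    rw [← h2]
    calc (commutator N).map N.subtype < (⊤ : Subgroup N).map N.subtype :=
          (Subgroup.map_lt_map_iff_of_injective N.subtype_injective).mpr h1
      _ = N := by rw [← MonoidHom.range_eq_map, Subgroup.range_subtype]
  rcases hmin ⁅N, N⁆ inferInstance hlt.le with h | h
  · exact Subgroup.commutator_self_eq_bot_iff.mp h
  · exact absurd h hlt.ne

/-- An abelian minimal normal subgroup of a finite group has prime exponent. -/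
lemma IsMinNormal.exists_prime_pow_eq_one_of_comm [Finite G] {N : Subgroup G}
    (hN : IsMinNormal N) (hab : IsMulCommutative N) :
    ∃ p : ℕ, p.Prime ∧ p ∣ Nat.card N ∧ ∀ x ∈ N, x ^ p = 1 := by
  obtain ⟨hNn, hNne, hmin⟩ := hN
  have hcard : Nat.card N ≠ 1 := by
    intro h1
    exact hNne (Subgroup.card_eq_one.mp h1)
  obtain ⟨p, hp, hpd⟩ := Nat.exists_prime_and_dvd hcard
  refine ⟨p, hp, hpd, ?_⟩
  haveI : Fact p.Prime := ⟨hp⟩
  let Ω : Subgroup G :=
    { carrier := {x | x ∈ N ∧ x ^ p = 1}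
      mul_mem' := by
        rintro a b ⟨ha, hap⟩ ⟨hb, hbp⟩
        refine ⟨N.mul_mem ha hb, ?_⟩
        have : Commute a b := setLike_mul_comm ha hb
        rw [this.mul_pow, hap, hbp, one_mul]
      one_mem' := ⟨N.one_mem, one_pow p⟩
      inv_mem' := by
        rintro a ⟨ha, hap⟩
        exact ⟨N.inv_mem ha, by rw [inv_pow, hap, inv_one]⟩ }
  have hΩn : Ω.Normal := by
    constructor
    rintro x ⟨hx, hxp⟩ g
    refine ⟨hNn.conj_mem x hx g, ?_⟩
    rw [conj_pow, hxp, mul_one, mul_inv_cancel]
  have hΩle : Ω ≤ N := fun x hx => hx.1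
  have hΩne : Ω ≠ ⊥ := by
    obtain ⟨x, hx⟩ := exists_prime_orderOf_dvd_card' (G := N) p hpd
    intro h0
    have hxΩ : (x : G) ∈ Ω := by
      refine ⟨x.2, ?_⟩
      rw [← Subgroup.coe_pow, ← hx, pow_orderOf_eq_one, Subgroup.coe_one]
    rw [h0, Subgroup.mem_bot] at hxΩ
    have : x = 1 := Subtype.ext hxΩ
    rw [this, orderOf_one] at hx
    exact hp.one_lt.ne hx
  rcases hmin Ω hΩn hΩle with h | h
  · exact absurd h hΩne
  · intro x hx
    have : x ∈ Ω := by rw [h]; exact hx
    exact this.2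

/-- If `N ≤ M` with `N` minimal normal in `G`, `M` normal nilpotent, then `M` centralizes `N`. -/
lemma IsMinNormal.le_centralizer_of_nilpotent {N M : Subgroup G} (hN : IsMinNormal N)
    [hMn : M.Normal] [hMnil : Group.IsNilpotent M] (hNM : N ≤ M) :
    M ≤ Subgroup.centralizer (N : Set G) := by
  obtain ⟨hNn, hNne, hmin⟩ := hN
  have hK' : N.subgroupOf M ≠ ⊥ := by
    intro h0
    apply hNne
    have := congrArg (Subgroup.map M.subtype) h0
    rwa [Subgroup.map_subgroupOf_eq_of_le hNM, Subgroup.map_bot] at this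
  have hne' := normal_inf_center_ne_bot (N.subgroupOf M) hK'
  haveI : ((Subgroup.center M).map M.subtype).Normal := ConjAct.normal_of_characteristic_of_normal
  have hsub : (N.subgroupOf M ⊓ Subgroup.center M).map M.subtype ≤
      N ⊓ (Subgroup.center M).map M.subtype := by
    apply le_inf
    · calc (N.subgroupOf M ⊓ Subgroup.center M).map M.subtype ≤ (N.subgroupOf M).map M.subtype :=
          Subgroup.map_mono inf_le_left
        _ = N := Subgroup.map_subgroupOf_eq_of_le hNM
    · exact Subgroup.map_mono inf_le_right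
  have hne'' : N ⊓ (Subgroup.center M).map M.subtype ≠ ⊥ := by
    intro h0
    rw [h0, le_bot_iff, Subgroup.map_eq_bot_iff_of_injective _ M.subtype_injective] at hsub
    exact hne' hsub
  rcases hmin (N ⊓ (Subgroup.center M).map M.subtype) inferInstance inf_le_left with h1 | h1
  · exact absurd h1 hne''
  · have hNZ : N ≤ (Subgroup.center M).map M.subtype := by rw [← h1]; exact inf_le_right
    intro m hm
    rw [Subgroup.mem_centralizer_iff]
    intro n hn
    obtain ⟨z, hz, rfl⟩ := hNZ hn
    have := Subgroup.mem_center_iff.mp hz ⟨m, hm⟩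
    have h2 := congrArg Subtype.val this
    simpa using h2.symm

/-! ### The `p`-core -/

lemma pCore_normal (p : ℕ) (G : Type*) [Group G] : (Cfsg.pCore p G).Normal :=
  Subgroup.sSup_normal _ (fun _ hN => hN.1)

lemma le_pCore {p : ℕ} {N : Subgroup G} (hN : N.Normal) (hp : IsPGroup p N) :
    N ≤ Cfsg.pCore p G :=
  le_sSup ⟨hN, hp⟩

lemma pCore_le_sylow {p : ℕ} (P : Sylow p G) : Cfsg.pCore p G ≤ P := by
  apply sSup_le
  rintro N ⟨hNn, hNp⟩
  haveI := hNn
  have h1 : IsPGroup p (N ⊔ P : Subgroup G) := hNp.to_sup_of_normal_left P.2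
  have h2 : N ⊔ (P : Subgroup G) = P := P.3 h1 le_sup_right
  rw [← h2]
  exact le_sup_left

lemma pCore_isPGroup (p : ℕ) [Fact p.Prime] (G : Type*) [Group G] [Finite G] :
    IsPGroup p (Cfsg.pCore p G) := by
  obtain ⟨P⟩ : Nonempty (Sylow p G) := inferInstance
  exact P.2.to_le (pCore_le_sylow P)

end Cfsg.Agent.Helper10
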