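import Mathlib

/-!
# O4320 (B2d) `pairs_count` (helper50's lemma server for S0977)
-/

set_option autoImplicit false

namespace Cfsg.Agent.Helper10.O4320

universe u

/-- the number of `a` with `a t a⁻¹ = g t g⁻¹` is `|C(t)|`. -/
theorem h10_card_conj_eq {G : Type u} [Group G] [Fintype G] [DecidableEq G] (t g : G) :
    (Finset.univ.filter (fun a : G => a * t * a⁻¹ = g * t * g⁻¹)).card =
      Nat.card (Subgroup.centralizer ({t} : Set G)) := by
  classical
  rw [Nat.card_eq_fintype_card, Fintype.card_subtype]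
  apply Finset.card_bij (fun a _ => g⁻¹ * a)
  · intro a ha
    simp only [Finset.mem_filter, Finset.mem_univ, true_and] at ha ⊢
    rw [Subgroup.mem_centralizer_singleton_iff]
    have : g⁻¹ * (a * t * a⁻¹) * g = t := by rw [ha]; group
    symm
    calc t * (g⁻¹ * a) = (g⁻¹ * (a * t * a⁻¹) * g) * (g⁻¹ * a) := by rw [this]
      _ = g⁻¹ * a * t := by group
  · intro a _ b _ h
    exact mul_left_cancel h
  · intro c hc
    simp only [Finset.mem_filter, Finset.mem_univ, true_and] at hc ⊢
    rw [Subgroup.mem_centralizer_singleton_iff] at hc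
    refine ⟨g * c, ?_, by group⟩
    calc g * c * t * (g * c)⁻¹ = g * (c * t) * c⁻¹ * g⁻¹ := by group
      _ = g * (t * c) * c⁻¹ * g⁻¹ := by rw [hc]
      _ = g * t * g⁻¹ := by group

open scoped Classical in
/-- (B2d) -/
theorem pairs_count {G : Type u} [Group G] [Fintype G] (y t : G)
    (hy : orderOf y = 5) (hCy : Nat.card (Subgroup.centralizer ({y} : Set G)) = 5)
    (ht : orderOf t = 2) (hty : t * y * t⁻¹ = y⁻¹) :
    (Finset.univ.filter (fun ab : G × G => ab.1 * t * ab.1⁻¹ * (ab.2 * t * ab.2⁻¹) * y⁻¹ = 1)).card =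
      5 * Nat.card (Subgroup.centralizer ({t} : Set G)) ^ 2 := by
  have ht2 : t * t = 1 := by
    have := pow_orderOf_eq_one t
    rw [ht, pow_two] at this
    exact this
  have htinv : t⁻¹ = t := inv_eq_of_mul_eq_one_left ht2
  have hy5 : y ^ 5 = 1 := by
    have := pow_orderOf_eq_one y
    rwa [hy] at this
  -- `t * y^k = (y^k)⁻¹ * t`
  have hpow : ∀ k : ℕ, t * y ^ k = (y ^ k)⁻¹ * t := by
    intro k
    have h1 : t * y ^ k * t⁻¹ = (y ^ k)⁻¹ := by
      rw [← conj_pow, hty, inv_pow]
    calc t * y ^ k = (t * y ^ k * t⁻¹) * t := by group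
      _ = (y ^ k)⁻¹ * t := by rw [h1]
  -- conjugates
  have hconj : ∀ i : ℕ, y ^ (2 * i) * t * (y ^ (2 * i))⁻¹ = t * y ^ i := by
    intro i
    have h3 : y ^ (2 * i) * y ^ (3 * i) = 1 := by
      rw [← pow_add]
      have : 2 * i + 3 * i = 5 * i := by ring
      rw [this, pow_mul, hy5, one_pow]
    have h4 : y ^ (2 * i) = (y ^ (3 * i))⁻¹ := eq_inv_of_mul_eq_one_left h3
    have h5 : t * y ^ i * y ^ (2 * i) = y ^ (2 * i) * t := by
      rw [mul_assoc, ← pow_add]
      have : i + 2 * i = 3 * i := by ring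
      rw [this, hpow, ← h4]
    calc y ^ (2 * i) * t * (y ^ (2 * i))⁻¹ = (t * y ^ i * y ^ (2 * i)) * (y ^ (2 * i))⁻¹ := by rw [h5]
      _ = t * y ^ i := by group
  set T := Nat.card (Subgroup.centralizer ({t} : Set G)) with hT
  have hA : ∀ i : ℕ, (Finset.univ.filter (fun a : G => a * t * a⁻¹ = t * y ^ i)).card = T := by
    intro i
    have := h10_card_conj_eq t (y ^ (2 * i))
    rw [hconj i] at this
    exact this
  -- centralizer of y is zpowers y
  have hcent : Subgroup.centralizer ({y} : Set G) = Subgroup.zpowers y := by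
    symm
    apply Subgroup.eq_of_le_of_card_ge
    · rw [Subgroup.zpowers_le, Subgroup.mem_centralizer_singleton_iff]
    · rw [hCy, Nat.card_zpowers, hy]
  -- the set as a union
  have hset : (Finset.univ.filter (fun ab : G × G => ab.1 * t * ab.1⁻¹ * (ab.2 * t * ab.2⁻¹) * y⁻¹ = 1)) =
      (Finset.range 5).biUnion (fun i =>
        (Finset.univ.filter (fun a : G => a * t * a⁻¹ = t * y ^ i)) ×ˢ
        (Finset.univ.filter (fun b : G => b * t * b⁻¹ = t * y ^ (i + 1)))) := by
    ext ⟨a, b⟩
    simp only [Finset.mem_filter, Finset.mem_univ, true_and, Finset.mem_biUnion, Finset.mem_range,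
      Finset.mem_product]
    constructor
    · intro h
      have h11 : (a * t * a⁻¹) * (a * t * a⁻¹) = 1 := by
        calc a * t * a⁻¹ * (a * t * a⁻¹) = a * (t * t) * a⁻¹ := by group
          _ = 1 := by rw [ht2]; group
      have h22 : (b * t * b⁻¹) * (b * t * b⁻¹) = 1 := by
        calc b * t * b⁻¹ * (b * t * b⁻¹) = b * (t * t) * b⁻¹ := by group
          _ = 1 := by rw [ht2]; group
      generalize a * t * a⁻¹ = t₁ at h h11 ⊢
      generalize b * t * b⁻¹ = t₂ at h h22 ⊢
      have h12 : t₁ * t₂ = y := mul_inv_eq_one.mp h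
      have h1inv : t₁⁻¹ = t₁ := inv_eq_of_mul_eq_one_left h11
      have h2inv : t₂⁻¹ = t₂ := inv_eq_of_mul_eq_one_left h22
      -- t₁ inverts y
      have hinv1 : t₁ * y * t₁⁻¹ = y⁻¹ := by
        rw [← h12, mul_inv_rev, h1inv, h2inv]
        calc t₁ * (t₁ * t₂) * t₁ = (t₁ * t₁) * t₂ * t₁ := by group
          _ = t₂ * t₁ := by rw [h11, one_mul]
      -- c = t * t₁ centralizes y
      have hc : t * t₁ ∈ Subgroup.centralizer ({y} : Set G) := by
        rw [Subgroup.mem_centralizer_singleton_iff]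
        have e1 : t₁ * y = y⁻¹ * t₁ := by
          calc t₁ * y = (t₁ * y * t₁⁻¹) * t₁ := by group
            _ = y⁻¹ * t₁ := by rw [hinv1]
        have e2 : t * y⁻¹ = y * t := by
          have : t * y = y⁻¹ * t := by
            calc t * y = (t * y * t⁻¹) * t := by group
              _ = y⁻¹ * t := by rw [hty]
          calc t * y⁻¹ = y * (y⁻¹ * t) * y⁻¹ := by group
            _ = y * (t * y) * y⁻¹ := by rw [this]
            _ = y * t := by group
        symm
        calc y * (t * t₁) = (y * t) * t₁ := by group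
          _ = (t * y⁻¹) * t₁ := by rw [e2]
          _ = t * (y⁻¹ * t₁) := by group
          _ = t * (t₁ * y) := by rw [e1]
          _ = t * t₁ * y := by group
      rw [hcent] at hc
      have hfin : IsOfFinOrder y := by
        rw [← orderOf_pos_iff, hy]; norm_num
      rw [hfin.mem_zpowers_iff_mem_range_orderOf] at hc
      simp only [Finset.mem_image, Finset.mem_range] at hc
      obtain ⟨i, hi, hic⟩ := hc
      rw [hy] at hi
      refine ⟨i, hi, ?_, ?_⟩
      · rw [hic]
        calc t₁ = (t * t) * t₁ := by rw [ht2, one_mul]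
          _ = t * (t * t₁) := by group
      · have h1 : t₁ = t * y ^ i := by
          rw [hic]
          calc t₁ = (t * t) * t₁ := by rw [ht2, one_mul]
            _ = t * (t * t₁) := by group
        calc t₂ = (t₁ * t₁) * t₂ := by rw [h11, one_mul]
          _ = t₁ * (t₁ * t₂) := by group
          _ = t₁ * y := by rw [h12]
          _ = t * y ^ i * y := by rw [h1]
          _ = t * y ^ (i + 1) := by rw [pow_succ]; group
    · rintro ⟨i, _, h1, h2⟩
      rw [h1, h2]
      calc t * y ^ i * (t * y ^ (i + 1)) * y⁻¹ = t * y ^ i * (t * y ^ (i + 1)) * y⁻¹ := rfl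
        _ = (t * y ^ i) * t * y ^ (i + 1) * y⁻¹ := by group
        _ = ((y ^ i)⁻¹ * t) * t * y ^ (i + 1) * y⁻¹ := by rw [hpow]
        _ = (y ^ i)⁻¹ * (t * t) * y ^ (i + 1) * y⁻¹ := by group
        _ = (y ^ i)⁻¹ * y ^ (i + 1) * y⁻¹ := by rw [ht2, mul_one]
        _ = 1 := by rw [pow_succ]; group
  rw [hset, Finset.card_biUnion]
  · simp only [Finset.card_product, hA]
    rw [Finset.sum_const, Finset.card_range, smul_eq_mul, pow_two]
  · intro i hi j hj hij
    change Disjoint _ _
    rw [Finset.disjoint_left]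
    rintro ⟨a, b⟩ hab hab'
    simp only [Finset.mem_product, Finset.mem_filter, Finset.mem_univ, true_and] at hab hab'
    apply hij
    have e : y ^ i = y ^ j := mul_left_cancel (hab.1.symm.trans hab'.1)
    rw [pow_eq_pow_iff_modEq, hy] at e
    simp only [Finset.coe_range, Set.mem_Iio] at hi hj
    have := Nat.ModEq.eq_of_lt_of_lt e hi hj
    exact this

end Cfsg.Agent.Helper10.O4320
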