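import Mathlib

/-!
# O4320 (B2f1) `b2_arith` (helper50's lemma server for S0977)
-/

set_option autoImplicit false

namespace Cfsg.Agent.Helper10.O4320

universe u

/-- an integer with `0 ≠ c^2 < 4` is `±1`. -/
theorem h10_sq_small (c : ℤ) (h0 : c ^ 2 ≠ 0) (h4 : c ^ 2 < 4) : c = 1 ∨ c = -1 := by
  have h1 : c < 2 := by nlinarith
  have h2 : -2 < c := by nlinarith
  have h3 : c ≠ 0 := by
    rintro rfl
    exact h0 (by norm_num)
  omega

/-- (B2f1) -/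
theorem b2_arith {I : Type u} [Fintype I] [DecidableEq I] (d : I → ℕ) (c s : I → ℤ) (T : ℕ) (i0 : I)
    (hd0 : d i0 = 1) (hc0 : c i0 = 1) (hs0 : s i0 = 1) (huniq : ∀ i, d i = 1 → i = i0)
    (hdvd : ∀ i, d i ∣ 4320) (hsq : ∑ i, (d i : ℤ) ^ 2 = 4320)
    (h5 : ∀ i, (5 : ℤ) ∣ (d i : ℤ) - c i) (hc2 : ∑ i, c i ^ 2 = 5) (hdc : ∑ i, (d i : ℤ) * c i = 0)
    (hm : ∀ i, ∃ m₁ m₂ : ℕ, 10 * (m₁ : ℤ) = (d i : ℤ) + 4 * c i + 5 * s i ∧
      10 * (m₂ : ℤ) = (d i : ℤ) + 4 * c i - 5 * s i)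
    (hs2 : ∑ i, s i ^ 2 = (T : ℤ))
    (hmul : 5 * (T : ℚ) ^ 2 = 4320 * ∑ i, (s i : ℚ) ^ 2 * (c i : ℚ) / (d i : ℚ))
    (hnum : ∀ (d1 d2 d3 d4 : ℕ) (c1 c2 c3 c4 s1 s2 s3 s4 : ℤ) (T : ℕ),
      d1 ∣ 4320 → d2 ∣ 4320 → d3 ∣ 4320 → d4 ∣ 4320 → 1 < d1 → 1 < d2 → 1 < d3 → 1 < d4 →
      (c1 = 1 ∨ c1 = -1) → (c2 = 1 ∨ c2 = -1) → (c3 = 1 ∨ c3 = -1) → (c4 = 1 ∨ c4 = -1) →
      (5 : ℤ) ∣ (d1 : ℤ) - c1 → (5 : ℤ) ∣ (d2 : ℤ) - c2 → (5 : ℤ) ∣ (d3 : ℤ) - c3 → (5 : ℤ) ∣ (d4 : ℤ) - c4 →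
      1 + (d1 : ℤ) * c1 + (d2 : ℤ) * c2 + (d3 : ℤ) * c3 + (d4 : ℤ) * c4 = 0 →
      1 + d1 ^ 2 + d2 ^ 2 + d3 ^ 2 + d4 ^ 2 ≤ 4320 →
      (∃ m₁ m₂ : ℕ, 10 * (m₁ : ℤ) = (d1 : ℤ) + 4 * c1 + 5 * s1 ∧ 10 * (m₂ : ℤ) = (d1 : ℤ) + 4 * c1 - 5 * s1) →
      (∃ m₁ m₂ : ℕ, 10 * (m₁ : ℤ) = (d2 : ℤ) + 4 * c2 + 5 * s2 ∧ 10 * (m₂ : ℤ) = (d2 : ℤ) + 4 * c2 - 5 * s2) →
      (∃ m₁ m₂ : ℕ, 10 * (m₁ : ℤ) = (d3 : ℤ) + 4 * c3 + 5 * s3 ∧ 10 * (m₂ : ℤ) = (d3 : ℤ) + 4 * c3 - 5 * s3) →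
      (∃ m₁ m₂ : ℕ, 10 * (m₁ : ℤ) = (d4 : ℤ) + 4 * c4 + 5 * s4 ∧ 10 * (m₂ : ℤ) = (d4 : ℤ) + 4 * c4 - 5 * s4) →
      1 + s1 ^ 2 + s2 ^ 2 + s3 ^ 2 + s4 ^ 2 ≤ (T : ℤ) →
      5 * (T : ℚ) ^ 2 = 4320 * (1 + (s1 : ℚ) ^ 2 * c1 / d1 + (s2 : ℚ) ^ 2 * c2 / d2 +
        (s3 : ℚ) ^ 2 * c3 / d3 + (s4 : ℚ) ^ 2 * c4 / d4) → False) : False := by
  classical
  -- the support of `c` away from `i0`
  set T' : Finset I := (Finset.univ.erase i0).filter (fun i => c i ^ 2 ≠ 0) with hT'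
  have hsumT' : ∑ i ∈ T', c i ^ 2 = 4 := by
    rw [hT', Finset.sum_filter_ne_zero]
    have := Finset.add_sum_erase Finset.univ (fun i => c i ^ 2) (Finset.mem_univ i0)
    rw [hc2, hc0] at this
    linarith
  have hmemT' : ∀ i, i ∈ T' ↔ i ≠ i0 ∧ c i ^ 2 ≠ 0 := by
    intro i
    simp [hT']
  have hout : ∀ i, i ≠ i0 → i ∉ T' → c i = 0 := by
    intro i hi hiT
    by_contra hne
    exact hiT ((hmemT' i).2 ⟨hi, pow_ne_zero 2 hne⟩)
  have hdpos : ∀ i, i ≠ i0 → 1 < d i := by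
    intro i hi
    have h1 : d i ≠ 1 := fun h => hi (huniq i h)
    have h0 : d i ≠ 0 := by
      intro h
      have := hdvd i
      rw [h] at this
      simp at this
    omega
  by_cases hbig : ∃ i ∈ T', 4 ≤ c i ^ 2
  · -- Case A: one `c i = ±2`
    obtain ⟨i, hiT, hi4⟩ := hbig
    have hrest : ∑ j ∈ T'.erase i, c j ^ 2 ≤ 0 := by
      have := Finset.add_sum_erase T' (fun j => c j ^ 2) hiT
      linarith
    have hempty : ∀ j ∈ T'.erase i, c j ^ 2 = 0 := by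
      have hnn : ∀ j ∈ T'.erase i, 0 ≤ c j ^ 2 := fun j _ => sq_nonneg _
      have h0 : ∑ j ∈ T'.erase i, c j ^ 2 = 0 := le_antisymm hrest (Finset.sum_nonneg hnn)
      exact (Finset.sum_eq_zero_iff_of_nonneg hnn).1 h0
    have hi0 : i ≠ i0 := ((hmemT' i).1 hiT).1
    have hci : c i ^ 2 = 4 := by
      have := Finset.add_sum_erase T' (fun j => c j ^ 2) hiT
      have h0 : ∑ j ∈ T'.erase i, c j ^ 2 = 0 :=
        le_antisymm hrest (Finset.sum_nonneg (fun j _ => sq_nonneg _))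
      linarith
    have hzero : ∀ j, j ≠ i0 → j ≠ i → c j = 0 := by
      intro j hj0 hji
      by_cases hjT : j ∈ T'
      · have := hempty j (Finset.mem_erase.2 ⟨hji, hjT⟩)
        exact pow_eq_zero_iff (two_ne_zero) |>.1 this
      · exact hout j hj0 hjT
    -- hdc : 1 + d i * c i = 0
    have hsum : ∑ j, (d j : ℤ) * c j = (d i0 : ℤ) * c i0 + (d i : ℤ) * c i := by
      rw [← Finset.sum_subset (Finset.subset_univ ({i0, i} : Finset I))]
      · rw [Finset.sum_pair (Ne.symm hi0)]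
      · intro j _ hj
        simp only [Finset.mem_insert, Finset.mem_singleton, not_or] at hj
        rw [hzero j hj.1 hj.2, mul_zero]
    rw [hsum, hd0, hc0] at hdc
    have hci2 : c i = 2 ∨ c i = -2 := by
      have h1 : (c i - 2) * (c i + 2) = 0 := by ring_nf; linarith
      rcases mul_eq_zero.1 h1 with h | h
      · left; linarith
      · right; linarith
    rcases hci2 with h | h <;> rw [h] at hdc <;> push_cast at hdc <;> omega
  · -- Case B: four `c i = ±1`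
    push Not at hbig
    have hpm : ∀ i ∈ T', c i = 1 ∨ c i = -1 := by
      intro i hi
      exact h10_sq_small (c i) ((hmemT' i).1 hi).2 (hbig i hi)
    have hone : ∀ i ∈ T', c i ^ 2 = 1 := by
      intro i hi
      rcases hpm i hi with h | h <;> rw [h] <;> norm_num
    have hcard : T'.card = 4 := by
      have : ∑ i ∈ T', c i ^ 2 = (T'.card : ℤ) := by
        rw [Finset.sum_congr rfl hone]
        simp
      rw [hsumT'] at this
      exact_mod_cast this.symm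
    -- extract the four elements
    obtain ⟨a, t3, ha3, hat3, ht3⟩ := Finset.card_eq_succ.1 hcard
    obtain ⟨b, t2, hb2, hbt2, ht2⟩ := Finset.card_eq_succ.1 ht3
    obtain ⟨e, t1, he1, het1, ht1⟩ := Finset.card_eq_succ.1 ht2
    obtain ⟨f, t0, hf0, hft0, ht0⟩ := Finset.card_eq_succ.1 ht1
    have ht0' : t0 = ∅ := Finset.card_eq_zero.1 ht0
    subst ht0'
    subst hft0
    subst het1
    subst hbt2
    -- now T' = insert a (insert b (insert e {f}))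
    have haT : a ∈ T' := by rw [← hat3]; simp
    have hbT : b ∈ T' := by rw [← hat3]; simp
    have heT : e ∈ T' := by rw [← hat3]; simp
    have hfT : f ∈ T' := by rw [← hat3]; simp
    have hab : a ≠ b := by intro h; apply ha3; rw [h]; simp
    have hae : a ≠ e := by intro h; apply ha3; rw [h]; simp
    have haf : a ≠ f := by intro h; apply ha3; rw [h]; simp
    have hbe : b ≠ e := by intro h; apply hb2; rw [h]; simp
    have hbf : b ≠ f := by intro h; apply hb2; rw [h]; simp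
    have hef : e ≠ f := by intro h; apply he1; rw [h]; simp
    have ha0 : a ≠ i0 := ((hmemT' a).1 haT).1
    have hb0 : b ≠ i0 := ((hmemT' b).1 hbT).1
    have he0 : e ≠ i0 := ((hmemT' e).1 heT).1
    have hf0' : f ≠ i0 := ((hmemT' f).1 hfT).1
    set U : Finset I := {i0, a, b, e, f} with hU
    have hzero : ∀ j, j ∉ U → c j = 0 := by
      intro j hj
      simp only [hU, Finset.mem_insert, Finset.mem_singleton, not_or] at hj
      apply hout j hj.1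
      rw [← hat3]
      have h2 := hj.2
      simp only [Finset.mem_insert, Finset.notMem_empty, or_false, not_or]
      exact h2
    have hsumU : ∀ g : I → ℤ, ∑ j ∈ U, g j = g i0 + g a + g b + g e + g f := by
      intro g
      rw [hU, Finset.sum_insert, Finset.sum_insert, Finset.sum_insert, Finset.sum_pair hef]
      · ring
      · simp [hbe, hbf]
      · simp [hab, hae, haf]
      · simp [Ne.symm ha0, Ne.symm hb0, Ne.symm he0, Ne.symm hf0']
    have hsumUq : ∀ g : I → ℚ, ∑ j ∈ U, g j = g i0 + g a + g b + g e + g f := by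
      intro g
      rw [hU, Finset.sum_insert, Finset.sum_insert, Finset.sum_insert, Finset.sum_pair hef]
      · ring
      · simp [hbe, hbf]
      · simp [hab, hae, haf]
      · simp [Ne.symm ha0, Ne.symm hb0, Ne.symm he0, Ne.symm hf0']
    apply hnum (d a) (d b) (d e) (d f) (c a) (c b) (c e) (c f) (s a) (s b) (s e) (s f) T
      (hdvd a) (hdvd b) (hdvd e) (hdvd f) (hdpos a ha0) (hdpos b hb0) (hdpos e he0) (hdpos f hf0')
      (hpm a haT) (hpm b hbT) (hpm e heT) (hpm f hfT) (h5 a) (h5 b) (h5 e) (h5 f)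
    · -- hdc
      have : ∑ j, (d j : ℤ) * c j = ∑ j ∈ U, (d j : ℤ) * c j := by
        symm
        apply Finset.sum_subset (Finset.subset_univ U)
        intro j _ hj
        rw [hzero j hj, mul_zero]
      rw [this, hsumU, hd0, hc0] at hdc
      push_cast at hdc
      linarith
    · -- hsq
      have h1 : ∑ j ∈ U, (d j : ℤ) ^ 2 ≤ ∑ j, (d j : ℤ) ^ 2 :=
        Finset.sum_le_sum_of_subset_of_nonneg (Finset.subset_univ U) (fun j _ _ => sq_nonneg _)
      rw [hsumU, hsq, hd0] at h1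
      have : (1 : ℤ) + (d a : ℤ) ^ 2 + (d b : ℤ) ^ 2 + (d e : ℤ) ^ 2 + (d f : ℤ) ^ 2 ≤ 4320 := by
        push_cast at h1
        linarith
      exact_mod_cast this
    · exact hm a
    · exact hm b
    · exact hm e
    · exact hm f
    · -- hT
      have h1 : ∑ j ∈ U, s j ^ 2 ≤ ∑ j, s j ^ 2 :=
        Finset.sum_le_sum_of_subset_of_nonneg (Finset.subset_univ U) (fun j _ _ => sq_nonneg _)
      rw [hsumU, hs2, hs0] at h1
      linarith
    · -- hmul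
      have : ∑ j, (s j : ℚ) ^ 2 * (c j : ℚ) / (d j : ℚ) =
          ∑ j ∈ U, (s j : ℚ) ^ 2 * (c j : ℚ) / (d j : ℚ) := by
        symm
        apply Finset.sum_subset (Finset.subset_univ U)
        intro j _ hj
        rw [hzero j hj]
        simp
      rw [this, hsumUq, hs0, hc0, hd0] at hmul
      rw [hmul]
      push_cast
      ring

end Cfsg.Agent.Helper10.O4320
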