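import Mathlib
import Cfsg.Agent.Lib.Helper17.Small1092A

/-!
# O6232 server (helper17, S0983): no simple group of order `5724 = 2^2 * 3^3 * 53`

`n_53 = 54` is forced, `|N(P)| = 106 = 2 * 53`, `C(P) = P`: the dihedral-normalizer degree equation has no
solution among the divisors of `5724` (copy of `Helper17.no_1040`).
-/

set_option autoImplicit false

namespace Cfsg.Agent.Helper10.O6232

open Cfsg MulAction

universe u

theorem count5724_aux : ∀ n ∈ Nat.divisors 108, n % 53 = 1 → n ≠ 1 → n * 2 = 108 := by decide +kernel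

theorem arith5724_aux : ∀ x ∈ Nat.divisors 5724, 1 < x →
    ¬ ((53 ∣ x - 1 ∧ x + 1 ∣ 5724) ∨ (53 ∣ x + 1 ∧ x - 1 ∣ 5724)) := by decide +kernel

theorem no_5724 {G : Type u} [Group G] [Finite G] [IsSimpleGroup G] : Nat.card G ≠ 5724 := by
  intro hG
  have : Fact (Nat.Prime 53) := ⟨by norm_num⟩
  have := Fintype.ofFinite G
  obtain ⟨P⟩ : Nonempty (Sylow 53 G) := inferInstance
  obtain ⟨hP, hN, hC⟩ := Cfsg.Agent.Helper17.PrimeTI.forced_sylow 53 108 2 Nat.prime_two
    (by rw [hG]) (by norm_num) (by norm_num)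
    (fun n hn => count5724_aux n (Nat.mem_divisors.2 ⟨hn, by norm_num⟩)) P
  have hperf : commutator G = ⊤ :=
    Cfsg.Agent.Helper17.PrimeTI.perfect_of_simple (by rw [hG]; norm_num)
  obtain ⟨x, hx1, hxd, hx⟩ := Cfsg.Agent.Helper17.PrimeTI.dihedral_normalizer_degrees hperf
    (P : Subgroup G) 53 26 hP hC hN (by norm_num) (by norm_num)
  rw [hG] at hxd hx
  exact arith5724_aux x (Nat.mem_divisors.2 ⟨hxd, by norm_num⟩) hx1 hx

end Cfsg.Agent.Helper10.O6232
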