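import Mathlib
import Cfsg.Prelude.Def_Spor_Fi22
import Cfsg.Prelude.Def_Classical
import Cfsg.Agent.Lib.Helper84.O7Defs

/-!
# O7F (MATHOM) for helper84's S1686 server: `exists_hom_of_tables`
(from matrices + permutation tables on vector codes to a homomorphism `A1G →* isometryGroup`.)
-/

set_option autoImplicit false

namespace Cfsg.Agent.Helper10.O7F

open Cfsg.Agent.Helper84.O7
open Cfsg.Spor.Fi22 (Gen)
open Matrix

/-- faithfulness on codes -/
theorem h10_faithful (hDE : ∀ v : ι → ZMod 3, decV (encN v) = v)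
    (hlt : ∀ v : ι → ZMod 3, encN v < 2187) (X Y : Matrix ι ι (ZMod 3))
    (h : ∀ p, p < 2187 → encN (X *ᵥ decV p) = encN (Y *ᵥ decV p)) : X = Y := by
  have hinj : ∀ u v : ι → ZMod 3, encN u = encN v → u = v := by
    intro u v huv
    rw [← hDE u, ← hDE v, huv]
  rw [Matrix.ext_iff_mulVec]
  intro v
  have h1 := h (encN v) (hlt v)
  rw [hDE] at h1
  exact hinj _ _ h1

/-- the link for words of involutions -/
theorem h10_link_word (M : Gen → Matrix ι ι (ZMod 3)) (σ : Gen → Equiv.Perm (Fin 2187))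
    (hlink : ∀ x, ∀ p : Fin 2187, (σ x p).val = encN (M x *ᵥ decV p.val))
    (hdec : ∀ p, p < 2187 → encN (decV p) = p)
    (hDE : ∀ v : ι → ZMod 3, decV (encN v) = v)
    (hσσ : ∀ x, σ x * σ x = 1)
    (w : List (Gen × Bool)) (p : Fin 2187) :
    ((w.map (fun l => cond l.2 (σ l.1) (σ l.1)⁻¹)).prod p).val =
      encN ((w.map (fun l => M l.1)).prod *ᵥ decV p.val) := by
  have hinv : ∀ x, (σ x)⁻¹ = σ x := fun x => inv_eq_of_mul_eq_one_right (hσσ x)
  induction w generalizing p with
  | nil =>
    simp only [List.map_nil, List.prod_nil, Equiv.Perm.coe_one, id_eq, Matrix.one_mulVec]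
    exact (hdec p.val p.isLt).symm
  | cons l w ih =>
    rw [List.map_cons, List.prod_cons, List.map_cons, List.prod_cons, Equiv.Perm.mul_apply]
    have hc : cond l.2 (σ l.1) (σ l.1)⁻¹ = σ l.1 := by
      cases l.2
      · exact hinv l.1
      · rfl
    rw [hc, hlink, ih, hDE, Matrix.mulVec_mulVec]

/-- (MATHOM) -/
theorem exists_hom_of_tables (M : Gen → Matrix ι ι (ZMod 3)) (σ : Gen → Equiv.Perm (Fin 2187))
    (hlink : ∀ x, ∀ p : Fin 2187, (σ x p).val = encN (M x *ᵥ decV p.val))
    (hrel : ∀ w ∈ Cfsg.Agent.Helper27.Fi22TC.A1.D.relL,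
      (w.map (fun l => cond l.2 (σ l.1) (σ l.1)⁻¹)).prod = 1)
    (hQ : ∀ x, ∀ p, p < 2187 → Q (M x *ᵥ decV p) = Q (decV p))
    (hdec : ∀ p, p < 2187 → encN (decV p) = p)
    (hDE : ∀ v : ι → ZMod 3, decV (encN v) = v) (hlt : ∀ v : ι → ZMod 3, encN v < 2187) :
    ∃ ψ : A1G →* ↥(Cfsg.isometryGroup (ZMod 3) Q), ∀ x : Gen,
      (((ψ (PresentedGroup.of x) : ↥(Cfsg.isometryGroup (ZMod 3) Q)) :
        Matrix.GeneralLinearGroup ι (ZMod 3)) : Matrix ι ι (ZMod 3)) = M x := by
  classical
  have hfaith := h10_faithful hDE hlt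
  -- the tables are involutions
  have hσσ : ∀ x, σ x * σ x = 1 := by
    intro x
    have hmem : ∀ w : List (Gen × Bool), w ∈ Cfsg.Agent.Helper27.Fi22TC.A1.relL →
        w ∈ Cfsg.Agent.Helper27.Fi22TC.A1.D.relL := fun w hw => hw
    cases x
    · have h0 := hrel Cfsg.Agent.Helper27.Fi22TC.A1.R0 (List.Mem.head _)
      simp only [Cfsg.Agent.Helper27.Fi22TC.A1.R0, List.map_cons, List.map_nil, List.prod_cons,
        List.prod_nil, cond_true, mul_one] at h0
      rw [h0, one_mul]
    · have h0 := hrel Cfsg.Agent.Helper27.Fi22TC.A1.R1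
        (List.Mem.tail _ (List.Mem.head _))
      simpa only [Cfsg.Agent.Helper27.Fi22TC.A1.R1, List.map_cons, List.map_nil, List.prod_cons,
        List.prod_nil, cond_true, mul_one] using h0
    · have h0 := hrel Cfsg.Agent.Helper27.Fi22TC.A1.R2
        (List.Mem.tail _ (List.Mem.tail _ (List.Mem.head _)))
      simpa only [Cfsg.Agent.Helper27.Fi22TC.A1.R2, List.map_cons, List.map_nil, List.prod_cons,
        List.prod_nil, cond_true, mul_one] using h0
    · have h0 := hrel Cfsg.Agent.Helper27.Fi22TC.A1.R3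
        (List.Mem.tail _ (List.Mem.tail _ (List.Mem.tail _ (List.Mem.head _))))
      simpa only [Cfsg.Agent.Helper27.Fi22TC.A1.R3, List.map_cons, List.map_nil, List.prod_cons,
        List.prod_nil, cond_true, mul_one] using h0
    · have h0 := hrel Cfsg.Agent.Helper27.Fi22TC.A1.R4
        (List.Mem.tail _ (List.Mem.tail _ (List.Mem.tail _ (List.Mem.tail _ (List.Mem.head _)))))
      simpa only [Cfsg.Agent.Helper27.Fi22TC.A1.R4, List.map_cons, List.map_nil, List.prod_cons,
        List.prod_nil, cond_true, mul_one] using h0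
    · have h0 := hrel Cfsg.Agent.Helper27.Fi22TC.A1.R5
        (List.Mem.tail _ (List.Mem.tail _ (List.Mem.tail _ (List.Mem.tail _ (List.Mem.tail _
          (List.Mem.head _))))))
      simpa only [Cfsg.Agent.Helper27.Fi22TC.A1.R5, List.map_cons, List.map_nil, List.prod_cons,
        List.prod_nil, cond_true, mul_one] using h0
    · have h0 := hrel Cfsg.Agent.Helper27.Fi22TC.A1.R6
        (List.Mem.tail _ (List.Mem.tail _ (List.Mem.tail _ (List.Mem.tail _ (List.Mem.tail _
          (List.Mem.tail _ (List.Mem.head _)))))))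
      simpa only [Cfsg.Agent.Helper27.Fi22TC.A1.R6, List.map_cons, List.map_nil, List.prod_cons,
        List.prod_nil, cond_true, mul_one] using h0
    · have h0 := hrel Cfsg.Agent.Helper27.Fi22TC.A1.R7
        (List.Mem.tail _ (List.Mem.tail _ (List.Mem.tail _ (List.Mem.tail _ (List.Mem.tail _
          (List.Mem.tail _ (List.Mem.tail _ (List.Mem.head _))))))))
      simpa only [Cfsg.Agent.Helper27.Fi22TC.A1.R7, List.map_cons, List.map_nil, List.prod_cons,
        List.prod_nil, cond_true, mul_one] using h0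
    · have h0 := hrel Cfsg.Agent.Helper27.Fi22TC.A1.R8
        (List.Mem.tail _ (List.Mem.tail _ (List.Mem.tail _ (List.Mem.tail _ (List.Mem.tail _
          (List.Mem.tail _ (List.Mem.tail _ (List.Mem.tail _ (List.Mem.head _)))))))))
      simpa only [Cfsg.Agent.Helper27.Fi22TC.A1.R8, List.map_cons, List.map_nil, List.prod_cons,
        List.prod_nil, cond_true, mul_one] using h0
  have hlw := h10_link_word M σ hlink hdec hDE hσσ
  -- the matrices are involutions
  have hMM : ∀ x, M x * M x = 1 := by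
    intro x
    apply hfaith
    intro p hp
    have h1 := hlw [(x, true), (x, true)] ⟨p, hp⟩
    simp only [List.map_cons, List.map_nil, List.prod_cons, List.prod_nil, cond_true, mul_one,
      Matrix.mul_one] at h1
    rw [hσσ x] at h1
    rw [← h1, Matrix.one_mulVec, hdec p hp]
    rfl
  -- the units
  let u : Gen → Matrix.GeneralLinearGroup ι (ZMod 3) := fun x => ⟨M x, M x, hMM x, hMM x⟩
  have hu : ∀ x, u x ∈ Cfsg.isometryGroup (ZMod 3) Q := by
    intro x v _
    show Q (M x *ᵥ v) = Q v
    have h1 := hQ x (encN v) (hlt v)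
    rw [hDE] at h1
    exact h1
  let f : Gen → ↥(Cfsg.isometryGroup (ZMod 3) Q) := fun x => ⟨u x, hu x⟩
  have hfinv : ∀ x, (f x)⁻¹ = f x := by
    intro x
    apply inv_eq_of_mul_eq_one_right
    apply Subtype.ext
    apply Units.ext
    exact hMM x
  -- matrices of words
  have hword : ∀ w : List (Gen × Bool),
      ((((w.map (fun l => cond l.2 (f l.1) (f l.1)⁻¹)).prod : ↥(Cfsg.isometryGroup (ZMod 3) Q)) :
        Matrix.GeneralLinearGroup ι (ZMod 3)) : Matrix ι ι (ZMod 3)) =
        (w.map (fun l => M l.1)).prod := by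
    intro w
    induction w with
    | nil => rfl
    | cons l w ih =>
      rw [List.map_cons, List.prod_cons, List.map_cons, List.prod_cons, Subgroup.coe_mul,
        Units.val_mul, ih]
      have hc : cond l.2 (f l.1) (f l.1)⁻¹ = f l.1 := by
        cases l.2
        · exact hfinv l.1
        · rfl
      rw [hc]
  have hrels : ∀ r ∈ Cfsg.Agent.Helper27.Fi22TC.A1.D.rels, FreeGroup.lift f r = 1 := by
    rintro r ⟨w, hw, rfl⟩
    rw [FreeGroup.lift_mk]
    apply Subtype.ext
    apply Units.ext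
    have h2 : (w.map (fun l => M l.1)).prod = 1 := by
      apply hfaith
      intro p hp
      have h1 := hlw w ⟨p, hp⟩
      rw [hrel w hw] at h1
      rw [← h1, Matrix.one_mulVec, hdec p hp]
      rfl
    rw [hword w, h2]
    rfl
  refine ⟨PresentedGroup.toGroup hrels, ?_⟩
  intro x
  rw [PresentedGroup.toGroup.of]

end Cfsg.Agent.Helper10.O7F
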