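import Mathlib
import Cfsg.Prelude.Def_PLocal
import Cfsg.Agent.Lib.Helper10.ElemAb
import Cfsg.Agent.Lib.Helper31.HyperplaneGen
import Cfsg.Agent.Lib.Helper49.PxQ
import Cfsg.Agent.Lib.Helper54.Solv

/-!
# Best offenders in groups with `C_H(O_{p'}(H)) ≤ O_{p'}(H)` (Kurzweil–Stellmacher 9.3)

Key lemma: a nontrivial best offender `A` has a hyperplane `A₀` with
`|C_V(A₀)| = p |C_V(A)|`; hence `A₀` is again a best offender with the same value of
`|A| |C_V(A)|`.
-/

set_option autoImplicit false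

namespace Cfsg.Agent.Helper10

open Cfsg

open scoped commutatorElement

universe u

variable {G : Type u} [Group G]

/-- The setup `S₁`, `S₂` of Kurzweil–Stellmacher 9.3: `H` acts faithfully on the elementary
abelian `p`-group `V` and `C_H(O_{p'}(H)) ≤ O_{p'}(H)`. -/
structure FFSetup (p : ℕ) (V H : Subgroup G) : Prop where
  hV : IsElementaryAbelian p V
  hHV : H ≤ Subgroup.normalizer (V : Set G)
  hf : H ⊓ Subgroup.centralizer (V : Set G) = ⊥
  hS1 : Subgroup.centralizer (pPrimeCore p ↥H : Set ↥H) ≤ pPrimeCore p ↥H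

/-- `O_{p'}(H)` as a subgroup of `G`. -/
def FFSetup.Q {p : ℕ} {V H : Subgroup G} (_ : FFSetup p V H) : Subgroup G :=
  (pPrimeCore p ↥H).map H.subtype

namespace FFSetup

variable {p : ℕ} {V H : Subgroup G} (S : FFSetup p V H)

include S

theorem Q_le : S.Q ≤ H := Subgroup.map_subtype_le _

theorem Q_coprime [Finite G] : (Nat.card S.Q).Coprime p := by
  unfold FFSetup.Q
  rw [Subgroup.card_map_of_injective H.subtype_injective]
  exact Cfsg.Agent.Helper54.pPrimeCore_coprime p

theorem le_normalizer_Q : H ≤ Subgroup.normalizer (S.Q : Set G) := by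
  intro h hh
  have h1 : (Subgroup.normalizer ((pPrimeCore p ↥H : Subgroup H) : Set H)).map H.subtype ≤
      Subgroup.normalizer (S.Q : Set G) := Subgroup.le_normalizer_map _
  rw [Subgroup.normalizer_eq_top, ← MonoidHom.range_eq_map, Subgroup.range_subtype] at h1
  exact h1 hh

/-- elements of `H` centralizing `O_{p'}(H)` lie in it -/
theorem mem_Q_of_centralizes {x : G} (hx : x ∈ H) (hc : ∀ y ∈ S.Q, y * x = x * y) : x ∈ S.Q := by
  have h1 : (⟨x, hx⟩ : H) ∈ Subgroup.centralizer (pPrimeCore p ↥H : Set ↥H) := by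
    rw [Subgroup.mem_centralizer_iff]
    intro y hy
    apply Subtype.ext
    exact hc y ⟨y, hy, rfl⟩
  exact ⟨⟨x, hx⟩, S.hS1 h1, rfl⟩

theorem eq_one_of_mem_of_centralizes {x : G} (hx : x ∈ H) (hc : x ∈ Subgroup.centralizer (V : Set G)) :
    x = 1 := by
  have : x ∈ H ⊓ Subgroup.centralizer (V : Set G) := ⟨hx, hc⟩
  rw [S.hf, Subgroup.mem_bot] at this
  exact this

/-- A best offender inside `H` is elementary abelian. -/
theorem offender_comm {A : Subgroup G} (hAH : A ≤ H) (hA : IsBestOffenderOn p V A) :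
    ∀ x ∈ A, ∀ y ∈ A, x * y = y * x := by
  intro x hx y hy
  have h1 : ⁅x, y⁆ ∈ Subgroup.centralizer (V : Set G) :=
    hA.2.1 (Subgroup.commutator_mem_commutator hx hy)
  have h2 : ⁅x, y⁆ ∈ H := by
    rw [commutatorElement_def]
    exact H.mul_mem (H.mul_mem (H.mul_mem (hAH hx) (hAH hy)) (H.inv_mem (hAH hx)))
      (H.inv_mem (hAH hy))
  have h3 := S.eq_one_of_mem_of_centralizes h2 h1
  exact commutatorElement_eq_one_iff_mul_comm.mp h3

theorem offender_pow {A : Subgroup G} (hAH : A ≤ H) (hA : IsBestOffenderOn p V A) :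
    ∀ x ∈ A, x ^ p = 1 := by
  intro x hx
  exact S.eq_one_of_mem_of_centralizes (H.pow_mem (hAH hx) p) (hA.2.2 x hx)

theorem offender_isPGroup {A : Subgroup G} (hAH : A ≤ H) (hA : IsBestOffenderOn p V A) :
    IsPGroup p A := by
  rintro ⟨x, hx⟩
  refine ⟨1, Subtype.ext ?_⟩
  simpa using S.offender_pow hAH hA x hx

omit S in
/-- a commutator with a normalizing subgroup stays inside -/
theorem commutator_le_of_le_normalizer' (R A : Subgroup G)
    (hA : A ≤ Subgroup.normalizer (R : Set G)) : ⁅R, A⁆ ≤ R := by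
  rw [Subgroup.commutator_le]
  intro q hq x hx
  rw [commutatorElement_def]
  have h1 : x * q⁻¹ * x⁻¹ ∈ R := (hA hx q⁻¹).mp (R.inv_mem hq)
  have : q * x * q⁻¹ * x⁻¹ = q * (x * q⁻¹ * x⁻¹) := by group
  rw [this]
  exact R.mul_mem hq h1

/-- the core step: a subgroup `A₀ ≤ A` whose centralizer in `O_{p'}(H)` is not centralized by
`A` has strictly more fixed points on `V` than `A`. -/
theorem not_inf_centralizer_le [Finite G] [Fact p.Prime] {A A₀ : Subgroup G} (hAH : A ≤ H)
    (hA : IsBestOffenderOn p V A) (hA₀ : A₀ ≤ A)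
    (hnot : ¬ S.Q ⊓ Subgroup.centralizer (A₀ : Set G) ≤ Subgroup.centralizer (A : Set G)) :
    ¬ V ⊓ Subgroup.centralizer (A₀ : Set G) ≤ Subgroup.centralizer (A : Set G) := by
  intro hU
  apply hnot
  have hAc := S.offender_comm hAH hA
  set R := S.Q ⊓ Subgroup.centralizer (A₀ : Set G) with hR
  set T := ⁅R, A⁆ with hT
  have hAR : A ≤ Subgroup.normalizer (R : Set G) := by
    have h1 : A ≤ Subgroup.normalizer (S.Q : Set G) := hAH.trans S.le_normalizer_Q
    have h2 : A ≤ Subgroup.normalizer ((Subgroup.centralizer (A₀ : Set G) : Subgroup G) : Set G) := by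
      refine le_trans ?_ Subgroup.le_normalizer
      rw [Subgroup.le_centralizer_iff]
      intro x hx
      rw [Subgroup.mem_centralizer_iff]
      intro a ha
      exact hAc a ha x (hA₀ hx)
    exact (le_inf h1 h2).trans Subgroup.inf_normalizer_le_normalizer_inf
  have hTR : T ≤ R := commutator_le_of_le_normalizer' R A hAR
  have hTQ : T ≤ S.Q := hTR.trans inf_le_left
  have hTH : T ≤ H := hTQ.trans S.Q_le
  have hTC : T ≤ Subgroup.centralizer ((V ⊓ Subgroup.centralizer (A₀ : Set G) : Subgroup G) : Set G) := by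
    rw [hT, Subgroup.commutator_le]
    intro r hr a ha
    rw [Subgroup.mem_centralizer_iff]
    intro u hu
    have hrH : r ∈ H := S.Q_le hr.1
    obtain ⟨w, hw⟩ : ∃ w, w = r⁻¹ * u * r := ⟨_, rfl⟩
    have hwU : w ∈ V ⊓ Subgroup.centralizer (A₀ : Set G) := by
      rw [hw]
      refine ⟨?_, ?_⟩
      · have := (S.hHV (H.inv_mem hrH)) u
        rw [inv_inv] at this
        exact this.mp hu.1
      · have h1 : r ∈ Subgroup.centralizer (A₀ : Set G) := hr.2
        have h2 : u ∈ Subgroup.centralizer (A₀ : Set G) := hu.2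
        change r⁻¹ * u * r ∈ Subgroup.centralizer (A₀ : Set G)
        rw [Subgroup.mem_centralizer_iff] at h1 h2 ⊢
        intro x hx
        have e1 := h1 x hx
        have e2 := h2 x hx
        have e3 : x * r⁻¹ = r⁻¹ * x := (show Commute x r from e1).inv_right.eq
        calc x * (r⁻¹ * u * r) = (x * r⁻¹) * u * r := by group
          _ = r⁻¹ * (x * u) * r := by rw [e3]; group
          _ = r⁻¹ * (u * x) * r := by rw [e2]
          _ = r⁻¹ * u * (x * r) := by group
          _ = r⁻¹ * u * (r * x) := by rw [e1]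
          _ = r⁻¹ * u * r * x := by group
    have hua : a * u = u * a := (Subgroup.mem_centralizer_iff.mp (hU hu)) a ha
    have hwa : a * w = w * a := (Subgroup.mem_centralizer_iff.mp (hU hwU)) a ha
    have hua' : u * a⁻¹ = a⁻¹ * u := (show Commute a u from hua).symm.inv_right.eq
    have e1 : u = r * w * r⁻¹ := by rw [hw]; group
    rw [commutatorElement_def]
    calc u * (r * a * r⁻¹ * a⁻¹) = r * (w * a) * r⁻¹ * a⁻¹ := by rw [e1]; group
      _ = r * (a * w) * r⁻¹ * a⁻¹ := by rw [hwa]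
      _ = r * a * r⁻¹ * (r * w * r⁻¹) * a⁻¹ := by group
      _ = r * a * r⁻¹ * u * a⁻¹ := by rw [← e1]
      _ = r * a * r⁻¹ * (u * a⁻¹) := by group
      _ = r * a * r⁻¹ * (a⁻¹ * u) := by rw [hua']
      _ = r * a * r⁻¹ * a⁻¹ * u := by group
  have hA₀p : IsPGroup p A₀ := (S.offender_isPGroup hAH hA).to_le hA₀
  have hTcop : (Nat.card T).Coprime p :=
    Nat.Coprime.coprime_dvd_left (Subgroup.card_dvd_of_le hTQ) S.Q_coprime
  have hVp : IsPGroup p V := elemAb_isPGroup S.hV
  have hTV : T ≤ Subgroup.centralizer (V : Set G) := by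
    apply Cfsg.Agent.Helper49.thompson_PxQ p A₀ T V hA₀p hTcop hVp
    · rw [Subgroup.le_centralizer_iff]
      exact hTR.trans inf_le_right
    · exact (hA₀.trans hAH).trans S.hHV
    · exact hTH.trans S.hHV
    · rw [Subgroup.le_centralizer_iff]
      exact hTC
  have hTbot : T = ⊥ := by
    rw [eq_bot_iff, ← S.hf]
    exact le_inf hTH hTV
  rw [hT, Subgroup.commutator_eq_bot_iff_le_centralizer] at hTbot
  exact hTbot

omit S in
/-- proper containment of `p`-subgroups costs a factor `p` -/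
theorem exists_mul_card_of_lt [Finite G] [Fact p.Prime] {U₁ U₀ : Subgroup G} (hU₀ : IsPGroup p U₀)
    (hle : U₁ ≤ U₀) (hne : U₁ ≠ U₀) : ∃ k, p ≤ k ∧ Nat.card U₀ = Nat.card U₁ * k := by
  have hp : p.Prime := Fact.out
  obtain ⟨k, hk⟩ := Subgroup.card_dvd_of_le hle
  refine ⟨k, ?_, hk⟩
  obtain ⟨d, hd⟩ := IsPGroup.iff_card.mp hU₀
  have hkd : k ∣ p ^ d := ⟨Nat.card U₁, by rw [← hd, hk, mul_comm]⟩
  obtain ⟨j, -, hj⟩ := (Nat.dvd_prime_pow hp).mp hkd
  rcases Nat.eq_zero_or_pos j with h0 | h0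
  · exfalso
    rw [h0, pow_zero] at hj
    rw [hj, mul_one] at hk
    exact hne (Subgroup.eq_of_le_of_card_ge hle hk.le)
  · rw [hj]
    calc p = p ^ 1 := (pow_one p).symm
      _ ≤ p ^ j := Nat.pow_le_pow_right hp.pos h0

/-- counting form of the key lemma -/
theorem hyperplane_offender_of_not_le [Finite G] [Fact p.Prime] {A A₀ : Subgroup G} (hAH : A ≤ H)
    (hA : IsBestOffenderOn p V A) (hA₀ : A₀ ≤ A) (hcard : Nat.card A ≤ p * Nat.card A₀)
    (hnot : ¬ S.Q ⊓ Subgroup.centralizer (A₀ : Set G) ≤ Subgroup.centralizer (A : Set G)) :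
    Nat.card A = p * Nat.card A₀ ∧
      Nat.card ↥(V ⊓ Subgroup.centralizer (A₀ : Set G)) =
        p * Nat.card ↥(V ⊓ Subgroup.centralizer (A : Set G)) := by
  have hp : p.Prime := Fact.out
  have h1 := S.not_inf_centralizer_le hAH hA hA₀ hnot
  set U₀ := V ⊓ Subgroup.centralizer (A₀ : Set G) with hU₀
  set U₁ := V ⊓ Subgroup.centralizer (A : Set G) with hU₁
  have hle : U₁ ≤ U₀ := inf_le_inf_left V (Subgroup.centralizer_le hA₀)
  have hne : U₁ ≠ U₀ := by
    intro h
    apply h1
    rw [← h]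
    exact inf_le_right
  have hU₀p : IsPGroup p U₀ := (elemAb_isPGroup S.hV).to_le inf_le_left
  obtain ⟨k, hpk, hk⟩ := exists_mul_card_of_lt hU₀p hle hne
  have hbo := hA.1 A₀ hA₀
  rw [hk] at hbo ⊢
  set x := Nat.card A₀ with hx
  set y := Nat.card U₁ with hy
  set n := Nat.card A with hn
  have hx0 : 0 < x := Nat.card_pos
  have hy0 : 0 < y := Nat.card_pos
  -- x * (y * k) ≤ n * y ≤ p * x * y
  have h2 : x * (y * k) ≤ p * x * y := by
    calc x * (y * k) ≤ n * y := hbo
      _ ≤ p * x * y := Nat.mul_le_mul_right y hcard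
  have h3 : k ≤ p := by
    have : (x * y) * k ≤ (x * y) * p := by
      calc (x * y) * k = x * (y * k) := by ring
        _ ≤ p * x * y := h2
        _ = (x * y) * p := by ring
    exact Nat.le_of_mul_le_mul_left this (Nat.mul_pos hx0 hy0)
  have hkp : k = p := le_antisymm h3 hpk
  refine ⟨?_, ?_⟩
  · rw [hkp] at hbo
    have h4 : (p * x) * y ≤ n * y := by
      calc (p * x) * y = x * (y * p) := by ring
        _ ≤ n * y := hbo
    have h5 : p * x ≤ n := Nat.le_of_mul_le_mul_right h4 hy0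
    exact le_antisymm hcard h5
  · rw [hkp, mul_comm]

/-- **Key lemma** (Kurzweil–Stellmacher 9.3): a nontrivial best offender has a hyperplane that is
a best offender with the same value. -/
theorem exists_hyperplane_offender [Finite G] [Fact p.Prime] {A : Subgroup G} (hAH : A ≤ H)
    (hA : IsBestOffenderOn p V A) (hA1 : A ≠ ⊥) :
    ∃ A₀ : Subgroup G, A₀ ≤ A ∧ Nat.card A = p * Nat.card A₀ ∧
      Nat.card ↥(V ⊓ Subgroup.centralizer (A₀ : Set G)) =
        p * Nat.card ↥(V ⊓ Subgroup.centralizer (A : Set G)) := by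
  have hp : p.Prime := Fact.out
  have hAc := S.offender_comm hAH hA
  have hAp := S.offender_pow hAH hA
  have hQA : ¬ S.Q ≤ Subgroup.centralizer (A : Set G) := by
    intro hle
    apply hA1
    rw [eq_bot_iff]
    intro x hx
    have hxQ : x ∈ S.Q := S.mem_Q_of_centralizes (hAH hx) (fun y hy =>
      ((Subgroup.mem_centralizer_iff.mp (hle hy)) x hx).symm)
    have h1 : orderOf x ∣ Nat.gcd (Nat.card S.Q) p :=
      Nat.dvd_gcd (Subgroup.orderOf_dvd_natCard _ hxQ) (orderOf_dvd_of_pow_eq_one (hAp x hx))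
    rw [S.Q_coprime.gcd_eq_one, Nat.dvd_one, orderOf_eq_one_iff] at h1
    rw [Subgroup.mem_bot]; exact h1
  by_contra hcon
  apply hQA
  apply Cfsg.Agent.Helper31.le_of_forall_hyperplane_centralizer_le
    (Subgroup.centralizer (A : Set G)) (Nat.card A) A S.Q rfl hAc hAp
    (hAH.trans S.le_normalizer_Q) S.Q_coprime
  intro E' hE' hcard
  by_contra hnot
  apply hcon
  obtain ⟨h1, h2⟩ := S.hyperplane_offender_of_not_le hAH hA hE' hcard hnot
  exact ⟨E', hE', h1, h2⟩

omit S in
/-- a subgroup of a best offender with the same value is a best offender -/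
theorem isBestOffenderOn_of_card_eq {A A₀ : Subgroup G} (hA : IsBestOffenderOn p V A) (hA₀ : A₀ ≤ A)
    (heq : Nat.card A₀ * Nat.card ↥(V ⊓ Subgroup.centralizer (A₀ : Set G)) =
      Nat.card A * Nat.card ↥(V ⊓ Subgroup.centralizer (A : Set G))) :
    IsBestOffenderOn p V A₀ := by
  refine ⟨fun B hB => ?_, ?_, ?_⟩
  · rw [heq]; exact hA.1 B (hB.trans hA₀)
  · exact (Subgroup.commutator_mono hA₀ hA₀).trans hA.2.1
  · exact fun a ha => hA.2.2 a (hA₀ ha)

/-- the hyperplane of the key lemma is a best offender -/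
theorem exists_hyperplane_bestOffender [Finite G] [Fact p.Prime] {A : Subgroup G} (hAH : A ≤ H)
    (hA : IsBestOffenderOn p V A) (hA1 : A ≠ ⊥) :
    ∃ A₀ : Subgroup G, A₀ ≤ A ∧ IsBestOffenderOn p V A₀ ∧ Nat.card A = p * Nat.card A₀ ∧
      Nat.card ↥(V ⊓ Subgroup.centralizer (A₀ : Set G)) =
        p * Nat.card ↥(V ⊓ Subgroup.centralizer (A : Set G)) := by
  obtain ⟨A₀, h1, h2, h3⟩ := S.exists_hyperplane_offender hAH hA hA1
  refine ⟨A₀, h1, isBestOffenderOn_of_card_eq hA h1 ?_, h2, h3⟩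
  rw [h2, h3]; ring

/-- **KS 9.3.8 (1)**: every nontrivial best offender `A` satisfies `|A| |C_V(A)| = |V|`. -/
theorem card_mul_card_centralizer_eq [Finite G] [Fact p.Prime] :
    ∀ (n : ℕ) (A : Subgroup G), Nat.card A = n → A ≤ H → IsBestOffenderOn p V A →
      Nat.card A * Nat.card ↥(V ⊓ Subgroup.centralizer (A : Set G)) = Nat.card V := by
  have hp : p.Prime := Fact.out
  intro n
  induction n using Nat.strong_induction_on with
  | _ n ih =>
  intro A hn hAH hA
  by_cases hA1 : A = ⊥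
  · subst hA1
    rw [Subgroup.card_bot, one_mul]
    have : V ⊓ Subgroup.centralizer ((⊥ : Subgroup G) : Set G) = V := by
      rw [Subgroup.coe_bot, Subgroup.centralizer_eq_top_iff_subset.mpr, inf_top_eq]
      simp
    rw [this]
  · obtain ⟨A₀, h1, h2, h3, h4⟩ := S.exists_hyperplane_bestOffender hAH hA hA1
    have hlt : Nat.card A₀ < n := by
      rw [← hn, h3]
      have : 0 < Nat.card A₀ := Nat.card_pos
      nlinarith [hp.two_le]
    have := ih _ hlt A₀ rfl (h1.trans hAH) h2
    rw [← this, h3, h4]; ring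

end FFSetup

end Cfsg.Agent.Helper10
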