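import Mathlib
import Cfsg.Agent.Lib.Helper10.Offender
import Cfsg.Agent.Lib.Helper10.CommZpowers
import Cfsg.Agent.Lib.Helper10.Card

/-!
# Best offenders are direct products of minimal best offenders (KS 9.3)
-/

set_option autoImplicit false

namespace Cfsg.Agent.Helper10

open Cfsg

open scoped commutatorElement Pointwise

universe u

variable {G : Type u} [Group G]

/-- independence of a family extended by a commuting disjoint subgroup -/
theorem iSupIndep_cons {k : ℕ} (B' : Fin k → Subgroup G) (A₁ A' : Subgroup G)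
    (hB' : iSupIndep B') (hle : ∀ i, B' i ≤ A') (hdis : Disjoint A₁ A')
    (hcomm : ∀ x ∈ A₁, ∀ y ∈ A', x * y = y * x) :
    iSupIndep (Fin.cons A₁ B' : Fin (k + 1) → Subgroup G) := by
  intro i
  refine Fin.cases ?_ (fun i' => ?_) i
  · -- i = 0
    apply hdis.mono_right
    apply iSup_le
    intro j
    apply iSup_le
    intro hj
    obtain ⟨j', rfl⟩ := Fin.exists_succ_eq.mpr hj
    rw [Fin.cons_succ]
    exact hle j'
  · rw [Fin.cons_succ]
    set C := ⨆ (j : Fin k) (_ : j ≠ i'), B' j with hC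
    have hCA' : C ≤ A' := by
      apply iSup_le; intro j; apply iSup_le; intro _; exact hle j
    have hsub : (⨆ (j : Fin (k + 1)) (_ : j ≠ i'.succ), (Fin.cons A₁ B' : Fin (k + 1) → Subgroup G) j)
        ≤ A₁ ⊔ C := by
      apply iSup_le
      intro j
      refine Fin.cases ?_ (fun j' => ?_) j
      · apply iSup_le; intro _; rw [Fin.cons_zero]; exact le_sup_left
      · apply iSup_le; intro hj; rw [Fin.cons_succ]
        have hj' : j' ≠ i' := fun h => hj (by rw [h])
        exact le_trans (le_iSup₂_of_le j' hj' le_rfl) le_sup_right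
    refine Disjoint.mono_right hsub ?_
    rw [Subgroup.disjoint_def]
    intro x hx1 hx2
    have hA₁C : A₁ ≤ Subgroup.normalizer (C : Set G) := by
      intro a ha
      rw [Subgroup.mem_normalizer_iff]
      intro c
      constructor
      · intro hc
        have := hcomm a ha c (hCA' hc)
        rw [this, mul_inv_cancel_right]; exact hc
      · intro hc
        have h1 : a * c * a⁻¹ ∈ A' := hCA' hc
        have h2 := hcomm a⁻¹ (A₁.inv_mem ha) _ h1
        have e : c = a⁻¹ * (a * c * a⁻¹) * a := by group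
        rw [e, h2]
        have : a * c * a⁻¹ * a⁻¹ * a = a * c * a⁻¹ := by group
        rw [this]; exact hc
    have hx2' : x ∈ ((A₁ ⊔ C : Subgroup G) : Set G) := hx2
    rw [Subgroup.coe_mul_of_left_le_normalizer_right A₁ C hA₁C] at hx2'
    obtain ⟨a, ha, c, hc, rfl⟩ := Set.mem_mul.mp hx2'
    have ha1 : a = 1 := by
      have h1 : a ∈ A' := by
        have : a = (a * c) * c⁻¹ := by group
        rw [this]
        exact A'.mul_mem (hle i' hx1) (A'.inv_mem (hCA' hc))
      exact Subgroup.disjoint_def.mp hdis ha h1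
    rw [ha1, one_mul] at hx1 ⊢
    exact Subgroup.disjoint_def.mp (hB' i') hx1 hc

namespace FFSetup

variable {p : ℕ} {V H : Subgroup G} (S : FFSetup p V H)

include S

/-- a subgroup of `H` acting trivially on `V` is trivial -/
theorem eq_bot_of_commutator_eq_bot {A : Subgroup G} (hAH : A ≤ H) (h : ⁅V, A⁆ = ⊥) : A = ⊥ := by
  rw [Subgroup.commutator_eq_bot_iff_le_centralizer, ← Subgroup.le_centralizer_iff] at h
  rw [eq_bot_iff, ← S.hf]
  exact le_inf hAH h

/-- minimal nontrivially acting best offenders have order `p` -/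
theorem card_eq_prime_of_minimal [Finite G] [Fact p.Prime] {A : Subgroup G} (hAH : A ≤ H)
    (hA : IsBestOffenderOn p V A) (hAV : ⁅V, A⁆ ≠ ⊥)
    (hmin : ∀ B : Subgroup G, B ≤ A → IsBestOffenderOn p V B → ⁅V, B⁆ ≠ ⊥ → B = A) :
    Nat.card A = p := by
  have hp : p.Prime := Fact.out
  have hA1 : A ≠ ⊥ := by
    rintro rfl
    exact hAV (Subgroup.commutator_bot_right V)
  obtain ⟨A₀, h1, h2, h3, -⟩ := S.exists_hyperplane_bestOffender hAH hA hA1
  have hA₀V : ⁅V, A₀⁆ = ⊥ := by
    by_contra hne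
    have := hmin A₀ h1 h2 hne
    rw [this] at h3
    have hpos : 0 < Nat.card A := Nat.card_pos
    nlinarith [hp.two_le]
  rw [h3, S.eq_bot_of_commutator_eq_bot (h1.trans hAH) hA₀V, Subgroup.card_bot, mul_one]

/-- `O_{p'}(H)` is not centralized by a nontrivial best offender -/
theorem not_Q_le_centralizer [Finite G] [Fact p.Prime] {A : Subgroup G} (hAH : A ≤ H)
    (hA : IsBestOffenderOn p V A) (hA1 : A ≠ ⊥) :
    ¬ S.Q ≤ Subgroup.centralizer (A : Set G) := by
  have hAp := S.offender_pow hAH hA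
  intro hle
  apply hA1
  rw [eq_bot_iff]
  intro x hx
  have hxQ : x ∈ S.Q := S.mem_Q_of_centralizes (hAH hx) (fun y hy =>
    ((Subgroup.mem_centralizer_iff.mp (hle hy)) x hx).symm)
  have h1 : orderOf x ∣ Nat.gcd (Nat.card S.Q) p :=
    Nat.dvd_gcd (Subgroup.orderOf_dvd_natCard _ hxQ) (orderOf_dvd_of_pow_eq_one (hAp x hx))
  rw [S.Q_coprime.gcd_eq_one, Nat.dvd_one, orderOf_eq_one_iff] at h1
  rw [Subgroup.mem_bot]; exact h1

/-- **KS 9.3**: every best offender is an internal direct product of minimal ones. -/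
theorem exists_decomposition [Finite G] [Fact p.Prime] :
    ∀ (n : ℕ) (A : Subgroup G), Nat.card A = n → A ≤ H → IsBestOffenderOn p V A →
      ∃ (k : ℕ) (B : Fin k → Subgroup G),
        (∀ i, B i ≤ A ∧ IsBestOffenderOn p V (B i) ∧ ⁅V, B i⁆ ≠ ⊥ ∧
          ∀ C : Subgroup G, C ≤ B i → IsBestOffenderOn p V C → ⁅V, C⁆ ≠ ⊥ → C = B i) ∧
        iSupIndep B ∧ ⨆ i, B i = A := by
  classical
  have hp : p.Prime := Fact.out
  intro n
  induction n using Nat.strong_induction_on with
  | _ n ih =>
  intro A hn hAH hA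
  by_cases hA1 : A = ⊥
  · subst hA1
    refine ⟨0, fun i => i.elim0, fun i => i.elim0, fun i => i.elim0, ?_⟩
    exact iSup_of_empty _
  · have hAV : ⁅V, A⁆ ≠ ⊥ := fun h => hA1 (S.eq_bot_of_commutator_eq_bot hAH h)
    -- a minimal nontrivially acting best offender inside `A`
    have hex : ∃ m : ℕ, ∃ B : Subgroup G, B ≤ A ∧ IsBestOffenderOn p V B ∧ ⁅V, B⁆ ≠ ⊥ ∧
        Nat.card B = m := ⟨_, A, le_rfl, hA, hAV, rfl⟩
    obtain ⟨A₁, hA₁A, hA₁, hA₁V, hA₁card⟩ := Nat.find_spec hex
    have hA₁min : ∀ C : Subgroup G, C ≤ A₁ → IsBestOffenderOn p V C → ⁅V, C⁆ ≠ ⊥ → C = A₁ := by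
      intro C hC hCb hCV
      apply Subgroup.eq_of_le_of_card_ge hC
      rw [hA₁card]
      exact Nat.find_min' hex ⟨C, hC.trans hA₁A, hCb, hCV, rfl⟩
    have hA₁H : A₁ ≤ H := hA₁A.trans hAH
    have hA₁p : Nat.card A₁ = p := S.card_eq_prime_of_minimal hA₁H hA₁ hA₁V hA₁min
    have hA₁1 : A₁ ≠ ⊥ := by
      rintro h
      rw [h, Subgroup.card_bot] at hA₁p
      exact hp.one_lt.ne hA₁p
    -- a hyperplane of `A` avoiding `A₁`
    have hQA₁ := S.not_Q_le_centralizer hA₁H hA₁ hA₁1
    have hAc := S.offender_comm hAH hA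
    have hAp := S.offender_pow hAH hA
    have hexE : ∃ E' : Subgroup G, E' ≤ A ∧ Nat.card A ≤ p * Nat.card E' ∧
        ¬ S.Q ⊓ Subgroup.centralizer (E' : Set G) ≤ Subgroup.centralizer (A₁ : Set G) := by
      by_contra hcon
      apply hQA₁
      apply Cfsg.Agent.Helper31.le_of_forall_hyperplane_centralizer_le
        (Subgroup.centralizer (A₁ : Set G)) (Nat.card A) A S.Q rfl hAc hAp
        (hAH.trans S.le_normalizer_Q) S.Q_coprime
      intro E' hE' hcard
      by_contra hnot
      exact hcon ⟨E', hE', hcard, hnot⟩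
    obtain ⟨A', hA'A, hcard, hnot⟩ := hexE
    have hnot' : ¬ S.Q ⊓ Subgroup.centralizer (A' : Set G) ≤ Subgroup.centralizer (A : Set G) :=
      fun h => hnot (h.trans (Subgroup.centralizer_le hA₁A))
    obtain ⟨hc1, hc2⟩ := S.hyperplane_offender_of_not_le hAH hA hA'A hcard hnot'
    have hA' : IsBestOffenderOn p V A' := isBestOffenderOn_of_card_eq hA hA'A (by rw [hc1, hc2]; ring)
    -- `A₁ ⊓ A' = ⊥`
    have hdis : Disjoint A₁ A' := by
      rw [disjoint_iff]
      by_contra hne
      -- `A₁ ⊓ A'` is a nontrivial subgroup of the group `A₁` of prime order, so `A₁ ≤ A'`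
      have h1 : Nat.card ↥(A₁ ⊓ A') ∣ p := hA₁p ▸ Subgroup.card_dvd_of_le inf_le_left
      rcases (Nat.dvd_prime hp).mp h1 with h2 | h2
      · exact hne (Subgroup.card_eq_one.mp h2)
      · have h3 : A₁ ⊓ A' = A₁ :=
          Subgroup.eq_of_le_of_card_ge inf_le_left (by rw [h2, hA₁p])
        have h4 : A₁ ≤ A' := by rw [← h3]; exact inf_le_right
        exact hnot (inf_le_right.trans (Subgroup.centralizer_le h4))
    -- `A₁ ⊔ A' = A`
    have hsup : A₁ ⊔ A' = A := by
      have hle : A₁ ⊔ A' ≤ A := sup_le hA₁A hA'A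
      apply Subgroup.eq_of_le_of_card_ge hle
      have hlt : A' < A₁ ⊔ A' := by
        refine lt_of_le_of_ne le_sup_right ?_
        intro h
        have : A₁ ≤ A' := by rw [h]; exact le_sup_left
        have h5 : A₁ ⊓ A' = A₁ := inf_of_le_left this
        rw [disjoint_iff, h5] at hdis
        exact hA₁1 hdis
      obtain ⟨j, hj⟩ := Subgroup.card_dvd_of_le (le_sup_right : A' ≤ A₁ ⊔ A')
      obtain ⟨i, hi⟩ := Subgroup.card_dvd_of_le hle
      have hA'pos : 0 < Nat.card A' := Nat.card_pos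
      have hj1 : j ≠ 1 := by
        rintro rfl
        rw [mul_one] at hj
        exact hlt.ne (Subgroup.eq_of_le_of_card_ge le_sup_right hj.le)
      have hjp : j * i = p := by
        have : Nat.card A' * (j * i) = Nat.card A' * p := by
          rw [← mul_assoc, ← hj, ← hi, hc1]; ring
        exact Nat.eq_of_mul_eq_mul_left hA'pos this
      have hjdvd : j ∣ p := ⟨i, hjp.symm⟩
      rcases (Nat.dvd_prime hp).mp hjdvd with h | h
      · exact absurd h hj1
      · rw [hj, h, hc1, mul_comm]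
    -- induction on `A'`
    have hlt : Nat.card A' < n := by
      rw [← hn, hc1]
      have : 0 < Nat.card A' := Nat.card_pos
      nlinarith [hp.two_le]
    obtain ⟨k, B', hB', hind, hsupB⟩ := ih _ hlt A' rfl (hA'A.trans hAH) hA'
    refine ⟨k + 1, Fin.cons A₁ B', ?_, ?_, ?_⟩
    · intro i
      refine Fin.cases ?_ (fun i' => ?_) i
      · rw [Fin.cons_zero]
        exact ⟨hA₁A, hA₁, hA₁V, hA₁min⟩
      · rw [Fin.cons_succ]
        obtain ⟨h1, h2, h3, h4⟩ := hB' i'
        exact ⟨h1.trans hA'A, h2, h3, h4⟩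
    · apply iSupIndep_cons B' A₁ A' hind (fun i => (hB' i).1) hdis
      intro x hx y hy
      exact hAc x (hA₁A hx) y (hA'A hy)
    · apply le_antisymm
      · apply iSup_le
        intro i
        refine Fin.cases ?_ (fun i' => ?_) i
        · rw [Fin.cons_zero]; exact hA₁A
        · rw [Fin.cons_succ]; exact (hB' i').1.trans hA'A
      · rw [← hsup]
        apply sup_le
        · exact le_iSup_of_le 0 (by rw [Fin.cons_zero])
        · rw [← hsupB]
          apply iSup_le
          intro i'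
          exact le_iSup_of_le i'.succ (by rw [Fin.cons_succ])

end FFSetup

end Cfsg.Agent.Helper10
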