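import Mathlib

/-!
# Quadratic pairs (Kurzweil–Stellmacher 9.3)

Two generators acting quadratically on a finite-dimensional space over a finite field of
characteristic `p`, the `p'`-part of the order of their product dividing `q - 1`: every
element of order prime to `p` that acts nontrivially survives in a homomorphism to `SL₂(K)`.
-/

namespace Cfsg.Agent.Helper10

universe u v w

open Polynomial Module

section Eigen

variable {K : Type u} [Field K] [Fintype K] {p : ℕ} [Fact p.Prime] [CharP K p]
  {W : Type v} [AddCommGroup W] [Module K W] [FiniteDimensional K W]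

/-- An endomorphism whose order has `p'`-part dividing `q - 1` has an eigenvector over `K`. -/
theorem exists_eigenvector_of_pow_eq_one [Nontrivial W] (x : Module.End K W) {e k : ℕ}
    (hx : x ^ (p ^ e * k) = 1) (hk : k ∣ Fintype.card K - 1) :
    ∃ (μ : K) (v : W), v ≠ 0 ∧ x v = μ • v := by
  classical
  set q := Fintype.card K with hq
  have hq1 : 1 ≤ q := Fintype.card_pos
  obtain ⟨t, ht⟩ := hk
  have h1 : x ^ (p ^ e * (q - 1)) = 1 := by
    rw [ht, ← mul_assoc, pow_mul, hx, one_pow]
  have h2 : x ^ (q * p ^ e) = x ^ (p ^ e) := by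
    have : q * p ^ e = p ^ e * (q - 1) + p ^ e := by
      obtain ⟨q', hq'⟩ : ∃ q', q = q' + 1 := ⟨q - 1, by omega⟩
      rw [hq']; simp; ring
    rw [this, pow_add, h1, one_mul]
  set P : K[X] := (X ^ q - X) ^ (p ^ e) with hP
  have hPeq : P = (X ^ q) ^ (p ^ e) - X ^ (p ^ e) := by
    rw [hP, sub_pow_char_pow]
  have hPx : aeval x P = 0 := by
    rw [hPeq]
    simp only [map_sub, map_pow, aeval_X]
    rw [← pow_mul, h2, sub_self]
  have hQ0 : (X ^ q - X : K[X]) ≠ 0 := FiniteField.X_pow_card_sub_X_ne_zero K Fintype.one_lt_card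
  have hP0 : P ≠ 0 := pow_ne_zero _ hQ0
  have hQs : Splits (X ^ q - X : K[X]) := by
    rw [splits_iff_card_roots, FiniteField.roots_X_pow_card_sub_X,
      FiniteField.X_pow_card_sub_X_natDegree_eq K Fintype.one_lt_card]
    simp
  have hPs : Splits P := hQs.pow _
  have hdvd : minpoly K x ∣ P := minpoly.dvd K x hPx
  have hms : Splits (minpoly K x) := hPs.of_dvd hP0 hdvd
  have hdeg : (minpoly K x).degree ≠ 0 :=
    (minpoly.degree_pos (Algebra.IsIntegral.isIntegral x)).ne'
  obtain ⟨μ, hμ⟩ := hms.exists_eval_eq_zero hdeg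
  have hev : x.HasEigenvalue μ := Module.End.hasEigenvalue_of_isRoot hμ
  obtain ⟨v, hv⟩ := hev.exists_hasEigenvector
  exact ⟨μ, v, hv.2, hv.apply_eq_smul⟩

end Eigen

section Unip

variable {K : Type u} [Field K] {p : ℕ} [CharP K p]
  {W : Type v} [AddCommGroup W] [Module K W]

theorem pow_apply_of_quad (y : Module.End K W) (w : W) (hy : y (y w - w) = y w - w) (n : ℕ) :
    (y ^ n) w = w + n • (y w - w) := by
  induction n with
  | zero => simp
  | succ n ih =>
    rw [pow_succ', Module.End.mul_apply, ih, map_add, map_nsmul, hy, succ_nsmul]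
    abel

theorem pow_char_eq_one_of_quad (y : Module.End K W) (hy : ∀ w, y (y w - w) = y w - w) :
    y ^ p = 1 := by
  ext w
  rw [pow_apply_of_quad y w (hy w), ← Nat.cast_smul_eq_nsmul K, CharP.cast_eq_zero, zero_smul,
    add_zero]
  rfl

/-- In a field of characteristic `p`, `(c - 1)^2 = 0` forces `c = 1`. -/
theorem eq_one_of_sq_sub (c : K) (h : c * c = c + c - 1) : c = 1 := by
  have : (c - 1) * (c - 1) = 0 := by ring_nf; ring_nf at h; rw [h]; ring
  have := mul_self_eq_zero.mp this
  exact sub_eq_zero.mp this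

end Unip

section Main

variable {K : Type u} [Field K]

/-- A two-dimensional representation with a given basis whose determinants are all `1` gives a
homomorphism to `SL₂`. -/
noncomputable def sl2OfBasis {Γ : Type w} [Group Γ] {W : Type v} [AddCommGroup W] [Module K W]
    (B : Basis (Fin 2) K W) (ρ : Representation K Γ W)
    (hdet : ∀ g, (LinearMap.toMatrix B B (ρ g)).det = 1) :
    Γ →* Matrix.SpecialLinearGroup (Fin 2) K where
  toFun g := (⟨LinearMap.toMatrix B B (ρ g), hdet g⟩ : Matrix.SpecialLinearGroup (Fin 2) K)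
  map_one' := by
    apply Subtype.ext
    simp [LinearMap.toMatrix_one]
  map_mul' g g' := by
    apply Subtype.ext
    change LinearMap.toMatrix B B (ρ (g * g')) =
      LinearMap.toMatrix B B (ρ g) * LinearMap.toMatrix B B (ρ g')
    rw [map_mul, ← LinearMap.toMatrix_mul]

theorem sl2OfBasis_ne_one {Γ : Type w} [Group Γ] {W : Type v} [AddCommGroup W] [Module K W]
    (B : Basis (Fin 2) K W) (ρ : Representation K Γ W)
    (hdet : ∀ g, (LinearMap.toMatrix B B (ρ g)).det = 1) (h : Γ) (hh : ρ h ≠ 1) :
    sl2OfBasis B ρ hdet h ≠ 1 := by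
  intro h1
  apply hh
  have := congrArg Subtype.val h1
  simp only [sl2OfBasis, Matrix.SpecialLinearGroup.coe_one] at this
  change LinearMap.toMatrix B B (ρ h) = 1 at this
  rw [← LinearMap.toMatrix_one B] at this
  exact (LinearMap.toMatrix B B).injective this

theorem det_eq_one_of_quad (p : ℕ) [Fact p.Prime] [CharP K p]
    {W : Type v} [AddCommGroup W] [Module K W]
    (B : Basis (Fin 2) K W) (y : Module.End K W) (hy : ∀ w, y (y w - w) = y w - w) :
    (LinearMap.toMatrix B B y).det = 1 := by
  have h1 : y ^ p = 1 := pow_char_eq_one_of_quad (p := p) y hy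
  have h2 : (LinearMap.toMatrix B B y).det ^ p = 1 := by
    rw [← Matrix.det_pow, LinearMap.toMatrix_pow, h1, LinearMap.toMatrix_one, Matrix.det_one]
  have h3 : frobenius K p (LinearMap.toMatrix B B y).det = frobenius K p 1 := by
    rw [frobenius_def, frobenius_def, h2, one_pow]
  exact frobenius_inj K p h3

variable [Fintype K] {p : ℕ} [Fact p.Prime] [CharP K p]

theorem exists_sl2_hom_of_irreducible {Γ : Type w} [Group Γ] (a b : Γ)
    (hgen : Subgroup.closure {a, b} = ⊤) {e k : ℕ}
    (hord : (a * b) ^ (p ^ e * k) = 1) (hk : k ∣ Fintype.card K - 1) (h : Γ)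
    {W : Type v} [AddCommGroup W] [Module K W] [FiniteDimensional K W]
    (ρ : Representation K Γ W)
    (hqa : ∀ w, ρ a (ρ a w - w) = ρ a w - w) (hqb : ∀ w, ρ b (ρ b w - w) = ρ b w - w)
    (hρh : ρ h ≠ 1)
    (hirr : ∀ U : Submodule K W, (∀ g, U ≤ U.comap (ρ g)) → U = ⊥ ∨ U = ⊤) :
    ∃ φ : Γ →* Matrix.SpecialLinearGroup (Fin 2) K, φ h ≠ 1 := by
  classical
  haveI : Nontrivial W := by
    by_contra hW
    rw [not_nontrivial_iff_subsingleton] at hW
    exact hρh (LinearMap.ext fun w => Subsingleton.elim _ _)
  have hx : ρ (a * b) ^ (p ^ e * k) = 1 := by rw [← map_pow, hord, map_one]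
  obtain ⟨μ, v, hv0, hv⟩ := exists_eigenvector_of_pow_eq_one (p := p) (ρ (a * b)) hx hk
  have hinvl : ∀ g w, ρ g⁻¹ (ρ g w) = w := fun g w => by
    rw [← Module.End.mul_apply, ← map_mul, inv_mul_cancel, map_one]; rfl
  have hinvr : ∀ g w, ρ g (ρ g⁻¹ w) = w := fun g w => by
    rw [← Module.End.mul_apply, ← map_mul, mul_inv_cancel, map_one]; rfl
  have hμ0 : μ ≠ 0 := by
    rintro rfl
    rw [zero_smul] at hv
    apply hv0
    rw [← hinvl (a * b) v, hv, map_zero]
  have hAB : ρ a (ρ b v) = μ • v := by rw [← hv, map_mul]; rfl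
  -- consequences of quadraticity
  have hsq : ∀ g, (∀ w, ρ g (ρ g w - w) = ρ g w - w) → ∀ w, ρ g (ρ g w) = ρ g w + ρ g w - w := by
    intro g hg w
    have := hg w
    rw [map_sub] at this
    rw [sub_eq_iff_eq_add] at this
    rw [this]; abel
  have hinvq : ∀ g, (∀ w, ρ g (ρ g w - w) = ρ g w - w) → ∀ w, ρ g⁻¹ w = w + w - ρ g w := by
    intro g hg w
    have := hsq g hg (ρ g⁻¹ w)
    rw [hinvr] at this
    rw [this]; abel
  have hAinv : ρ a⁻¹ v = μ⁻¹ • ρ b v := by
    have : v = μ⁻¹ • ρ a (ρ b v) := by rw [hAB, smul_smul, inv_mul_cancel₀ hμ0, one_smul]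
    conv_lhs => rw [this]
    rw [map_smul, hinvl]
  have hAv : ρ a v = v + v - μ⁻¹ • ρ b v := by
    have := hinvq a hqa (ρ a v)
    rw [hinvl] at this
    have h2 := hsq a hqa v
    have h3 := hinvq a hqa v
    rw [hAinv] at h3
    rw [h3]; abel
  set U : Submodule K W := Submodule.span K {v, ρ b v} with hU
  have hvU : v ∈ U := Submodule.subset_span (by simp)
  have hbvU : ρ b v ∈ U := Submodule.subset_span (by simp)
  have hU0 : U ≠ ⊥ := fun h0 => hv0 (by rw [h0] at hvU; exact (Submodule.mem_bot K).mp hvU)
  -- invariance under generators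
  have hgenU : ∀ g, (∀ w, ρ g (ρ g w - w) = ρ g w - w) → ρ g v ∈ U → ρ g (ρ b v) ∈ U →
      (∀ u ∈ U, ρ g u ∈ U) ∧ (∀ u ∈ U, ρ g⁻¹ u ∈ U) := by
    intro g hg h1 h2
    have hA : ∀ u ∈ U, ρ g u ∈ U := by
      intro u hu
      refine Submodule.span_induction (p := fun u _ => ρ g u ∈ U) ?_ ?_ ?_ ?_ hu
      · intro x hx
        rcases hx with rfl | hx
        · exact h1
        · rw [Set.mem_singleton_iff] at hx; subst hx; exact h2
      · simp
      · intro x y _ _ hx hy; rw [map_add]; exact U.add_mem hx hy
      · intro c x _ hx; rw [map_smul]; exact U.smul_mem c hx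
    refine ⟨hA, fun u hu => ?_⟩
    rw [hinvq g hg u]
    exact U.sub_mem (U.add_mem hu hu) (hA u hu)
  have haU := hgenU a hqa (by rw [hAv]; exact U.sub_mem (U.add_mem hvU hvU) (U.smul_mem _ hbvU))
    (by rw [hAB]; exact U.smul_mem _ hvU)
  have hbU := hgenU b hqb hbvU
    (by rw [hsq b hqb v]; exact U.sub_mem (U.add_mem hbvU hbvU) hvU)
  have hallU : ∀ g : Γ, (∀ u ∈ U, ρ g u ∈ U) ∧ (∀ u ∈ U, ρ g⁻¹ u ∈ U) := by
    intro g
    have hg : g ∈ Subgroup.closure {a, b} := by rw [hgen]; trivial
    induction hg using Subgroup.closure_induction with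
    | mem x hx =>
      rcases hx with rfl | hx
      · exact haU
      · rw [Set.mem_singleton_iff] at hx; subst hx; exact hbU
    | one => simp
    | mul x y _ _ hx hy =>
      refine ⟨fun u hu => ?_, fun u hu => ?_⟩
      · rw [map_mul]; exact hx.1 _ (hy.1 u hu)
      · rw [mul_inv_rev, map_mul]; exact hy.2 _ (hx.2 u hu)
    | inv x _ hx => exact ⟨hx.2, by rw [inv_inv]; exact hx.1⟩
  have hUtop : U = ⊤ := (hirr U fun g u hu => (hallU g).1 u hu).resolve_left hU0
  by_cases hdep : ∃ β : K, β • v = ρ b v
  · exfalso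
    obtain ⟨β, hβ⟩ := hdep
    have hβ1 : β = 1 := by
      apply eq_one_of_sq_sub
      have := hsq b hqb v
      rw [← hβ, map_smul, ← hβ, smul_smul] at this
      have h2 : (β * β - (β + β - 1)) • v = 0 := by
        rw [sub_smul, this, sub_smul, add_smul, one_smul, sub_self]
      rcases smul_eq_zero.mp h2 with h3 | h3
      · exact sub_eq_zero.mp h3
      · exact absurd h3 hv0
    rw [hβ1, one_smul] at hβ
    have hμ1 : μ = 1 := by
      apply eq_one_of_sq_sub
      have hav : ρ a v = μ • v := by rw [← hAB, ← hβ]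
      have := hsq a hqa v
      rw [hav, map_smul, hav, smul_smul] at this
      have h2 : (μ * μ - (μ + μ - 1)) • v = 0 := by
        rw [sub_smul, this, sub_smul, add_smul, one_smul, sub_self]
      rcases smul_eq_zero.mp h2 with h3 | h3
      · exact sub_eq_zero.mp h3
      · exact absurd h3 hv0
    have hbv : ρ b v = v := hβ.symm
    have hav : ρ a v = v := by
      have := hAB
      rw [hbv, hμ1, one_smul] at this
      exact this
    have hfix : ∀ g : Γ, ρ g v = v ∧ ρ g⁻¹ v = v := by
      intro g
      have hg : g ∈ Subgroup.closure {a, b} := by rw [hgen]; trivial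
      induction hg using Subgroup.closure_induction with
      | mem x hx =>
        rcases hx with rfl | hx
        · refine ⟨hav, ?_⟩
          conv_lhs => rw [← hav]
          exact hinvl _ _
        · rw [Set.mem_singleton_iff] at hx; subst hx
          refine ⟨hbv, ?_⟩
          conv_lhs => rw [← hbv]
          exact hinvl _ _
      | one => simp
      | mul x y _ _ hx hy =>
        refine ⟨?_, ?_⟩
        · rw [map_mul, Module.End.mul_apply, hy.1, hx.1]
        · rw [mul_inv_rev, map_mul, Module.End.mul_apply, hx.2, hy.2]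
      | inv x _ hx => exact ⟨hx.2, by rw [inv_inv]; exact hx.1⟩
    apply hρh
    ext w
    have hw : w ∈ U := by rw [hUtop]; trivial
    refine Submodule.span_induction (p := fun u _ => ρ h u = (1 : Module.End K W) u) ?_ ?_ ?_ ?_ hw
    · intro x hx
      rcases hx with rfl | hx
      · exact (hfix h).1
      · rw [Set.mem_singleton_iff] at hx; subst hx; rw [hbv]; exact (hfix h).1
    · simp
    · intro x y _ _ hx hy; rw [map_add, map_add, hx, hy]
    · intro c x _ hx; rw [map_smul, map_smul, hx]
  · have hli : LinearIndependent K ![v, ρ b v] := by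
      rw [LinearIndependent.pair_iff' hv0]
      intro β hβ
      exact hdep ⟨β, hβ⟩
    have hsp : ⊤ ≤ Submodule.span K (Set.range ![v, ρ b v]) := by
      rw [← hUtop, hU]
      apply le_of_eq
      congr 1
      ext x
      simp only [Matrix.range_cons, Matrix.range_empty, Set.union_empty, Set.union_singleton,
        Set.mem_insert_iff, Set.mem_singleton_iff]
      tauto
    set B : Basis (Fin 2) K W := Basis.mk hli hsp with hB
    have hdet : ∀ g, (LinearMap.toMatrix B B (ρ g)).det = 1 := by
      intro g
      have hg : g ∈ Subgroup.closure {a, b} := by rw [hgen]; trivial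
      induction hg using Subgroup.closure_induction with
      | mem x hx =>
        rcases hx with rfl | hx
        · exact det_eq_one_of_quad p B _ hqa
        · rw [Set.mem_singleton_iff] at hx; subst hx
          exact det_eq_one_of_quad p B _ hqb
      | one => simp [LinearMap.toMatrix_one]
      | mul x y _ _ hx hy =>
        rw [map_mul, LinearMap.toMatrix_mul, Matrix.det_mul, hx, hy, one_mul]
      | inv x _ hx =>
        have h1 : (LinearMap.toMatrix B B (ρ x⁻¹)).det * (LinearMap.toMatrix B B (ρ x)).det = 1 := by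
          rw [← Matrix.det_mul, ← LinearMap.toMatrix_mul, ← map_mul, inv_mul_cancel, map_one,
            LinearMap.toMatrix_one, Matrix.det_one]
        rw [hx, mul_one] at h1
        exact h1
    exact ⟨sl2OfBasis B ρ hdet, sl2OfBasis_ne_one B ρ hdet h hρh⟩

/-- **Quadratic pairs** (Kurzweil–Stellmacher 9.3): a group generated by two elements acting
quadratically on a finite-dimensional `K`-space, the `p'`-part of the order of whose product
divides `q - 1`.  Every `p'`-element `h` acting nontrivially survives in a homomorphism to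
`SL₂(K)`. -/
theorem exists_sl2_hom_of_quadratic_pair {Γ : Type w} [Group Γ] (a b : Γ)
    (hgen : Subgroup.closure {a, b} = ⊤) {e k : ℕ}
    (hord : (a * b) ^ (p ^ e * k) = 1) (hk : k ∣ Fintype.card K - 1) (h : Γ) {m : ℕ}
    (hm : m.Coprime p) (hhm : h ^ m = 1) :
    ∀ (n : ℕ) (W : Type v) [AddCommGroup W] [Module K W] [FiniteDimensional K W]
      (ρ : Representation K Γ W), Module.finrank K W = n →
      (∀ w, ρ a (ρ a w - w) = ρ a w - w) → (∀ w, ρ b (ρ b w - w) = ρ b w - w) → ρ h ≠ 1 →
      ∃ φ : Γ →* Matrix.SpecialLinearGroup (Fin 2) K, φ h ≠ 1 := by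
  intro n
  induction n using Nat.strong_induction_on with
  | _ n ih =>
  intro W _ _ _ ρ hn hqa hqb hρh
  by_cases hred : ∃ U : Submodule K W, U ≠ ⊥ ∧ U ≠ ⊤ ∧ ∀ g, U ≤ U.comap (ρ g)
  · obtain ⟨U, hU0, hU1, hinv⟩ := hred
    by_cases h1 : ρ.subrepresentation U hinv h ≠ 1
    · refine ih (finrank K U) ?_ U (ρ.subrepresentation U hinv) rfl ?_ ?_ h1
      · rw [← hn]; exact Submodule.finrank_lt hU1
      · intro w; apply Subtype.ext
        simp only [Representation.subrepresentation_apply, LinearMap.coe_restrict_apply,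
          Submodule.coe_sub]
        exact hqa w
      · intro w; apply Subtype.ext
        simp only [Representation.subrepresentation_apply, LinearMap.coe_restrict_apply,
          Submodule.coe_sub]
        exact hqb w
    by_cases h2 : ρ.quotient U hinv h ≠ 1
    · refine ih (finrank K (W ⧸ U)) ?_ (W ⧸ U) (ρ.quotient U hinv) rfl ?_ ?_ h2
      · rw [← hn, ← U.finrank_quotient_add_finrank]
        have : 0 < finrank K U := by
          rw [Nat.pos_iff_ne_zero, Ne, Submodule.finrank_eq_zero]; exact hU0
        omega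
      · intro w
        induction w using Submodule.Quotient.induction_on with
        | _ w =>
        simp only [Representation.quotient_apply, Submodule.mapQ_apply,
          ← Submodule.Quotient.mk_sub, hqa]
      · intro w
        induction w using Submodule.Quotient.induction_on with
        | _ w =>
        simp only [Representation.quotient_apply, Submodule.mapQ_apply,
          ← Submodule.Quotient.mk_sub, hqb]
    · exfalso
      rw [not_not] at h1 h2
      have hy1 : ∀ u ∈ U, ρ h u = u := by
        intro u hu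
        have := congrArg (fun f => ((f ⟨u, hu⟩ : U) : W)) h1
        simpa using this
      have hy2 : ∀ w, ρ h w - w ∈ U := by
        intro w
        have := congrArg (fun f => f (Submodule.Quotient.mk w)) h2
        simp only [Representation.quotient_apply, Submodule.mapQ_apply] at this
        rw [Module.End.one_apply, Submodule.Quotient.eq] at this
        exact this
      have hq : ∀ w, ρ h (ρ h w - w) = ρ h w - w := fun w => hy1 _ (hy2 w)
      have hp1 : ρ h ^ p = 1 := pow_char_eq_one_of_quad (p := p) (ρ h) hq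
      have hm1 : ρ h ^ m = 1 := by rw [← map_pow, hhm, map_one]
      have hd : orderOf (ρ h) ∣ Nat.gcd m p :=
        Nat.dvd_gcd (orderOf_dvd_of_pow_eq_one hm1) (orderOf_dvd_of_pow_eq_one hp1)
      rw [hm, Nat.dvd_one, orderOf_eq_one_iff] at hd
      exact hρh hd
  · refine exists_sl2_hom_of_irreducible a b hgen hord hk h ρ hqa hqb hρh ?_
    intro U hU
    by_contra hcon
    rw [not_or] at hcon
    exact hred ⟨U, hcon.1, hcon.2, hU⟩

end Main

end Cfsg.Agent.Helper10
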