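import Mathlib
import Cfsg.Agent.Lib.Helper10.QuadPair

/-!
# Quadratic pairs over the prime field

A finite group generated by two elements acting quadratically on a finite `ZMod p`-module maps
to `SL₂(F)` for a suitable finite field `F` of characteristic `p`, with a prescribed
`p'`-element surviving.
-/

set_option autoImplicit false

namespace Cfsg.Agent.Helper10

universe v w

open TensorProduct

theorem quad_iff_sq_zero {R : Type*} [CommRing R] {M : Type*} [AddCommGroup M] [Module R M]
    (y : Module.End R M) :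
    (∀ w, y (y w - w) = y w - w) ↔ (y - 1) * (y - 1) = 0 := by
  constructor
  · intro h
    ext w
    simp only [Module.End.mul_apply, LinearMap.sub_apply, Module.End.one_apply,
      LinearMap.zero_apply]
    rw [h w, sub_self]
  · intro h w
    have := congrArg (fun f => f w) h
    simp only [Module.End.mul_apply, LinearMap.sub_apply, Module.End.one_apply,
      LinearMap.zero_apply] at this
    exact sub_eq_zero.mp this

theorem exists_field_sl2_hom {Γ : Type w} [Group Γ] [Finite Γ] {p : ℕ} [Fact p.Prime]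
    {M : Type v} [AddCommGroup M] [Module (ZMod p) M] [Finite M]
    (ρ : Γ →* Module.End (ZMod p) M) (a b : Γ) (hgen : Subgroup.closure {a, b} = ⊤)
    (hqa : ∀ m, ρ a (ρ a m - m) = ρ a m - m) (hqb : ∀ m, ρ b (ρ b m - m) = ρ b m - m)
    (h : Γ) (hρh : ρ h ≠ 1) (hh : (orderOf h).Coprime p) :
    ∃ (F : Type) (_ : Field F) (_ : Fintype F) (_ : CharP F p)
      (φ : Γ →* Matrix.SpecialLinearGroup (Fin 2) F), φ h ≠ 1 := by
  classical
  have hp : p.Prime := Fact.out
  have ho : orderOf (a * b) ≠ 0 := (orderOf_pos _).ne'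
  obtain ⟨e, k, hpk, hek⟩ := Nat.exists_eq_pow_mul_and_not_dvd ho p hp.ne_one
  have hk0 : k ≠ 0 := by
    rintro rfl
    exact hpk (dvd_zero p)
  have hcop : Nat.Coprime p k := (Nat.Prime.coprime_iff_not_dvd hp).mpr hpk
  set n := Nat.totient k with hn
  have hn0 : n ≠ 0 := (Nat.totient_pos.mpr (Nat.pos_of_ne_zero hk0)).ne'
  let F := GaloisField p n
  letI : Fintype F := Fintype.ofFinite F
  have hcard : Fintype.card F = p ^ n := by
    rw [← Nat.card_eq_fintype_card]; exact GaloisField.card p n hn0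
  have hkd : k ∣ Fintype.card F - 1 := by
    rw [hcard]
    have h1 : p ^ n ≡ 1 [MOD k] := Nat.ModEq.pow_totient hcop
    exact (Nat.modEq_iff_dvd' (Nat.one_le_pow _ _ hp.pos)).mp h1.symm
  have hord : (a * b) ^ (p ^ e * k) = 1 := by rw [← hek]; exact pow_orderOf_eq_one _
  let β : Module.End (ZMod p) M →ₐ[ZMod p] Module.End F (F ⊗[ZMod p] M) :=
    Module.End.baseChangeHom (ZMod p) F M
  have hβinj : Function.Injective β := LinearMap.baseChangeHom_injective (ZMod p) M F
  let ρ' : Representation F Γ (F ⊗[ZMod p] M) := (β : _ →* _).comp ρ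
  have hρ' : ∀ g, ρ' g = β (ρ g) := fun g => rfl
  have hq' : ∀ g, (∀ m, ρ g (ρ g m - m) = ρ g m - m) →
      ∀ w, ρ' g (ρ' g w - w) = ρ' g w - w := by
    intro g hg
    rw [quad_iff_sq_zero] at hg ⊢
    have h1 : β ((ρ g - 1) * (ρ g - 1)) = 0 := by rw [hg, map_zero]
    rw [map_mul, map_sub, map_one] at h1
    rw [hρ']; exact h1
  have hρ'h : ρ' h ≠ 1 := by
    intro h1
    apply hρh
    apply hβinj
    rw [map_one]
    exact h1
  obtain ⟨φ, hφ⟩ := exists_sl2_hom_of_quadratic_pair (K := F) (p := p) a b hgen hord hkd h hh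
    (pow_orderOf_eq_one h) (Module.finrank F (F ⊗[ZMod p] M)) (F ⊗[ZMod p] M) ρ' rfl
    (hq' a hqa) (hq' b hqb) hρ'h
  exact ⟨F, inferInstance, inferInstance, inferInstance, φ, hφ⟩

end Cfsg.Agent.Helper10
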