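import Mathlib
import Cfsg.Agent.Lib.Helper46.NatSL2

/-!
# Normal `p`-subgroups in subgroups of `SL₂(F)` generated by `p`-elements

If two elements of order dividing `p` of `SL₂(F)` (`char F = p`) normalize a nontrivial
`p`-subgroup, they generate a `p`-group.
-/

set_option autoImplicit false

namespace Cfsg.Agent.Helper10

open Cfsg.Agent.Helper46

variable {F : Type*} [Field F]

local notation "SL2" => Matrix.SpecialLinearGroup (Fin 2) F

theorem borelB_pow_zero_zero {c : SL2} (hc : c ∈ borelB F) (n : ℕ) :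
    ((c ^ n : SL2) : Matrix (Fin 2) (Fin 2) F) 0 0 = ((c : Matrix (Fin 2) (Fin 2) F) 0 0) ^ n := by
  induction n with
  | zero => simp
  | succ n ih =>
    have h10 : (c : Matrix (Fin 2) (Fin 2) F) 1 0 = 0 := hc
    rw [pow_succ, Matrix.SpecialLinearGroup.coe_mul, Matrix.mul_apply, Fin.sum_univ_two, ih, h10,
      mul_zero, add_zero, pow_succ]

theorem mem_upperU_of_borelB_of_pow {p : ℕ} [Fact p.Prime] [CharP F p] {c : SL2}
    (hc : c ∈ borelB F) (hcp : c ^ p = 1) : c ∈ upperU F := by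
  refine ⟨hc, ?_⟩
  have h1 := borelB_pow_zero_zero hc p
  rw [hcp] at h1
  simp only [Matrix.SpecialLinearGroup.coe_one, Matrix.one_apply_eq] at h1
  have h3 : frobenius F p ((c : Matrix (Fin 2) (Fin 2) F) 0 0) = frobenius F p 1 := by
    rw [frobenius_def, frobenius_def, ← h1, one_pow]
  exact frobenius_inj F p h3

theorem upperU_smul_e0 {u : SL2} (hu : u ∈ upperU F) : u • (![1, 0] : Fin 2 → F) = ![1, 0] := by
  rw [upperU_smul_eq_iff hu]
  simp

/-- the conjugate `h U h⁻¹` of the upper unitriangular group -/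
def conjUpperU (h : SL2) : Subgroup SL2 :=
  (upperU F).comap (MulAut.conj h⁻¹).toMonoidHom

theorem mem_conjUpperU {h g : SL2} : g ∈ conjUpperU h ↔ h⁻¹ * g * h ∈ upperU F := by
  unfold conjUpperU
  rw [Subgroup.mem_comap]
  simp [MulAut.conj_apply]

theorem isPGroup_conjUpperU {p : ℕ} [Fact p.Prime] [CharP F p] (h : SL2) :
    IsPGroup p (conjUpperU h) := by
  rintro ⟨g, hg⟩
  refine ⟨1, Subtype.ext ?_⟩
  rw [mem_conjUpperU] at hg
  have h1 := upperU_pow_eq_one (p := p) hg
  have h2 : (h⁻¹ * g * h) ^ p = h⁻¹ * g ^ p * h := by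
    have := conj_pow (a := h⁻¹) (b := g) (i := p)
    rw [inv_inv] at this
    exact this
  rw [h2] at h1
  simp only [pow_one, Subgroup.coe_pow, Subgroup.coe_one]
  have h3 : g ^ p = h * (h⁻¹ * g ^ p * h) * h⁻¹ := by group
  rw [h3, h1]; group

theorem isPGroup_closure_of_normalizes_pSubgroup [Fintype F] {p : ℕ} [Fact p.Prime] [CharP F p]
    (P : Subgroup SL2) (hP : IsPGroup p P) (hP1 : P ≠ ⊥) (c₁ c₂ : SL2)
    (h₁ : c₁ ∈ Subgroup.normalizer (P : Set SL2)) (h₂ : c₂ ∈ Subgroup.normalizer (P : Set SL2))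
    (hc₁ : c₁ ^ p = 1) (hc₂ : c₂ ^ p = 1) :
    IsPGroup p (Subgroup.closure {c₁, c₂}) := by
  obtain ⟨h, hh⟩ := exists_conj_le_upperU P hP
  obtain ⟨⟨z, hzP⟩, hz1⟩ := (Subgroup.ne_bot_iff_exists_ne_one).mp hP1
  have hz1' : z ≠ 1 := fun h0 => hz1 (Subtype.ext h0)
  set z' := h⁻¹ * z * h with hz'
  have hz'U : z' ∈ upperU F := hh z hzP
  have hz'1 : z' ≠ 1 := by
    intro h0
    apply hz1'
    have : z = h * z' * h⁻¹ := by rw [hz']; group
    rw [this, h0]; group
  have hz'01 : (z' : Matrix (Fin 2) (Fin 2) F) 0 1 ≠ 0 := fun h0 =>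
    hz'1 (upperU_eq_one_of_zero hz'U h0)
  have key : ∀ c : SL2, c ∈ Subgroup.normalizer (P : Set SL2) → c ^ p = 1 → c ∈ conjUpperU h := by
    intro c hcN hcp
    rw [mem_conjUpperU]
    set c' := h⁻¹ * c * h with hc'
    have hc'p : c' ^ p = 1 := by
      have := conj_pow (a := h⁻¹) (b := c) (i := p)
      rw [inv_inv] at this
      rw [hc', this, hcp]; group
    have hczc : c⁻¹ * z * c ∈ P := by
      have := (Subgroup.inv_mem _ hcN) z
      rw [inv_inv] at this
      exact this.mp hzP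
    have hU2 : c'⁻¹ * z' * c' ∈ upperU F := by
      have : c'⁻¹ * z' * c' = h⁻¹ * (c⁻¹ * z * c) * h := by rw [hc', hz']; group
      rw [this]; exact hh _ hczc
    have hfix := upperU_smul_e0 hU2
    rw [mul_smul, mul_smul, inv_smul_eq_iff] at hfix
    rw [upperU_smul_eq_iff hz'U] at hfix
    have h10 : (c' • (![1, 0] : Fin 2 → F)) 1 = 0 := by
      rcases mul_eq_zero.mp hfix with h0 | h0
      · exact absurd h0 hz'01
      · exact h0
    rw [smul_apply_one] at h10
    simp only [Matrix.cons_val_zero, Matrix.cons_val_one, mul_one, mul_zero, add_zero] at h10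
    exact mem_upperU_of_borelB_of_pow (p := p) h10 hc'p
  refine (isPGroup_conjUpperU (p := p) h).to_le ?_
  rw [Subgroup.closure_le]
  intro x hx
  rcases hx with rfl | hx
  · exact key _ h₁ hc₁
  · rw [Set.mem_singleton_iff] at hx; subst hx
    exact key _ h₂ hc₂

end Cfsg.Agent.Helper10
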