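import Mathlib
import Cfsg.Agent.Lib.Helper10.QuadPairZMod
import Cfsg.Agent.Lib.Helper10.SL2PCore
import Cfsg.Agent.Lib.Helper10.PSolvDual
import Cfsg.Agent.Lib.Helper67.BaerSuzuki
import Cfsg.Agent.Lib.Helper69.PSolvSub
import Cfsg.Agent.S3740

/-!
# `p`-stability of `p`-solvable groups (Kurzweil–Stellmacher 9.3/9.4)

A finite `p`-solvable group (`p` odd) acting faithfully on a finite `ZMod p`-module, with an
element acting quadratically that does not lie in `O_p`: then `p = 3` and `SL₂(3)` is involved.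
-/

set_option autoImplicit false

namespace Cfsg.Agent.Helper10

open Cfsg

open scoped commutatorElement

universe v w

/-- conjugates of quadratic elements are quadratic -/
theorem quad_conj_of_quad {R : Type*} [CommRing R] {M : Type*} [AddCommGroup M] [Module R M]
    {Γ : Type*} [Group Γ] (ρ : Γ →* Module.End R M) (a g : Γ)
    (hqa : ∀ m, ρ a (ρ a m - m) = ρ a m - m) :
    ∀ m, ρ (g * a * g⁻¹) (ρ (g * a * g⁻¹) m - m) = ρ (g * a * g⁻¹) m - m := by
  rw [quad_iff_sq_zero] at hqa ⊢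
  have hu : ρ g⁻¹ * ρ g = 1 := by rw [← map_mul, inv_mul_cancel, map_one]
  have h1 : ρ (g * a * g⁻¹) - 1 = ρ g * (ρ a - 1) * ρ g⁻¹ := by
    rw [mul_sub, sub_mul, mul_one, ← map_mul, ← map_mul, ← map_mul, mul_inv_cancel, map_one]
  rw [h1]
  have h2 : ρ g * (ρ a - 1) * ρ g⁻¹ * (ρ g * (ρ a - 1) * ρ g⁻¹) =
      ρ g * ((ρ a - 1) * (ρ g⁻¹ * ρ g) * (ρ a - 1)) * ρ g⁻¹ := by
    simp only [mul_assoc]
  rw [h2, hu, mul_one, hqa, mul_zero, zero_mul]

theorem exists_sl23_of_quadratic_not_mem_pCore {Γ : Type w} [Group Γ] [Finite Γ] {p : ℕ}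
    [Fact p.Prime] (hp : p ≠ 2) {M : Type v} [AddCommGroup M] [Module (ZMod p) M] [Finite M]
    (ρ : Γ →* Module.End (ZMod p) M) (hρ : Function.Injective ρ) (hsol : IsPSolvable p Γ)
    (a : Γ) (hqa : ∀ m, ρ a (ρ a m - m) = ρ a m - m) (hna : a ∉ pCore p Γ) :
    p = 3 ∧ ∃ (Γ₀ : Subgroup Γ) (F : Type) (_ : Field F)
      (φ : Γ₀ →* Matrix.SpecialLinearGroup (Fin 2) F)
      (S : Subgroup (Matrix.SpecialLinearGroup (Fin 2) F)), S ≤ φ.range ∧
        Nonempty (S ≃* Matrix.SpecialLinearGroup (Fin 2) (ZMod 3)) := by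
  classical
  have hpp : p.Prime := Fact.out
  -- Baer–Suzuki
  have hBS : ∃ g : Γ, ¬ IsPGroup p ↥(Subgroup.closure {a, g * a * g⁻¹}) := by
    by_contra hcon
    simp only [not_exists, not_not] at hcon
    obtain ⟨N, hN, hNp, hle⟩ := Cfsg.Agent.Helper67.baer_suzuki (p := p) (Subgroup.zpowers a) (by
      intro g
      have : Subgroup.zpowers a ⊔ (Subgroup.zpowers a).map (MulAut.conj g).toMonoidHom =
          Subgroup.closure {a, g * a * g⁻¹} := by
        rw [MonoidHom.map_zpowers, Subgroup.zpowers_eq_closure, Subgroup.zpowers_eq_closure,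
          ← Subgroup.closure_union]
        rfl
      rw [this]
      exact hcon g)
    exact hna (Cfsg.Agent.Helper54.le_pCore hN hNp (hle (Subgroup.mem_zpowers a)))
  obtain ⟨g, hg⟩ := hBS
  set b := g * a * g⁻¹ with hb
  set Γ₀ : Subgroup Γ := Subgroup.closure {a, b} with hΓ₀
  have haΓ : a ∈ Γ₀ := Subgroup.subset_closure (by simp)
  have hbΓ : b ∈ Γ₀ := Subgroup.subset_closure (by simp)
  set a₀ : Γ₀ := ⟨a, haΓ⟩ with ha₀
  set b₀ : Γ₀ := ⟨b, hbΓ⟩ with hb₀
  have hgen : Subgroup.closure {a₀, b₀} = (⊤ : Subgroup Γ₀) := by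
    apply Subgroup.map_injective Γ₀.subtype_injective
    rw [MonoidHom.map_closure, ← MonoidHom.range_eq_map, Subgroup.range_subtype]
    rw [Set.image_pair]
    rfl
  set ρ₀ : Γ₀ →* Module.End (ZMod p) M := ρ.comp Γ₀.subtype with hρ₀
  have hρ₀inj : Function.Injective ρ₀ := hρ.comp Γ₀.subtype_injective
  have hqa₀ : ∀ m, ρ₀ a₀ (ρ₀ a₀ m - m) = ρ₀ a₀ m - m := hqa
  have hqb₀ : ∀ m, ρ₀ b₀ (ρ₀ b₀ m - m) = ρ₀ b₀ m - m := quad_conj_of_quad ρ a g hqa
  -- a p'-element of Γ₀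
  have hnp := hg
  rw [IsPGroup] at hnp
  simp only [not_forall, not_exists] at hnp
  obtain ⟨x, hx⟩ := hnp
  have hox : orderOf x ≠ 0 := (orderOf_pos x).ne'
  obtain ⟨s, m, hpm, hsm⟩ := Nat.exists_eq_pow_mul_and_not_dvd hox p hpp.ne_one
  have hm : m.Coprime p := ((Nat.Prime.coprime_iff_not_dvd hpp).mpr hpm).symm
  set h : Γ₀ := x ^ (p ^ s) with hh
  have hh1 : h ≠ 1 := hx s
  have hhm : h ^ m = 1 := by rw [hh, ← pow_mul, ← hsm]; exact pow_orderOf_eq_one x
  have hoh : (orderOf h).Coprime p :=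
    Nat.Coprime.coprime_dvd_left (orderOf_dvd_of_pow_eq_one hhm) hm
  have hρh : ρ₀ h ≠ 1 := fun h0 => hh1 (hρ₀inj (by rw [h0, map_one]))
  obtain ⟨F, _, _, _, φ, hφ⟩ := exists_field_sl2_hom ρ₀ a₀ b₀ hgen hqa₀ hqb₀ h hρh hoh
  -- generators are p-elements
  have hpow : ∀ c : Γ₀, (∀ m, ρ₀ c (ρ₀ c m - m) = ρ₀ c m - m) → c ^ p = 1 := by
    intro c hc
    apply hρ₀inj
    rw [map_pow, map_one]
    exact pow_char_eq_one_of_quad (K := ZMod p) (p := p) (ρ₀ c) hc
  have hap : a₀ ^ p = 1 := hpow a₀ hqa₀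
  have hbp : b₀ ^ p = 1 := hpow b₀ hqb₀
  have hφap : (φ a₀) ^ p = 1 := by rw [← map_pow, hap, map_one]
  have hφbp : (φ b₀) ^ p = 1 := by rw [← map_pow, hbp, map_one]
  -- the image
  set X : Subgroup (Matrix.SpecialLinearGroup (Fin 2) F) := φ.range with hX
  have hXcl : X = Subgroup.closure {φ a₀, φ b₀} := by
    rw [hX, MonoidHom.range_eq_map, ← hgen, MonoidHom.map_closure, Set.image_pair]
  have hXnp : ¬ IsPGroup p X := by
    intro hP
    obtain ⟨j, hj⟩ := hP ⟨φ h, ⟨h, rfl⟩⟩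
    have hj' : φ h ^ (p ^ j) = 1 := by
      have := congrArg Subtype.val hj
      simpa using this
    have hm' : φ h ^ m = 1 := by rw [← map_pow, hhm, map_one]
    have hd : orderOf (φ h) ∣ Nat.gcd m (p ^ j) :=
      Nat.dvd_gcd (orderOf_dvd_of_pow_eq_one hm') (orderOf_dvd_of_pow_eq_one hj')
    rw [Nat.Coprime.pow_right j hm, Nat.dvd_one, orderOf_eq_one_iff] at hd
    exact hφ hd
  have hXsol : IsPSolvable p X :=
    Cfsg.Agent.Helper54.IsPSolvable.of_surjective
      (Cfsg.Agent.Helper69.IsPSolvable.subgroup' hsol Γ₀) φ.rangeRestrict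
      φ.rangeRestrict_surjective
  -- O_p(X) = 1
  have hOp : pCore p X = ⊥ := by
    by_contra hne
    set P : Subgroup (Matrix.SpecialLinearGroup (Fin 2) F) := (pCore p X).map X.subtype with hP
    have hPp : IsPGroup p P := Cfsg.Agent.Helper54.isPGroup_pCore.map _
    have hP1 : P ≠ ⊥ := by
      intro h0
      exact hne ((Subgroup.map_eq_bot_iff_of_injective _ X.subtype_injective).mp h0)
    have hXN : X ≤ Subgroup.normalizer (P : Set (Matrix.SpecialLinearGroup (Fin 2) F)) := by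
      have h1 : (Subgroup.normalizer ((pCore p X : Subgroup X) : Set X)).map X.subtype ≤
          Subgroup.normalizer (P : Set (Matrix.SpecialLinearGroup (Fin 2) F)) :=
        Subgroup.le_normalizer_map _
      rw [Subgroup.normalizer_eq_top, ← MonoidHom.range_eq_map, Subgroup.range_subtype] at h1
      exact h1
    have := isPGroup_closure_of_normalizes_pSubgroup (p := p) P hPp hP1 (φ a₀) (φ b₀)
      (hXN ⟨a₀, rfl⟩) (hXN ⟨b₀, rfl⟩) hφap hφbp
    rw [← hXcl] at this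
    exact hXnp this
  have hHH := centralizer_pPrimeCore_le_of_isPSolvable hXsol hOp
  set R : Subgroup X := pPrimeCore p X with hR
  have hRcop : (Nat.card R).Coprime p := Cfsg.Agent.Helper54.pPrimeCore_coprime p
  -- one of the generators does not centralize R
  have hex : ∃ c : Γ₀, c ^ p = 1 ∧
      (⟨φ c, ⟨c, rfl⟩⟩ : X) ∉ Subgroup.centralizer ((R : Subgroup X) : Set X) := by
    by_contra hcon
    simp only [not_exists, not_and, not_not] at hcon
    have hc1 : ∀ c : Γ₀, c ^ p = 1 → φ c = 1 := by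
      intro c hc
      have h1 := hHH (hcon c hc)
      have h2 : (⟨φ c, ⟨c, rfl⟩⟩ : X) ^ (p ^ 1) = 1 := by
        apply Subtype.ext
        simp only [pow_one, Subgroup.coe_pow, Subgroup.coe_one]
        rw [← map_pow, hc, map_one]
      have h3 := eq_one_of_pow_prime_pow_eq_one_of_coprime hRcop h1 h2
      exact congrArg Subtype.val h3
    have hker : (⊤ : Subgroup Γ₀) ≤ φ.ker := by
      rw [← hgen, Subgroup.closure_le]
      intro y hy
      rcases hy with rfl | hy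
      · exact hc1 _ hap
      · rw [Set.mem_singleton_iff] at hy; subst hy
        exact hc1 _ hbp
    exact hφ (hker (Subgroup.mem_top h))
  obtain ⟨c, hcp, hcR⟩ := hex
  set R' : Subgroup (Matrix.SpecialLinearGroup (Fin 2) F) := R.map X.subtype with hR'
  have hR'cop : (Nat.card R').Coprime p :=
    Nat.Coprime.coprime_dvd_left (Subgroup.card_map_dvd _ _) hRcop
  have hcN : φ c ∈ Subgroup.normalizer (R' : Set (Matrix.SpecialLinearGroup (Fin 2) F)) := by
    have h1 : (Subgroup.normalizer ((R : Subgroup X) : Set X)).map X.subtype ≤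
        Subgroup.normalizer (R' : Set (Matrix.SpecialLinearGroup (Fin 2) F)) :=
      Subgroup.le_normalizer_map _
    rw [Subgroup.normalizer_eq_top, ← MonoidHom.range_eq_map, Subgroup.range_subtype] at h1
    exact h1 ⟨c, rfl⟩
  have hcomm : ⁅R', Subgroup.zpowers (φ c)⁆ ≠ ⊥ := by
    intro h0
    apply hcR
    rw [Subgroup.mem_centralizer_iff]
    intro r hr
    have h1 : ⁅(r : Matrix.SpecialLinearGroup (Fin 2) F), φ c⁆ ∈ ⁅R', Subgroup.zpowers (φ c)⁆ :=
      Subgroup.commutator_mem_commutator (Subgroup.mem_map_of_mem X.subtype hr)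
        (Subgroup.mem_zpowers _)
    rw [h0, Subgroup.mem_bot, commutatorElement_eq_one_iff_mul_comm] at h1
    exact Subtype.ext h1
  obtain ⟨hp3, -, ⟨e⟩⟩ := Cfsg.Agent.S3740.result F hp (φ c)
    (by
      rintro ⟨y, hy⟩
      obtain ⟨j, rfl⟩ := Subgroup.mem_zpowers_iff.mp hy
      refine ⟨1, Subtype.ext ?_⟩
      simp only [pow_one, Subgroup.coe_pow, Subgroup.coe_one]
      rw [← zpow_natCast, ← zpow_mul, mul_comm, zpow_mul, zpow_natCast, ← map_pow, hcp, map_one,
        one_zpow])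
    R' hR'cop hcN hcomm
  refine ⟨hp3, Γ₀, F, inferInstance, φ, R' ⊔ Subgroup.zpowers (φ c), ?_, ⟨e⟩⟩
  rw [sup_le_iff]
  refine ⟨?_, ?_⟩
  · rw [hR']; exact Subgroup.map_subtype_le _
  · rw [Subgroup.zpowers_le]; exact ⟨c, rfl⟩

end Cfsg.Agent.Helper10
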