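import Mathlib
import Cfsg.Prelude.Def_PLocal
import Cfsg.Agent.Lib.Helper10.ElemAb
import Cfsg.Agent.Lib.Helper10.ConjRep
import Cfsg.Agent.Lib.Helper10.QuadPStable

/-!
# `p`-solvable groups are `p`-stable for `p ≥ 5`
-/

set_option autoImplicit false

namespace Cfsg.Agent.Helper10

open Cfsg

open scoped commutatorElement

universe u

variable {G : Type u} [Group G]

/-- The conjugation representation of the whole group on a normal elementary abelian subgroup. -/
noncomputable def conjRepNormal {p : ℕ} {V : Subgroup G} [hVn : V.Normal]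
    (hV : IsElementaryAbelian p V) : G →* Module.End (ZMod p) (ElemAbAdd p V hV) :=
  (conjRep hV (H := ⊤) (by rw [Subgroup.normalizer_eq_top]) :
    (⊤ : Subgroup G) →* Module.End (ZMod p) (ElemAbAdd p V hV)).comp
    (Subgroup.topEquiv (G := G)).symm.toMonoidHom

theorem conjRepNormal_eq_one_iff {p : ℕ} {V : Subgroup G} [hVn : V.Normal]
    (hV : IsElementaryAbelian p V) (g : G) :
    conjRepNormal hV g = 1 ↔ g ∈ Subgroup.centralizer (V : Set G) := by
  unfold conjRepNormal
  rw [MonoidHom.comp_apply, conjRep_eq_one_iff]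
  rfl

theorem conjRepNormal_quadratic {p : ℕ} {V : Subgroup G} [hVn : V.Normal]
    (hV : IsElementaryAbelian p V) (a : G)
    (hq : ⁅⁅V, Subgroup.zpowers a⁆, Subgroup.zpowers a⁆ = ⊥) (x : ElemAbAdd p V hV) :
    conjRepNormal hV a (conjRepNormal hV a x - x) = conjRepNormal hV a x - x := by
  unfold conjRepNormal
  rw [MonoidHom.comp_apply]
  exact conjRep_quadratic hV _ ((Subgroup.topEquiv (G := G)).symm a) hq x

/-- **`p`-stability of `p`-solvable groups**, `p ≥ 5`, on a normal elementary abelian subgroup. -/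
theorem isPStableOn_of_isPSolvable [Finite G] {p : ℕ} [Fact p.Prime] (hp : 5 ≤ p)
    (hsol : IsPSolvable p G) (V : Subgroup G) [hVn : V.Normal] (hV : IsElementaryAbelian p V) :
    IsPStableOn p V := by
  intro a hq
  set C := Subgroup.centralizer (V : Set G) with hC
  by_contra hna
  have hker : C ≤ (conjRepNormal hV).ker := by
    intro c hc
    rw [MonoidHom.mem_ker, conjRepNormal_eq_one_iff]
    exact hc
  set ρ : G ⧸ C →* Module.End (ZMod p) (ElemAbAdd p V hV) :=
    QuotientGroup.lift C (conjRepNormal hV) hker with hρ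
  have hρinj : Function.Injective ρ := by
    rw [injective_iff_map_eq_one]
    intro q hq1
    obtain ⟨g, rfl⟩ := QuotientGroup.mk_surjective q
    rw [hρ, QuotientGroup.lift_mk, conjRepNormal_eq_one_iff] at hq1
    exact (QuotientGroup.eq_one_iff g).mpr hq1
  have hqa : ∀ m, ρ (QuotientGroup.mk a) (ρ (QuotientGroup.mk a) m - m) =
      ρ (QuotientGroup.mk a) m - m := by
    intro m
    rw [hρ, QuotientGroup.lift_mk]
    exact conjRepNormal_quadratic hV a hq m
  have hp2 : p ≠ 2 := by omega
  obtain ⟨hp3, -⟩ := exists_sl23_of_quadratic_not_mem_pCore hp2 ρ hρinj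
    (Cfsg.Agent.Helper54.IsPSolvable.quotient hsol C) (QuotientGroup.mk a) hqa hna
  omega

lemma relIndex_ker_comap {A B : Type*} [Group A] [Group B] (f : A →* B)
    (hf : Function.Surjective f) (Q : Subgroup B) : f.ker.relIndex (Q.comap f) = Nat.card Q := by
  rw [← MonoidHom.comap_bot, Subgroup.relIndex_comap, Subgroup.map_comap_eq_self_of_surjective hf,
    Subgroup.relIndex_bot_left]

/-- **`p`-stability of `p`-solvable groups**, `p ≥ 5`, on an elementary abelian section. -/
theorem isPStableOnSection_of_isPSolvable [Finite G] {p : ℕ} [Fact p.Prime] (hp : 5 ≤ p)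
    (hsol : IsPSolvable p G) (K N : Subgroup G) [hKn : K.Normal] [hNn : N.Normal]
    (hcomm : ∀ x ∈ K, ∀ y ∈ K, ⁅x, y⁆ ∈ N) (hpow : ∀ x ∈ K, x ^ p ∈ N) :
    IsPStableOnSection p K N := by
  intro a hq
  set π := QuotientGroup.mk' N with hπ
  have hπs : Function.Surjective π := QuotientGroup.mk'_surjective N
  set V : Subgroup (G ⧸ N) := K.map π with hVdef
  haveI hVn : V.Normal := hKn.map π hπs
  have hV : IsElementaryAbelian p V := by
    rw [isElementaryAbelian_iff]
    constructor
    · rintro _ ⟨x, hx, rfl⟩ _ ⟨y, hy, rfl⟩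
      have h1 := hcomm x hx y hy
      have h2 : π ⁅x, y⁆ = 1 := (QuotientGroup.eq_one_iff _).mpr h1
      rw [map_commutatorElement, commutatorElement_eq_one_iff_mul_comm] at h2
      exact h2
    · rintro _ ⟨x, hx, rfl⟩
      rw [← map_pow]
      exact (QuotientGroup.eq_one_iff _).mpr (hpow x hx)
  have hst := isPStableOn_of_isPSolvable hp (Cfsg.Agent.Helper54.IsPSolvable.quotient hsol N) V hV
  have hq' : ⁅⁅V, Subgroup.zpowers (π a)⁆, Subgroup.zpowers (π a)⁆ = ⊥ := by
    rw [hVdef, ← MonoidHom.map_zpowers, ← Subgroup.map_commutator, ← Subgroup.map_commutator,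
      Subgroup.map_eq_bot_iff, QuotientGroup.ker_mk']
    exact hq
  have hmem := hst (π a) hq'
  set C := Subgroup.centralizer (V : Set (G ⧸ N)) with hC
  set π₂ := QuotientGroup.mk' C with hπ₂
  have hπ₂s : Function.Surjective π₂ := QuotientGroup.mk'_surjective C
  set Q := pCore p ((G ⧸ N) ⧸ C) with hQ
  set D' : Subgroup (G ⧸ N) := Q.comap π₂ with hD'
  have hsk : sectionKernel K N = C.comap π := rfl
  refine ⟨D'.comap π, inferInstance, ?_, ?_, ?_⟩
  · rw [hsk]
    apply Subgroup.comap_mono
    intro c hc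
    rw [hD', Subgroup.mem_comap]
    have : π₂ c = 1 := (QuotientGroup.eq_one_iff c).mpr hc
    rw [this]; exact Q.one_mem
  · obtain ⟨k, hk⟩ := IsPGroup.iff_card.mp (Cfsg.Agent.Helper54.isPGroup_pCore (p := p)
      (G := (G ⧸ N) ⧸ C))
    refine ⟨k, ?_⟩
    rw [hsk, Subgroup.relIndex_comap, Subgroup.map_comap_eq_self_of_surjective hπs]
    have h1 := relIndex_ker_comap (QuotientGroup.mk' C) (QuotientGroup.mk'_surjective C) Q
    rw [QuotientGroup.ker_mk'] at h1
    rw [hD', hπ₂, h1]
    exact hk
  · rw [Subgroup.mem_comap, hD', Subgroup.mem_comap]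
    exact hmem

/-- closures of commuting elements of order dividing `p` are elementary abelian -/
lemma elemAb_closure_of_commute {p : ℕ} {T : Set G} (hcomm : ∀ x ∈ T, ∀ y ∈ T, x * y = y * x)
    (hpow : ∀ x ∈ T, x ^ p = 1) : IsElementaryAbelian p (Subgroup.closure T) := by
  have hc : IsMulCommutative (Subgroup.closure T) := Subgroup.isMulCommutative_closure hcomm
  rw [isElementaryAbelian_iff]
  have hc' := isMulCommutative_iff_of_setLike.mp hc
  refine ⟨hc', ?_⟩
  intro a ha
  induction ha using Subgroup.closure_induction with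
  | mem x hx => exact hpow x hx
  | one => exact one_pow p
  | mul x y hx hy hx1 hy1 =>
    have : Commute x y := hc' x hx y hy
    rw [this.mul_pow, hx1, hy1, one_mul]
  | inv x _ hx1 => rw [inv_pow, hx1, inv_one]

/-- `Ω₁(Z(J(P)))` is elementary abelian. -/
lemma isElementaryAbelian_omegaCenterThompson (p : ℕ) (P : Type u) [Group P] :
    IsElementaryAbelian p (omegaCenterThompson p P) := by
  unfold omegaCenterThompson omegaOne
  apply elemAb_closure_of_commute
  · rintro x ⟨hx, -⟩ y ⟨hy, -⟩
    exact ((Subgroup.mem_centralizer_iff.mp (Subgroup.mem_inf.mp hy).2) x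
      (Subgroup.mem_inf.mp hx).1)
  · rintro x ⟨-, hx⟩
    exact hx

end Cfsg.Agent.Helper10
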