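import Mathlib
import Cfsg.Agent.Lib.Helper10.Frattini
import Cfsg.Agent.Lib.Helper10.MinNormal

set_option autoImplicit false

namespace Cfsg.Agent.Helper10

variable {G : Type*} [Group G]

lemma eq_bot_of_normal_of_le_of_normalCore_eq_bot {U K : Subgroup G} (hcore : U.normalCore = ⊥)
    (hK : K.Normal) (hKU : K ≤ U) : K = ⊥ := by
  have := (Subgroup.normal_le_normalCore (H := U) (N := K)).mpr hKU
  rwa [hcore, le_bot_iff] at this

/-- P1: a nontrivial normal subgroup supplements a core-free maximal subgroup. -/
lemma sup_eq_top_of_corefree_coatom {U N : Subgroup G} (hU : IsCoatom U) (hcore : U.normalCore = ⊥)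
    [hN : N.Normal] (hNne : N ≠ ⊥) : N ⊔ U = ⊤ := by
  apply sup_eq_top_of_isCoatom_of_not_le hU
  intro h
  exact hNne (eq_bot_of_normal_of_le_of_normalCore_eq_bot hcore hN h)

/-- If `N ⊔ U = ⊤`, `K ≤ U ⊓ centralizer N`... more precisely: a subgroup of `U` which is normalized
by `U` and centralized by `N` is normal when `N ⊔ U = ⊤`. -/
lemma normal_of_sup_eq_top {U N K : Subgroup G} (htop : N ⊔ U = ⊤)
    (hN : N ≤ Subgroup.normalizer (K : Set G)) (hU : U ≤ Subgroup.normalizer (K : Set G)) :
    K.Normal := by
  rw [← Subgroup.normalizer_eq_top_iff, eq_top_iff, ← htop]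
  exact sup_le hN hU

/-- P2: an abelian normal subgroup meets a core-free maximal subgroup trivially. -/
lemma inf_eq_bot_of_corefree_coatom {U N : Subgroup G} (hU : IsCoatom U) (hcore : U.normalCore = ⊥)
    [hN : N.Normal] (hNne : N ≠ ⊥) [hab : IsMulCommutative N] : N ⊓ U = ⊥ := by
  have htop := sup_eq_top_of_corefree_coatom hU hcore hNne
  apply eq_bot_of_normal_of_le_of_normalCore_eq_bot hcore _ inf_le_right
  apply normal_of_sup_eq_top htop
  · refine le_trans ?_ (Subgroup.centralizer_le_normalizer _)
    intro a ha
    rw [Subgroup.mem_centralizer_iff]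
    intro x hx
    exact setLike_mul_comm hx.1 ha
  · have h1 : U ≤ Subgroup.normalizer (N : Set G) := by
      rw [Subgroup.normalizer_eq_top]; exact le_top
    exact (le_inf h1 Subgroup.le_normalizer).trans Subgroup.inf_normalizer_le_normalizer_inf

/-- P3: an abelian nontrivial normal subgroup is self-centralizing in a group with a core-free
maximal subgroup. -/
lemma centralizer_eq_of_corefree_coatom {U N : Subgroup G} (hU : IsCoatom U)
    (hcore : U.normalCore = ⊥) [hN : N.Normal] (hNne : N ≠ ⊥) [hab : IsMulCommutative N] :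
    Subgroup.centralizer (N : Set G) = N := by
  have htop := sup_eq_top_of_corefree_coatom hU hcore hNne
  set C := Subgroup.centralizer (N : Set G) with hC
  have hNC : N ≤ C := Subgroup.le_centralizer N
  have hCU : C ⊓ U = ⊥ := by
    apply eq_bot_of_normal_of_le_of_normalCore_eq_bot hcore _ inf_le_right
    apply normal_of_sup_eq_top htop
    · refine le_trans ?_ (Subgroup.centralizer_le_normalizer _)
      intro a ha
      rw [Subgroup.mem_centralizer_iff]
      intro x hx
      exact (Subgroup.mem_centralizer_iff.mp hx.1 a ha).symm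
    · have h1 : U ≤ Subgroup.normalizer (C : Set G) := by
        rw [Subgroup.normalizer_eq_top]; exact le_top
      exact (le_inf h1 Subgroup.le_normalizer).trans Subgroup.inf_normalizer_le_normalizer_inf
  apply le_antisymm _ hNC
  have := dedekind_normal N U C hNC
  rwa [htop, inf_top_eq, hCU, sup_bot_eq] at this

end Cfsg.Agent.Helper10
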