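import Mathlib

set_option autoImplicit false

namespace Cfsg.Agent.Helper10

open Pointwise

variable {G : Type*} [Group G]

/-- The product formula `|HK| |H ∩ K| = |H| |K|` for the product set of two subgroups. -/
theorem card_set_mul_mul_card_inf (H K : Subgroup G) :
    Nat.card ((H : Set G) * (K : Set G) : Set G) * Nat.card (H ⊓ K : Subgroup G) =
      Nat.card H * Nat.card K := by
  classical
  rw [← Nat.card_prod, ← Nat.card_prod]
  apply Nat.card_congr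
  -- choose a decomposition for every element of HK
  have hdec : ∀ g : ((H : Set G) * (K : Set G) : Set G), ∃ h ∈ H, ∃ k ∈ K, h * k = (g : G) :=
    fun g => Set.mem_mul.mp g.2
  choose h₀ hh₀ k₀ hk₀ hhk using hdec
  refine
    { toFun := fun gx => (⟨h₀ gx.1 * gx.2, H.mul_mem (hh₀ gx.1) gx.2.2.1⟩,
        ⟨(gx.2 : G)⁻¹ * k₀ gx.1, K.mul_mem (K.inv_mem gx.2.2.2) (hk₀ gx.1)⟩)
      invFun := fun hk =>
        (⟨hk.1 * hk.2, Set.mul_mem_mul hk.1.2 hk.2.2⟩,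
          ⟨(h₀ ⟨hk.1 * hk.2, Set.mul_mem_mul hk.1.2 hk.2.2⟩)⁻¹ * hk.1, ?_⟩)
      left_inv := ?_
      right_inv := ?_ }
  · set g : ((H : Set G) * (K : Set G) : Set G) := ⟨hk.1 * hk.2, Set.mul_mem_mul hk.1.2 hk.2.2⟩
    refine ⟨H.mul_mem (H.inv_mem (hh₀ g)) hk.1.2, ?_⟩
    have h1 : h₀ g * k₀ g = hk.1 * hk.2 := hhk g
    have h2 : (h₀ g)⁻¹ * hk.1 = k₀ g * (hk.2 : G)⁻¹ := by
      calc (h₀ g)⁻¹ * hk.1 = (h₀ g)⁻¹ * (hk.1 * hk.2) * (hk.2 : G)⁻¹ := by group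
        _ = (h₀ g)⁻¹ * (h₀ g * k₀ g) * (hk.2 : G)⁻¹ := by rw [h1]
        _ = k₀ g * (hk.2 : G)⁻¹ := by group
    show (h₀ g)⁻¹ * hk.1 ∈ K
    rw [h2]
    exact K.mul_mem (hk₀ g) (K.inv_mem hk.2.2)
  · rintro ⟨g, x⟩
    have h1 : h₀ g * (x : G) * ((x : G)⁻¹ * k₀ g) = (g : G) := by
      rw [← hhk g]; group
    apply Prod.ext
    · apply Subtype.ext
      exact h1
    · apply Subtype.ext
      simp only
      have : (⟨h₀ g * (x : G) * ((x : G)⁻¹ * k₀ g), Set.mul_mem_mul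
          (H.mul_mem (hh₀ g) x.2.1) (K.mul_mem (K.inv_mem x.2.2) (hk₀ g))⟩ :
            ((H : Set G) * (K : Set G) : Set G)) = g := Subtype.ext h1
      rw [this]
      group
  · rintro ⟨h, k⟩
    set g : ((H : Set G) * (K : Set G) : Set G) := ⟨h * k, Set.mul_mem_mul h.2 k.2⟩ with hg
    have h1 : h₀ g * k₀ g = h * k := hhk g
    apply Prod.ext
    · apply Subtype.ext
      show h₀ g * ((h₀ g)⁻¹ * h) = h
      group
    · apply Subtype.ext
      show ((h₀ g)⁻¹ * h)⁻¹ * k₀ g = k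
      calc ((h₀ g)⁻¹ * (h : G))⁻¹ * k₀ g = (h : G)⁻¹ * (h₀ g * k₀ g) := by group
        _ = (h : G)⁻¹ * (h * k) := by rw [h1]
        _ = k := by group

end Cfsg.Agent.Helper10
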