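import Mathlib
import Cfsg.Prelude.Def_Transfer
import Cfsg.Agent.Lib.Helper10.ElemAb

set_option autoImplicit false

namespace Cfsg.Agent.Helper10

open Cfsg

variable {G : Type*} [Group G]

/-- Conjugation by an element `a` of the normalizer of `V` sends `V` to itself. -/
lemma conj_mem_of_mem_normalizer {V : Subgroup G} {a v : G}
    (ha : a ∈ Subgroup.normalizer (V : Set G)) (hv : v ∈ V) : a * v * a⁻¹ ∈ V :=
  (ha v).mp hv

/-- Key computation for quadratic action: if `[V, H, H] = 1` and `H` normalizes the abelian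
group `V`, then for `a ∈ H`, `v ∈ V`, we have `a v a⁻¹ = w v` with `w ∈ V` centralized by `H`. -/
lemma quadratic_conj {V H : Subgroup G}
    (hHV : H ≤ Subgroup.normalizer (V : Set G)) (hq : ⁅⁅V, H⁆, H⁆ = ⊥)
    {a v : G} (ha : a ∈ H) (hv : v ∈ V) :
    ∃ w ∈ V, (∀ h ∈ H, h * w = w * h) ∧ a * v * a⁻¹ = w * v := by
  refine ⟨a * v * a⁻¹ * v⁻¹, V.mul_mem (conj_mem_of_mem_normalizer (hHV ha) hv) (V.inv_mem hv),
    ?_, by group⟩
  have hw : (a * v * a⁻¹ * v⁻¹)⁻¹ ∈ ⁅V, H⁆ := by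
    have := Subgroup.commutator_mem_commutator hv ha
    convert this using 1
    rw [commutatorElement_def]
    group
  have hw' : a * v * a⁻¹ * v⁻¹ ∈ ⁅V, H⁆ := by simpa using inv_mem hw
  rw [Subgroup.commutator_eq_bot_iff_le_centralizer] at hq
  intro h hh
  exact (Subgroup.mem_centralizer_iff.mp (hq hw') h hh)

lemma quadratic_conj_pow {H : Subgroup G}
    {a v w : G} (ha : a ∈ H) (hw : ∀ h ∈ H, h * w = w * h) (hav : a * v * a⁻¹ = w * v) (k : ℕ) :
    a ^ k * v * (a ^ k)⁻¹ = w ^ k * v := by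
  induction k with
  | zero => simp
  | succ k ih =>
    have h1 : a ^ (k + 1) * v * (a ^ (k + 1))⁻¹ = a * (a ^ k * v * (a ^ k)⁻¹) * a⁻¹ := by
      rw [pow_succ']; group
    have h2 : a * w ^ k = w ^ k * a := by
      have : Commute a w := hw a ha
      exact this.pow_right k
    rw [h1, ih]
    calc a * (w ^ k * v) * a⁻¹ = (a * w ^ k) * v * a⁻¹ := by group
      _ = w ^ k * a * v * a⁻¹ := by rw [h2]
      _ = w ^ k * (a * v * a⁻¹) := by group
      _ = w ^ k * (w * v) := by rw [hav]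
      _ = w ^ (k + 1) * v := by rw [pow_succ]; group

/-- Under quadratic action on an abelian `V`, conjugations by elements of `H` commute on `V`. -/
lemma quadratic_conj_comm {V H : Subgroup G} (hVab : ∀ x ∈ V, ∀ y ∈ V, x * y = y * x)
    (hHV : H ≤ Subgroup.normalizer (V : Set G)) (hq : ⁅⁅V, H⁆, H⁆ = ⊥)
    {a b v : G} (ha : a ∈ H) (hb : b ∈ H) (hv : v ∈ V) :
    a * (b * v * b⁻¹) * a⁻¹ = b * (a * v * a⁻¹) * b⁻¹ := by
  obtain ⟨wa, hwaV, hwa, hav⟩ := quadratic_conj hHV hq ha hv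
  obtain ⟨wb, hwbV, hwb, hbv⟩ := quadratic_conj hHV hq hb hv
  rw [hav, hbv]
  have h1 : a * (wb * v) * a⁻¹ = wb * (wa * v) := by
    calc a * (wb * v) * a⁻¹ = (a * wb) * v * a⁻¹ := by group
      _ = (wb * a) * v * a⁻¹ := by rw [hwb a ha]
      _ = wb * (a * v * a⁻¹) := by group
      _ = wb * (wa * v) := by rw [hav]
  have h2 : b * (wa * v) * b⁻¹ = wa * (wb * v) := by
    calc b * (wa * v) * b⁻¹ = (b * wa) * v * b⁻¹ := by group
      _ = (wa * b) * v * b⁻¹ := by rw [hwa b hb]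
      _ = wa * (b * v * b⁻¹) := by group
      _ = wa * (wb * v) := by rw [hbv]
  rw [h1, h2, ← mul_assoc, ← mul_assoc, hVab wb hwbV wa hwaV]

end Cfsg.Agent.Helper10
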