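import Mathlib
import Cfsg.Agent.Lib.Helper62.SLN0
import Cfsg.Agent.Lib.Helper87.SLNC0

/-!
# SLNC (helper93 sub-server of SLN, S2332): piece SIG `exists_sigma`

The mirror automorphism is `Cfsg.Agent.Helper87.SLN.mir jn` (`g ↦ (g⁻¹)ᵀ` reindexed by the swap
`inl () ↔ inr jn`); here we compute it on the root elements `1 + s E_ab`.
-/

set_option autoImplicit false

namespace Cfsg.Agent.Helper10.SLNC

open Matrix Module Cfsg.Agent.Helper93.U2 Cfsg.Agent.Helper62.SLN

section GRP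

variable {F : Type*} [Field F] {κ : Type} [Fintype κ] [DecidableEq κ]

theorem h10_uEl_single (i : κ) (s : F) :
    (uEl (s • (Pi.single i 1 : κ → F)) : Matrix (Unit ⊕ κ) (Unit ⊕ κ) F) =
      1 + Matrix.single (Sum.inl ()) (Sum.inr i) s := by
  rw [uEl_val]
  ext a b
  rcases a with ⟨⟩ | a <;> rcases b with ⟨⟩ | b
  · simp [Matrix.single_apply, Matrix.one_apply]
  · simp [Matrix.single_apply, Matrix.one_apply, Pi.single_apply, eq_comm]
  · simp [Matrix.single_apply, Matrix.one_apply]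
  · simp [Matrix.single_apply, Matrix.one_apply]

theorem h10_qEl_single (i k : κ) (hik : k ≠ i) (s : F) :
    (qEl i (s • (Pi.single k 1 : κ → F)) : Matrix (Unit ⊕ κ) (Unit ⊕ κ) F) =
      1 + Matrix.single (Sum.inr i) (Sum.inr k) s := by
  rw [qEl, lEl_val, tvEl_val]
  ext a b
  rcases a with ⟨⟩ | a <;> rcases b with ⟨⟩ | b
  · simp [Matrix.single_apply, Matrix.one_apply]
  · simp [Matrix.single_apply, Matrix.one_apply]
  · simp [Matrix.single_apply, Matrix.one_apply]
  · rw [Matrix.fromBlocks_apply₂₂, Matrix.add_apply, Matrix.add_apply, Matrix.vecMulVec_apply,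
      Matrix.single_apply, Matrix.one_apply, Matrix.one_apply, Pi.single_apply,
      Function.update_apply, Pi.smul_apply, Pi.single_apply, smul_eq_mul]
    by_cases h1 : a = i
    · subst h1
      by_cases h2 : b = k
      · subst h2
        simp [hik]
      · have h3 : ¬ (k = b) := fun h => h2 h.symm
        by_cases h4 : b = a
        · simp [h2, h3, h4, hik]
        · simp [h2, h3, h4]
    · have h3 : ¬ (i = a) := fun h => h1 h.symm
      simp [h1, h3]

theorem h10_mir_single (jn : κ) (g : SpecialLinearGroup (Unit ⊕ κ) F) (a b : Unit ⊕ κ)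
    (hab : a ≠ b) (s : F)
    (hg : (g : Matrix (Unit ⊕ κ) (Unit ⊕ κ) F) = 1 + Matrix.single a b s) :
    (Cfsg.Agent.Helper87.SLN.mir jn g : Matrix (Unit ⊕ κ) (Unit ⊕ κ) F) =
      1 + Matrix.single (Cfsg.Agent.Helper87.SLN.swp jn b) (Cfsg.Agent.Helper87.SLN.swp jn a)
        (-s) := by
  have h1 : (g : Matrix (Unit ⊕ κ) (Unit ⊕ κ) F) * (1 + Matrix.single a b (-s)) = 1 := by
    rw [hg, add_mul, mul_add, mul_add, one_mul, mul_one, one_mul,
      Matrix.single_mul_single_of_ne (c := s) a b a (Ne.symm hab) (-s), add_zero,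
      add_assoc, ← Matrix.single_add, neg_add_cancel, Matrix.single_zero, add_zero]
  have hinv : ((g⁻¹ : SpecialLinearGroup (Unit ⊕ κ) F) : Matrix (Unit ⊕ κ) (Unit ⊕ κ) F) =
      1 + Matrix.single a b (-s) := by
    calc ((g⁻¹ : SpecialLinearGroup (Unit ⊕ κ) F) : Matrix (Unit ⊕ κ) (Unit ⊕ κ) F)
        = ((g⁻¹ : SpecialLinearGroup (Unit ⊕ κ) F) : Matrix (Unit ⊕ κ) (Unit ⊕ κ) F) *
            ((g : Matrix (Unit ⊕ κ) (Unit ⊕ κ) F) * (1 + Matrix.single a b (-s))) := by
          rw [h1, mul_one]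
      _ = ((g⁻¹ * g : SpecialLinearGroup (Unit ⊕ κ) F) : Matrix (Unit ⊕ κ) (Unit ⊕ κ) F) *
            (1 + Matrix.single a b (-s)) := by
          rw [Matrix.SpecialLinearGroup.coe_mul, mul_assoc]
      _ = 1 + Matrix.single a b (-s) := by
          rw [inv_mul_cancel, Matrix.SpecialLinearGroup.coe_one, one_mul]
  rw [Cfsg.Agent.Helper87.SLN.mir_val, hinv, Matrix.transpose_add, Matrix.transpose_one,
    Matrix.transpose_single]
  have h2 : ((1 : Matrix (Unit ⊕ κ) (Unit ⊕ κ) F) + Matrix.single b a (-s)).submatrix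
      (Cfsg.Agent.Helper87.SLN.swp jn) (Cfsg.Agent.Helper87.SLN.swp jn) =
      (1 : Matrix (Unit ⊕ κ) (Unit ⊕ κ) F).submatrix
        (Cfsg.Agent.Helper87.SLN.swp jn) (Cfsg.Agent.Helper87.SLN.swp jn) +
      (Matrix.single b a (-s)).submatrix
        (Cfsg.Agent.Helper87.SLN.swp jn) (Cfsg.Agent.Helper87.SLN.swp jn) := rfl
  rw [h2, Matrix.submatrix_one_equiv, Matrix.submatrix_single_equiv]
  rfl

/-- piece SIG [M-L]: the mirror automorphism. -/
theorem exists_sigma (jn : κ) :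
    ∃ σ : SpecialLinearGroup (Unit ⊕ κ) F ≃* SpecialLinearGroup (Unit ⊕ κ) F,
      (∀ g, σ (σ g) = g) ∧
      (∀ i : κ, i ≠ jn → ∀ s : F,
        σ (qEl i (s • (Pi.single jn 1 : κ → F))) = uEl ((-s) • (Pi.single i 1 : κ → F))) ∧
      (∀ s : F, σ (uEl (s • (Pi.single jn 1 : κ → F))) = uEl ((-s) • (Pi.single jn 1 : κ → F))) ∧
      (∀ i j : κ, i ≠ j → i ≠ jn → j ≠ jn → ∀ s : F,
        σ (qEl j (s • (Pi.single i 1 : κ → F))) = qEl i ((-s) • (Pi.single j 1 : κ → F))) := by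
  refine ⟨Cfsg.Agent.Helper87.SLN.mir jn, Cfsg.Agent.Helper87.SLN.mirF_mirF jn, ?_, ?_, ?_⟩
  · intro i hi s
    apply Cfsg.Agent.Helper87.SLN.h87_sl_ext
    rw [h10_mir_single jn _ (Sum.inr i) (Sum.inr jn) (by simpa using hi) s
      (h10_qEl_single i jn (Ne.symm hi) s), h10_uEl_single]
    have e1 : Cfsg.Agent.Helper87.SLN.swp jn (Sum.inr jn) = Sum.inl () := by
      unfold Cfsg.Agent.Helper87.SLN.swp
      rw [Equiv.swap_apply_right]
    have e2 : Cfsg.Agent.Helper87.SLN.swp jn (Sum.inr i) = Sum.inr i := by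
      unfold Cfsg.Agent.Helper87.SLN.swp
      rw [Equiv.swap_apply_of_ne_of_ne (by simp) (by simpa using hi)]
    rw [e1, e2]
  · intro s
    apply Cfsg.Agent.Helper87.SLN.h87_sl_ext
    rw [h10_mir_single jn _ (Sum.inl ()) (Sum.inr jn) (by simp) s
      (h10_uEl_single jn s), h10_uEl_single]
    have e1 : Cfsg.Agent.Helper87.SLN.swp jn (Sum.inr jn) = Sum.inl () := by
      unfold Cfsg.Agent.Helper87.SLN.swp
      rw [Equiv.swap_apply_right]
    have e2 : Cfsg.Agent.Helper87.SLN.swp jn (Sum.inl ()) = Sum.inr jn := by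
      unfold Cfsg.Agent.Helper87.SLN.swp
      rw [Equiv.swap_apply_left]
    rw [e1, e2]
  · intro i j hij hi hj s
    apply Cfsg.Agent.Helper87.SLN.h87_sl_ext
    rw [h10_mir_single jn _ (Sum.inr j) (Sum.inr i) (by simpa using (Ne.symm hij)) s
      (h10_qEl_single j i hij s), h10_qEl_single i j (Ne.symm hij)]
    have e1 : Cfsg.Agent.Helper87.SLN.swp jn (Sum.inr i) = Sum.inr i := by
      unfold Cfsg.Agent.Helper87.SLN.swp
      rw [Equiv.swap_apply_of_ne_of_ne (by simp) (by simpa using hi)]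
    have e2 : Cfsg.Agent.Helper87.SLN.swp jn (Sum.inr j) = Sum.inr j := by
      unfold Cfsg.Agent.Helper87.SLN.swp
      rw [Equiv.swap_apply_of_ne_of_ne (by simp) (by simpa using hj)]
    rw [e1, e2]

end GRP

end Cfsg.Agent.Helper10.SLNC
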