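import Mathlib
import Cfsg.Agent.Lib.Helper62.SLN0
import Cfsg.Agent.Lib.Helper87.SLNC0
import Cfsg.Agent.Lib.Helper10.SLNC_SIG

/-!
# SLNC (helper51 sub-server of SLN, S2332): sub-piece CM `exists_mirror`

The mirror automorphism is `Cfsg.Agent.Helper87.SLN.mir jn`; the four identities follow from
`h10_mir_single` (`σ (1 + s E_ab) = 1 - s E_{π b, π a}`) of `SLNC_SIG`.
-/

set_option autoImplicit false

namespace Cfsg.Agent.Helper10.SLNC

open Matrix Module Cfsg.Agent.Helper93.U2 Cfsg.Agent.Helper62.SLN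

section CM

variable {F : Type*} [Field F] {κ : Type} [Fintype κ] [DecidableEq κ]

theorem h10_swp_jn (jn : κ) :
    Cfsg.Agent.Helper87.SLN.swp jn (Sum.inr jn) = Sum.inl () := by
  unfold Cfsg.Agent.Helper87.SLN.swp
  rw [Equiv.swap_apply_right]

theorem h10_swp_inl (jn : κ) :
    Cfsg.Agent.Helper87.SLN.swp jn (Sum.inl ()) = Sum.inr jn := by
  unfold Cfsg.Agent.Helper87.SLN.swp
  rw [Equiv.swap_apply_left]

theorem h10_swp_ne (jn i : κ) (hi : i ≠ jn) :
    Cfsg.Agent.Helper87.SLN.swp jn (Sum.inr i) = Sum.inr i := by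
  unfold Cfsg.Agent.Helper87.SLN.swp
  rw [Equiv.swap_apply_of_ne_of_ne (by simp) (by simpa using hi)]

/-- sub-piece CM -/
theorem exists_mirror (j jn : κ) (hj : j ≠ jn) :
    ∃ σ : SpecialLinearGroup (Unit ⊕ κ) F ≃* SpecialLinearGroup (Unit ⊕ κ) F,
      (∀ b : F, σ (uEl (b • Pi.single jn 1)) = uEl ((-b) • Pi.single jn 1)) ∧
      (∀ i : κ, i ≠ jn → ∀ a : F, σ (uEl (a • Pi.single i 1)) = qEl i ((-a) • Pi.single jn 1)) ∧
      (∀ i : κ, i ≠ j → i ≠ jn → ∀ a : F,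
        σ (qEl i (a • Pi.single j 1)) = qEl j ((-a) • Pi.single i 1)) ∧
      (∀ i : κ, i ≠ jn → ∀ a : F, σ (qEl i (a • Pi.single jn 1)) = uEl ((-a) • Pi.single i 1)) := by
  refine ⟨Cfsg.Agent.Helper87.SLN.mir jn, ?_, ?_, ?_, ?_⟩
  · intro s
    apply Cfsg.Agent.Helper87.SLN.h87_sl_ext
    rw [h10_mir_single jn _ (Sum.inl ()) (Sum.inr jn) (by simp) s
      (h10_uEl_single jn s), h10_uEl_single, h10_swp_jn, h10_swp_inl]
  · intro i hi a
    apply Cfsg.Agent.Helper87.SLN.h87_sl_ext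
    rw [h10_mir_single jn _ (Sum.inl ()) (Sum.inr i) (by simp) a
      (h10_uEl_single i a), h10_qEl_single i jn (Ne.symm hi), h10_swp_ne jn i hi, h10_swp_inl]
  · intro i hij hi a
    apply Cfsg.Agent.Helper87.SLN.h87_sl_ext
    rw [h10_mir_single jn _ (Sum.inr i) (Sum.inr j) (by simpa using hij) a
      (h10_qEl_single i j (Ne.symm hij) a), h10_qEl_single j i hij, h10_swp_ne jn i hi,
      h10_swp_ne jn j hj]
  · intro i hi s
    apply Cfsg.Agent.Helper87.SLN.h87_sl_ext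
    rw [h10_mir_single jn _ (Sum.inr i) (Sum.inr jn) (by simpa using hi) s
      (h10_qEl_single i jn (Ne.symm hi) s), h10_uEl_single, h10_swp_jn, h10_swp_ne jn i hi]

end CM

end Cfsg.Agent.Helper10.SLNC
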