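import Mathlib
import Cfsg.Agent.Lib.Helper2.SR0
import Cfsg.Agent.Lib.Helper79.SRC2
import Cfsg.Agent.Lib.Helper79.SRC3

/-!
# SR server (helper2, S2281): pieces (C4) `u_be` and (C5) `u_bf`
-/

set_option autoImplicit false

namespace Cfsg.Agent.Helper10.SR

open Matrix Cfsg Cfsg.Agent.Helper13 Cfsg.Agent.Helper84.SpRoot Cfsg.Agent.Helper5.SpAut
open Cfsg.Agent.Helper2.SR

section C
variable {F : Type*} [Field F] {m : ℕ}

theorem h10_be_inl (i k : Fin (m + 2)) :
    (be i : Fin (m + 2) ⊕ Fin (m + 2) → F) (Sum.inl k) = if k = i then 1 else 0 := by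
  unfold be
  rw [Pi.single_apply]
  simp only [Sum.inl.injEq]

theorem h10_be_inr (i k : Fin (m + 2)) :
    (be i : Fin (m + 2) ⊕ Fin (m + 2) → F) (Sum.inr k) = 0 := by
  unfold be
  rw [Pi.single_apply, if_neg (by simp)]

theorem h10_bf_inr (i k : Fin (m + 2)) :
    (bf i : Fin (m + 2) ⊕ Fin (m + 2) → F) (Sum.inr k) = if k = i then 1 else 0 := by
  unfold bf
  rw [Pi.single_apply]
  simp only [Sum.inr.injEq]

theorem h10_bf_inl (i k : Fin (m + 2)) :
    (bf i : Fin (m + 2) ⊕ Fin (m + 2) → F) (Sum.inl k) = 0 := by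
  unfold bf
  rw [Pi.single_apply, if_neg (by simp)]

theorem h10_Pm_apply (i j : Fin (m + 2)) :
    Pm m F i j = (if i = j then 1 else 0) + (if i.val + 1 = j.val then 1 else 0) := by
  rw [Pm, Matrix.add_apply, Matrix.one_apply, Nm, Matrix.of_apply]

theorem h10_PY_apply' (s : F) (i j : Fin (m + 2)) :
    (Pm m F * (Ym (m := m) s : Matrix (Fin (m + 2)) (Fin (m + 2)) F)) i j =
      Pm m F i jB * (if j = jB then s else 0) := by
  rw [Matrix.mul_apply, Finset.sum_eq_single jB]
  · simp [Ym]
  · intro k _ hk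
    simp [Ym, hk]
  · intro h
    exact absurd (Finset.mem_univ _) h

theorem h10_YPt_apply (s : F) (i j : Fin (m + 2)) :
    ((Ym (m := m) s : Matrix (Fin (m + 2)) (Fin (m + 2)) F) * (Pm m F)ᵀ) i j =
      (if i = jB then s else 0) * Pm m F j jB := by
  rw [Matrix.mul_apply, Finset.sum_eq_single jB]
  · simp [Ym, Matrix.transpose_apply]
  · intro k _ hk
    simp [Ym, hk]
  · intro h
    exact absurd (Finset.mem_univ _) h

theorem h10_jA_ne_jB : (jA : Fin (m + 2)) ≠ jB := by
  intro h
  have := congrArg Fin.val h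
  simp [jA, jB] at this

theorem h10_fin_cases (i : Fin (m + 2)) : i = jB ∨ i = jA ∨ i.val < m := by
  have := i.2
  by_cases h1 : i.val = m + 1
  · exact Or.inl (Fin.ext h1)
  · by_cases h2 : i.val = m
    · exact Or.inr (Or.inl (Fin.ext h2))
    · exact Or.inr (Or.inr (by omega))

/-- (C4) uses C2 -/
theorem u_be (s : F) :
    (uEl (m := m) s).val *ᵥ be 0 = be 0 ∧ (uEl (m := m) s).val *ᵥ be 1 = be 1 + be 0 := by
  rw [Cfsg.Agent.Helper79.SR.uEl_val]
  constructor
  · unfold be
    rw [Matrix.mulVec_single_one]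
    funext a
    rcases a with i | i
    · show uM s (Sum.inl i) (Sum.inl 0) = (Pi.single (Sum.inl 0) 1 : Fin (m + 2) ⊕ Fin (m + 2) → F) (Sum.inl i)
      rw [uM, Matrix.fromBlocks_apply₁₁, h10_Pm_apply, Pi.single_apply]
      have h2 : ¬ (i.val + 1 = ((0 : Fin (m + 2)) : ℕ)) := by simp
      rw [if_neg h2, add_zero]
      simp only [Sum.inl.injEq]
    · show uM s (Sum.inr i) (Sum.inl 0) = (Pi.single (Sum.inl 0) 1 : Fin (m + 2) ⊕ Fin (m + 2) → F) (Sum.inr i)
      rw [uM, Matrix.fromBlocks_apply₂₁, Pi.single_apply, if_neg (by simp), Matrix.zero_apply]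
  · have hb : (be 1 : Fin (m + 2) ⊕ Fin (m + 2) → F) = Pi.single (Sum.inl 1) 1 := rfl
    rw [hb, Matrix.mulVec_single_one, ← hb]
    funext a
    rcases a with i | i
    · show uM s (Sum.inl i) (Sum.inl 1) = (be 1 + be 0 : Fin (m + 2) ⊕ Fin (m + 2) → F) (Sum.inl i)
      rw [uM, Matrix.fromBlocks_apply₁₁, h10_Pm_apply, Pi.add_apply, h10_be_inl, h10_be_inl]
      congr 1
      have h1 : ((1 : Fin (m + 2)) : ℕ) = 1 := by simp
      by_cases h0 : i = 0
      · subst h0
        simp
      · have h2 : ¬ (i.val + 1 = ((1 : Fin (m + 2)) : ℕ)) := by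
          rw [h1]
          intro h
          apply h0
          apply Fin.ext
          have h00 : ((0 : Fin (m + 2)) : ℕ) = 0 := rfl
          rw [h00]
          omega
        rw [if_neg h2, if_neg h0]
    · show uM s (Sum.inr i) (Sum.inl 1) = (be 1 + be 0 : Fin (m + 2) ⊕ Fin (m + 2) → F) (Sum.inr i)
      rw [uM, Matrix.fromBlocks_apply₂₁, Pi.add_apply, h10_be_inr, h10_be_inr, Matrix.zero_apply,
        add_zero]

theorem h10_Pinv_apply (i j : Fin (m + 2)) :
    Pinv m F i j = if i.val ≤ j.val then (-1) ^ (j.val - i.val) else 0 := by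
  rw [Pinv, Matrix.of_apply]

theorem h10_jA_val : ((jA : Fin (m + 2)) : ℕ) = m := rfl

theorem h10_jB_val : ((jB : Fin (m + 2)) : ℕ) = m + 1 := rfl

/-- (C5) uses C2 C3 -/
theorem u_bf (s : F) :
    (uEl (m := m) s).val *ᵥ bf jA = bf jA - bf jB ∧
    (uEl (m := m) s).val *ᵥ bf jB = bf jB + s • (be jB + be jA) ∧
    ((uEl (m := m) s)⁻¹).val *ᵥ bf jA = bf jA + bf jB - s • be jB := by
  rw [Cfsg.Agent.Helper79.SR.uEl_val, Cfsg.Agent.Helper79.SR.uEl_inv_val]
  have hAB : (jA : Fin (m + 2)) ≠ jB := h10_jA_ne_jB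
  have hfA : (bf jA : Fin (m + 2) ⊕ Fin (m + 2) → F) = Pi.single (Sum.inr jA) 1 := rfl
  have hfB : (bf jB : Fin (m + 2) ⊕ Fin (m + 2) → F) = Pi.single (Sum.inr jB) 1 := rfl
  refine ⟨?_, ?_, ?_⟩
  · rw [hfA, Matrix.mulVec_single_one, ← hfA]
    funext a
    rcases a with i | i
    · show uM s (Sum.inl i) (Sum.inr jA) = (bf jA - bf jB : Fin (m + 2) ⊕ Fin (m + 2) → F) (Sum.inl i)
      rw [uM, Matrix.fromBlocks_apply₁₂, h10_PY_apply', if_neg hAB, mul_zero, Pi.sub_apply,
        h10_bf_inl, h10_bf_inl, sub_zero]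
    · show uM s (Sum.inr i) (Sum.inr jA) = (bf jA - bf jB : Fin (m + 2) ⊕ Fin (m + 2) → F) (Sum.inr i)
      rw [uM, Matrix.fromBlocks_apply₂₂, Matrix.transpose_apply, h10_Pinv_apply, Pi.sub_apply,
        h10_bf_inr, h10_bf_inr, h10_jA_val]
      rcases h10_fin_cases i with h | h | h
      · subst h
        rw [if_pos (by rw [h10_jB_val]; omega), if_neg hAB.symm, if_pos rfl, h10_jB_val]
        have : m + 1 - m = 1 := by omega
        rw [this]
        ring
      · subst h
        rw [if_pos (by rw [h10_jA_val]), if_pos rfl, if_neg hAB, h10_jA_val]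
        simp
      · have h1 : i ≠ jA := by
          intro h2; rw [h2, h10_jA_val] at h; omega
        have h2 : i ≠ jB := by
          intro h2; rw [h2, h10_jB_val] at h; omega
        rw [if_neg (by omega), if_neg h1, if_neg h2, sub_zero]
  · rw [hfB, Matrix.mulVec_single_one, ← hfB]
    funext a
    rcases a with i | i
    · show uM s (Sum.inl i) (Sum.inr jB) =
        (bf jB + s • (be jB + be jA) : Fin (m + 2) ⊕ Fin (m + 2) → F) (Sum.inl i)
      rw [uM, Matrix.fromBlocks_apply₁₂, h10_PY_apply', if_pos rfl, h10_Pm_apply, Pi.add_apply,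
        Pi.smul_apply, Pi.add_apply, h10_bf_inl, h10_be_inl, h10_be_inl, h10_jB_val, zero_add,
        smul_eq_mul]
      rcases h10_fin_cases i with h | h | h
      · subst h
        rw [if_pos rfl, if_neg (by rw [h10_jB_val]; omega), if_neg hAB.symm]
        ring
      · subst h
        rw [if_neg hAB, if_pos (by rw [h10_jA_val]), if_pos rfl]
        ring
      · have h1 : i ≠ jA := by
          intro h2; rw [h2, h10_jA_val] at h; omega
        have h2 : i ≠ jB := by
          intro h2; rw [h2, h10_jB_val] at h; omega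
        rw [if_neg h2, if_neg (by omega), if_neg h1]
        ring
    · show uM s (Sum.inr i) (Sum.inr jB) =
        (bf jB + s • (be jB + be jA) : Fin (m + 2) ⊕ Fin (m + 2) → F) (Sum.inr i)
      rw [uM, Matrix.fromBlocks_apply₂₂, Matrix.transpose_apply, h10_Pinv_apply, Pi.add_apply,
        Pi.smul_apply, Pi.add_apply, h10_bf_inr, h10_be_inr, h10_be_inr, h10_jB_val, add_zero,
        smul_zero, add_zero]
      by_cases h : i = jB
      · subst h
        rw [if_pos (by rw [h10_jB_val]), if_pos rfl, h10_jB_val]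
        simp
      · have h1 : ¬ (m + 1 ≤ i.val) := by
          intro h2
          apply h
          apply Fin.ext
          rw [h10_jB_val]
          have := i.2
          omega
        rw [if_neg h1, if_neg h]
  · have hP : Pm m F jA jB = 1 := by
      rw [h10_Pm_apply, if_neg hAB, if_pos (by rw [h10_jA_val, h10_jB_val]), zero_add]
    rw [hfA, Matrix.mulVec_single_one, ← hfA]
    funext a
    rcases a with i | i
    · show uinvM s (Sum.inl i) (Sum.inr jA) =
        (bf jA + bf jB - s • be jB : Fin (m + 2) ⊕ Fin (m + 2) → F) (Sum.inl i)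
      rw [uinvM, Matrix.fromBlocks_apply₁₂, Matrix.neg_apply, h10_YPt_apply, hP, mul_one,
        Pi.sub_apply, Pi.add_apply, Pi.smul_apply, h10_bf_inl, h10_bf_inl, h10_be_inl,
        smul_eq_mul]
      by_cases h : i = jB
      · rw [if_pos h, if_pos h]
        ring
      · rw [if_neg h, if_neg h]
        ring
    · show uinvM s (Sum.inr i) (Sum.inr jA) =
        (bf jA + bf jB - s • be jB : Fin (m + 2) ⊕ Fin (m + 2) → F) (Sum.inr i)
      rw [uinvM, Matrix.fromBlocks_apply₂₂, Matrix.transpose_apply,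
        Pi.sub_apply, Pi.add_apply, Pi.smul_apply, h10_bf_inr, h10_bf_inr, h10_be_inr, smul_zero,
        sub_zero]
      rcases h10_fin_cases i with h | h | h
      · subst h
        rw [hP, if_neg hAB.symm, if_pos rfl, zero_add]
      · subst h
        have hP2 : Pm m F jA jA = 1 := by
          rw [h10_Pm_apply, if_pos rfl, if_neg (by omega), add_zero]
        rw [hP2, if_pos rfl, if_neg hAB, add_zero]
      · have h1 : i ≠ jA := by
          intro h2
          have h3 := congrArg Fin.val h2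
          rw [h10_jA_val] at h3
          omega
        have h2 : i ≠ jB := by
          intro h2
          have h3 := congrArg Fin.val h2
          rw [h10_jB_val] at h3
          omega
        have hP3 : Pm m F jA i = 0 := by
          rw [h10_Pm_apply, if_neg (fun h3 => h1 h3.symm), if_neg (by rw [h10_jA_val]; omega),
            add_zero]
        rw [hP3, if_neg h1, if_neg h2, add_zero]

end C

end Cfsg.Agent.Helper10.SR
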