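import Mathlib
import Cfsg.Agent.Lib.Helper2.SR0

/-!
# SR server (helper2, S2281): pieces (C6a) `lvl_props`, (C6b) `uM_lower`, (C6c) `uM_subdiag`
-/

set_option autoImplicit false

namespace Cfsg.Agent.Helper10.SR

open Matrix Cfsg Cfsg.Agent.Helper13 Cfsg.Agent.Helper84.SpRoot Cfsg.Agent.Helper5.SpAut
open Cfsg.Agent.Helper2.SR

section C
variable {F : Type*} [Field F] {m : ℕ}

/-- (C6a) -/
theorem lvl_props :
    Function.Injective (lvl (m := m)) ∧ (∀ a, ∀ j < lvl (m := m) a, ∃ b, lvl (m := m) b = j) ∧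
    (∀ a, lvl (m := m) a < 2 * (m + 2)) := by
  have hlt : ∀ a, lvl (m := m) a < 2 * (m + 2) := by
    rintro (i | j)
    · show 2 * (m + 2) - 1 - i.val < 2 * (m + 2)
      omega
    · show j.val < 2 * (m + 2)
      have := j.2
      omega
  refine ⟨?_, ?_, hlt⟩
  · rintro (i | j) (i' | j') h
    · have h1 : 2 * (m + 2) - 1 - i.val = 2 * (m + 2) - 1 - i'.val := h
      have := i.2
      have := i'.2
      congr 1
      apply Fin.ext
      omega
    · have h1 : 2 * (m + 2) - 1 - i.val = j'.val := h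
      have := i.2
      have := j'.2
      omega
    · have h1 : j.val = 2 * (m + 2) - 1 - i'.val := h
      have := i'.2
      have := j.2
      omega
    · have h1 : j.val = j'.val := h
      congr 1
      exact Fin.ext h1
  · intro a j hj
    have ha := hlt a
    by_cases hjn : j < m + 2
    · exact ⟨Sum.inr ⟨j, hjn⟩, rfl⟩
    · refine ⟨Sum.inl ⟨2 * (m + 2) - 1 - j, by omega⟩, ?_⟩
      show 2 * (m + 2) - 1 - (2 * (m + 2) - 1 - j) = j
      omega

theorem h10_PY_apply (s : F) (i j : Fin (m + 2)) :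
    (Pm m F * (Ym (m := m) s : Matrix (Fin (m + 2)) (Fin (m + 2)) F)) i j =
      Pm m F i jB * (if j = jB then s else 0) := by
  rw [Matrix.mul_apply, Finset.sum_eq_single jB]
  · simp [Ym]
  · intro k _ hk
    simp [Ym, hk]
  · intro h
    exact absurd (Finset.mem_univ _) h

theorem h10_uM_sub_one (s : F) :
    uM (m := m) s - 1 =
      Matrix.fromBlocks (Nm m F) (Pm m F * (Ym (m := m) s : Matrix (Fin (m + 2)) (Fin (m + 2)) F)) 0
        ((Pinv m F)ᵀ - 1) := by
  rw [uM, ← Matrix.fromBlocks_one, sub_eq_add_neg, Matrix.fromBlocks_neg, Matrix.fromBlocks_add, Pm,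
    neg_zero, add_zero, add_zero, ← sub_eq_add_neg, ← sub_eq_add_neg, add_sub_cancel_left]

/-- (C6b) -/
theorem uM_lower (s : F) :
    ∀ a b, lvl (m := m) a ≤ lvl b → (uM (m := m) s - 1) a b = 0 := by
  rintro (i | i) (j | j) h
  · -- inl inl
    have h1 : 2 * (m + 2) - 1 - i.val ≤ 2 * (m + 2) - 1 - j.val := h
    have hi := i.2
    have hj := j.2
    have h2 : ¬ (i.val + 1 = j.val) := by omega
    rw [h10_uM_sub_one, Matrix.fromBlocks_apply₁₁, Nm, Matrix.of_apply, if_neg h2]
  · -- inl inr: impossible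
    have h1 : 2 * (m + 2) - 1 - i.val ≤ j.val := h
    have hi := i.2
    have hj := j.2
    omega
  · -- inr inl
    rw [h10_uM_sub_one, Matrix.fromBlocks_apply₂₁, Matrix.zero_apply]
  · -- inr inr
    have h1 : i.val ≤ j.val := h
    rw [h10_uM_sub_one, Matrix.fromBlocks_apply₂₂, Matrix.sub_apply, Matrix.transpose_apply, Pinv,
      Matrix.of_apply]
    by_cases hij : i = j
    · subst hij
      simp
    · have hlt : i.val < j.val := lt_of_le_of_ne h1 (fun h => hij (Fin.ext h))
      have h2 : ¬ (j.val ≤ i.val) := by omega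
      rw [if_neg h2, Matrix.one_apply_ne hij, sub_zero]

/-- (C6c) -/
theorem uM_subdiag {s : F} (hs : s ≠ 0) :
    ∀ a b, lvl (m := m) a = lvl b + 1 → (uM (m := m) s - 1) a b ≠ 0 := by
  rintro (i | i) (j | j) h
  · -- inl inl
    have h1 : 2 * (m + 2) - 1 - i.val = 2 * (m + 2) - 1 - j.val + 1 := h
    have hi := i.2
    have hj := j.2
    have hji : i.val + 1 = j.val := by omega
    rw [h10_uM_sub_one, Matrix.fromBlocks_apply₁₁, Nm, Matrix.of_apply, if_pos hji]
    exact one_ne_zero
  · -- inl inr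
    have h1 : 2 * (m + 2) - 1 - i.val = j.val + 1 := h
    have hi := i.2
    have hj := j.2
    have hi' : i = jB := Fin.ext (by show i.val = m + 1; omega)
    have hj' : j = jB := Fin.ext (by show j.val = m + 1; omega)
    rw [h10_uM_sub_one, Matrix.fromBlocks_apply₁₂, h10_PY_apply, if_pos hj', hi', Pm,
      Matrix.add_apply, Nm, Matrix.of_apply]
    have h2 : ¬ ((jB : Fin (m + 2)).val + 1 = (jB : Fin (m + 2)).val) := by omega
    rw [if_neg h2, Matrix.one_apply_eq, add_zero, one_mul]
    exact hs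
  · -- inr inl: impossible
    have h1 : i.val = 2 * (m + 2) - 1 - j.val + 1 := h
    have hi := i.2
    have hj := j.2
    omega
  · -- inr inr
    have h1 : i.val = j.val + 1 := h
    have h2 : j.val ≤ i.val := by omega
    have hne : i ≠ j := by
      intro h3
      rw [h3] at h1
      omega
    rw [h10_uM_sub_one, Matrix.fromBlocks_apply₂₂, Matrix.sub_apply, Matrix.transpose_apply, Pinv,
      Matrix.of_apply, if_pos h2, Matrix.one_apply_ne hne, sub_zero]
    have h4 : i.val - j.val = 1 := by omega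
    rw [h4, pow_one]
    exact neg_ne_zero.mpr one_ne_zero

end C

end Cfsg.Agent.Helper10.SR
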