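import Mathlib
import Cfsg.Agent.Lib.Helper2.SR0
import Cfsg.Agent.Lib.Helper2.SRC0
import Cfsg.Agent.Lib.Helper71.SRT3
import Cfsg.Agent.Lib.Helper71.SRT4
import Cfsg.Agent.Lib.Helper79.SRC2
import Cfsg.Agent.Lib.Helper10.SRC6

/-!
# SR server (helper2, S2281): pieces (C8) `cyclic` and (C7) `regular`
-/

set_option autoImplicit false

namespace Cfsg.Agent.Helper10.SR

open Matrix Cfsg Cfsg.Agent.Helper13 Cfsg.Agent.Helper84.SpRoot Cfsg.Agent.Helper5.SpAut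
open Cfsg.Agent.Helper2.SR

section C
variable {F : Type*} [Field F] {m : ℕ}

theorem h10_lvl_lt_one (b : Fin (m + 2) ⊕ Fin (m + 2)) (hb : lvl (m := m) b < 1) :
    b = Sum.inr 0 := by
  rcases b with i | j
  · have h1 : 2 * (m + 2) - 1 - i.val < 1 := hb
    have := i.2
    omega
  · have h1 : j.val < 1 := hb
    congr 1
    apply Fin.ext
    show j.val = 0
    omega

theorem h10_pV_inr (s : F) (j : Fin (m + 2)) :
    pV (m := m) s (Sum.inr j) = if j = 1 then -s else 0 := by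
  unfold pV be bf
  simp only [Pi.sub_apply, Pi.smul_apply, smul_eq_mul]
  rw [Pi.single_apply, Pi.single_apply, Pi.single_apply]
  have h1 : (Sum.inr j : Fin (m + 2) ⊕ Fin (m + 2)) ≠ Sum.inl 0 := by simp
  have h2 : (Sum.inr j : Fin (m + 2) ⊕ Fin (m + 2)) ≠ Sum.inl 1 := by simp
  rw [if_neg h1, if_neg h2]
  by_cases hj : j = 1
  · subst hj
    simp
  · have h3 : (Sum.inr j : Fin (m + 2) ⊕ Fin (m + 2)) ≠ Sum.inr 1 := by
      intro h
      exact hj (Sum.inr.inj h)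
    rw [if_neg h3, if_neg hj]
    ring

/-- (C8) uses T3 C2 C6 C0 -/
theorem cyclic {s : F} (hs : s ≠ 0) :
    ∀ S : Submodule F (Fin (m + 2) ⊕ Fin (m + 2) → F), pV s ∈ S →
      (∀ x ∈ S, (uEl (m := m) s).val *ᵥ x ∈ S) →
      ∀ x, Cfsg.sympForm (m + 2) F x (be 0) = 0 → x ∈ S := by
  intro S hp hS x hx
  obtain ⟨hinj, hsurj, _⟩ := lvl_props (m := m)
  have h01 : (0 : Fin (m + 2)) ≠ 1 := by
    intro h
    have := congrArg Fin.val h
    simp at this
  refine Cfsg.Agent.Helper71.SR.tri_cyclic (lvl (m := m)) hinj hsurj (uM (m := m) s - 1)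
    (uM_lower s) (uM_subdiag hs) S (pV s) hp ?_ ?_ ?_ x ?_
  · intro b hb
    rw [h10_lvl_lt_one b hb, h10_pV_inr, if_neg h01]
  · refine ⟨Sum.inr 1, ?_, ?_⟩
    · show ((1 : Fin (m + 2)) : ℕ) = 1
      simp
    · rw [h10_pV_inr, if_pos rfl]
      exact neg_ne_zero.mpr hs
  · intro y hy
    have h1 : (1 + (uM (m := m) s - 1)) = (uEl (m := m) s).val := by
      rw [Cfsg.Agent.Helper79.SR.uEl_val]
      abel
    rw [h1]
    exact hS y hy
  · intro b hb
    rw [h10_lvl_lt_one b hb]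
    have := (form_basis x (0 : Fin (m + 2))).1
    rw [← this]
    exact hx

/-- (C7) uses T4 C2 C6 -/
theorem regular {s : F} (hs : s ≠ 0) :
    IsNilpotent ((uEl (m := m) s).val - 1) ∧ ((uEl (m := m) s).val - 1) ^ (2 * (m + 2) - 1) ≠ 0 := by
  obtain ⟨hinj, hsurj, hlt⟩ := lvl_props (m := m)
  rw [Cfsg.Agent.Helper79.SR.uEl_val]
  refine Cfsg.Agent.Helper71.SR.tri_regular (2 * (m + 2)) (lvl (m := m)) hinj hsurj hlt ?_
    (uM (m := m) s - 1) (uM_lower s) (uM_subdiag hs)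
  refine ⟨Sum.inl 0, ?_⟩
  show 2 * (m + 2) - 1 - ((0 : Fin (m + 2)) : ℕ) + 1 = 2 * (m + 2)
  simp
  omega

end C

end Cfsg.Agent.Helper10.SR
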