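import Mathlib
import Cfsg.Agent.Lib.Helper12.SUOT0
import Cfsg.Agent.Lib.Helper12.SUOT_T14

/-!
# SUOT (S2282 concrete block), piece T8 `exists_p` in hypothesis form (helper10)

`p = z + al^q N z` from the vector `z` of T8z and the formula of T8a, both taken as hypotheses.
-/

set_option autoImplicit false
set_option linter.unusedSectionVars false
set_option linter.unusedVariables false

namespace Cfsg.Agent.Helper10.SUOT

open Matrix Cfsg Cfsg.Agent.Helper13 Cfsg.Agent.Helper87.PsuA Cfsg.Agent.Helper12.SUOT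

variable {F : Type*} [Field F] [Fintype F] {q n : ℕ}

/-- (T8) in hypothesis form: `hz` is the conclusion of (T8z) `exists_z`, `hup` is (T8a)
`hup_formula` at this `al`. -/
theorem h10_exists_p_core (hF : Fintype.card F = q ^ 2) {b : Fin n → Fin n → F} (hb : HB q b)
    (hn : 5 ≤ n) (al : F)
    (hz : ∃ z f : Fin n → F,
      Cfsg.hermForm n F q z (b ⟨0, by omega⟩) = 0 ∧
      Cfsg.hermForm n F q z (b ⟨1, by omega⟩) = 1 ∧
      Cfsg.hermForm n F q z (Nm q b *ᵥ z) = 0 ∧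
      Cfsg.hermForm n F q (Nm q b *ᵥ z) (Nm q b *ᵥ z) = 1 ∧
      Cfsg.hermForm n F q z z = -(al * al ^ q) ∧
      Cfsg.hermForm n F q f f = 1 ∧
      Cfsg.hermForm n F q f (b ⟨0, by omega⟩) = 0 ∧
      Cfsg.hermForm n F q f (b ⟨1, by omega⟩) = 0 ∧
      Cfsg.hermForm n F q f z + al * Cfsg.hermForm n F q f (Nm q b *ᵥ z) = 0)
    (hup : ∀ z : Fin n → F,
      Cfsg.hermForm n F q (actv (uEl q b al) (z + al ^ q • (Nm q b *ᵥ z)))
        (z + al ^ q • (Nm q b *ᵥ z)) =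
      Cfsg.hermForm n F q (z + al ^ q • (Nm q b *ᵥ z)) (z + al ^ q • (Nm q b *ᵥ z)) +
        (al - al ^ q) * (Cfsg.hermForm n F q z (Nm q b *ᵥ z) +
          al * Cfsg.hermForm n F q (Nm q b *ᵥ z) (Nm q b *ᵥ z))) :
    ∃ p f : Fin n → F,
      Cfsg.hermForm n F q p p = 0 ∧
      Cfsg.hermForm n F q p (b ⟨0, by omega⟩) = 0 ∧
      Cfsg.hermForm n F q p (b ⟨1, by omega⟩) = 1 ∧
      Cfsg.hermForm n F q (actv (uEl q b al) p) p = al * (al - al ^ q) ∧
      Cfsg.hermForm n F q f f = 1 ∧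
      Cfsg.hermForm n F q f p = 0 ∧
      Cfsg.hermForm n F q f (b ⟨0, by omega⟩) = 0 ∧
      Cfsg.hermForm n F q f (b ⟨1, by omega⟩) = 0 := by
  obtain ⟨z, f, hz0, hz1, hzN, hNN, hzz, hff, hf0, hf1, hfz⟩ := hz
  have hNz : Cfsg.hermForm n F q (Nm q b *ᵥ z) z = 0 := H_symm_zero hF hzN
  have hqq : (al ^ q) ^ q = al := frob_frob hF al
  have hpp : Cfsg.hermForm n F q (z + al ^ q • (Nm q b *ᵥ z)) (z + al ^ q • (Nm q b *ᵥ z)) = 0 := by
    rw [hermForm_add_left, hermForm_add_right hF, hermForm_add_right hF, hermForm_smul_left,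
      hermForm_smul_left, hermForm_smul_right, hermForm_smul_right, hzz, hzN, hNz, hNN, hqq]
    ring
  have hN0 : Nm q b *ᵥ b (⟨0, by omega⟩ : Fin n) = 0 := Nm_b_zero hF hb _ rfl
  have hN1 : Nm q b *ᵥ b (⟨1, by omega⟩ : Fin n) = b (⟨0, by omega⟩ : Fin n) :=
    Nm_b_succ hF hb _ _ rfl
  refine ⟨z + al ^ q • (Nm q b *ᵥ z), f, hpp, ?_, ?_, ?_, hff, ?_, hf0, hf1⟩
  · rw [hermForm_add_left, hermForm_smul_left, Nm_adj hF hb, hN0, H_zero_right hF, hz0]
    ring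
  · rw [hermForm_add_left, hermForm_smul_left, Nm_adj hF hb, hN1, hz0, hz1]
    ring
  · rw [hup z, hpp, hzN, hNN]
    ring
  · rw [hermForm_add_right hF, hermForm_smul_right, hqq]
    exact hfz

/-- (T8a) `hup_formula`, own copy (from the key relation `uEl_key` and `Nm_adj`). -/
theorem h10_hup_formula (hF : Fintype.card F = q ^ 2) {b : Fin n → Fin n → F} (hb : HB q b) (al : F)
    (z : Fin n → F) :
    Cfsg.hermForm n F q (actv (uEl q b al) (z + al ^ q • (Nm q b *ᵥ z)))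
        (z + al ^ q • (Nm q b *ᵥ z)) =
      Cfsg.hermForm n F q (z + al ^ q • (Nm q b *ᵥ z)) (z + al ^ q • (Nm q b *ᵥ z)) +
        (al - al ^ q) * (Cfsg.hermForm n F q z (Nm q b *ᵥ z) +
          al * Cfsg.hermForm n F q (Nm q b *ᵥ z) (Nm q b *ᵥ z)) := by
  have hqq : (al ^ q) ^ q = al := frob_frob hF al
  rw [uEl_key hF hb al z]
  have hNz : Cfsg.hermForm n F q (Nm q b *ᵥ z) z = Cfsg.hermForm n F q z (Nm q b *ᵥ z) :=
    Nm_adj hF hb z z
  rw [hermForm_add_left, hermForm_add_left, hermForm_smul_left, hermForm_smul_left,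
    hermForm_add_right hF, hermForm_add_right hF, hermForm_smul_right, hermForm_smul_right,
    hqq, hNz]
  ring

/-- (T8) from (T8z) alone. -/
theorem h10_exists_p_of_z (hF : Fintype.card F = q ^ 2) {b : Fin n → Fin n → F} (hb : HB q b)
    (hn : 5 ≤ n) (al : F)
    (hz : ∃ z f : Fin n → F,
      Cfsg.hermForm n F q z (b ⟨0, by omega⟩) = 0 ∧
      Cfsg.hermForm n F q z (b ⟨1, by omega⟩) = 1 ∧
      Cfsg.hermForm n F q z (Nm q b *ᵥ z) = 0 ∧
      Cfsg.hermForm n F q (Nm q b *ᵥ z) (Nm q b *ᵥ z) = 1 ∧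
      Cfsg.hermForm n F q z z = -(al * al ^ q) ∧
      Cfsg.hermForm n F q f f = 1 ∧
      Cfsg.hermForm n F q f (b ⟨0, by omega⟩) = 0 ∧
      Cfsg.hermForm n F q f (b ⟨1, by omega⟩) = 0 ∧
      Cfsg.hermForm n F q f z + al * Cfsg.hermForm n F q f (Nm q b *ᵥ z) = 0) :
    ∃ p f : Fin n → F,
      Cfsg.hermForm n F q p p = 0 ∧
      Cfsg.hermForm n F q p (b ⟨0, by omega⟩) = 0 ∧
      Cfsg.hermForm n F q p (b ⟨1, by omega⟩) = 1 ∧
      Cfsg.hermForm n F q (actv (uEl q b al) p) p = al * (al - al ^ q) ∧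
      Cfsg.hermForm n F q f f = 1 ∧
      Cfsg.hermForm n F q f p = 0 ∧
      Cfsg.hermForm n F q f (b ⟨0, by omega⟩) = 0 ∧
      Cfsg.hermForm n F q f (b ⟨1, by omega⟩) = 0 :=
  h10_exists_p_core hF hb hn al hz (h10_hup_formula hF hb al)

end Cfsg.Agent.Helper10.SUOT
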