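import Mathlib
import Cfsg.Agent.Lib.Helper12.SUOT0
import Cfsg.Agent.Lib.Helper12.SUOT_T14
import Cfsg.Agent.Lib.Helper26.SUOT_T8z
import Cfsg.Agent.Lib.Helper10.SUOT_T8Core

/-!
# SUOT (S2282 concrete block), piece T8 `exists_p`, verbatim (helper10)

From helper26's (T8z) `exists_z` and the core `h10_exists_p_of_z` (which carries its own T8a).
-/

set_option autoImplicit false

namespace Cfsg.Agent.Helper10.SUOT

open Matrix Cfsg Cfsg.Agent.Helper13 Cfsg.Agent.Helper87.PsuA Cfsg.Agent.Helper12.SUOT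

variable {F : Type*} [Field F] [Fintype F] {q n : ℕ}

/-- (T8) assembled from T8a + T8z + T1/T2 -/
theorem exists_p (hF : Fintype.card F = q ^ 2) {b : Fin n → Fin n → F} (hb : HB q b)
    (hn : 5 ≤ n) (hodd : Odd n) (al : F) :
    ∃ p f : Fin n → F,
      Cfsg.hermForm n F q p p = 0 ∧
      Cfsg.hermForm n F q p (b ⟨0, by omega⟩) = 0 ∧
      Cfsg.hermForm n F q p (b ⟨1, by omega⟩) = 1 ∧
      Cfsg.hermForm n F q (actv (uEl q b al) p) p = al * (al - al ^ q) ∧
      Cfsg.hermForm n F q f f = 1 ∧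
      Cfsg.hermForm n F q f p = 0 ∧
      Cfsg.hermForm n F q f (b ⟨0, by omega⟩) = 0 ∧
      Cfsg.hermForm n F q f (b ⟨1, by omega⟩) = 0 :=
  h10_exists_p_of_z hF hb hn al (Cfsg.Agent.Helper26.SUOT.exists_z hF hb hn hodd al)

end Cfsg.Agent.Helper10.SUOT
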