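import Mathlib

/-!
# Sections from homomorphisms

A subgroup of the image of a homomorphism defined on a subgroup `H₀ ≤ G` is a section `K / L`
of `G` with `K ≤ H₀`.
-/

set_option autoImplicit false

namespace Cfsg.Agent.Helper10

universe u v w

theorem exists_section_of_hom {G : Type u} [Group G] (H₀ : Subgroup G) {X : Type v} [Group X]
    (φ : H₀ →* X) (S : Subgroup X) (hS : S ≤ φ.range) {T : Type w} [Group T] (e : S ≃* T) :
    ∃ (K L : Subgroup G) (_ : (L.subgroupOf K).Normal), K ≤ H₀ ∧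
      Nonempty ((K ⧸ L.subgroupOf K) ≃* T) := by
  set K : Subgroup G := (S.comap φ).map H₀.subtype with hKdef
  have hK : K ≤ H₀ := Subgroup.map_subtype_le _
  set L : Subgroup G := φ.ker.map H₀.subtype with hLdef
  set ψ : K →* X := φ.comp (Subgroup.inclusion hK) with hψ
  have hker : ψ.ker = L.subgroupOf K := by
    ext ⟨k, hk⟩
    rw [MonoidHom.mem_ker, Subgroup.mem_subgroupOf]
    simp only [hψ, MonoidHom.comp_apply, hLdef, Subgroup.mem_map, MonoidHom.mem_ker,
      Subgroup.coe_subtype]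
    constructor
    · intro h1
      exact ⟨Subgroup.inclusion hK ⟨k, hk⟩, h1, rfl⟩
    · rintro ⟨x, hx, hxk⟩
      have : Subgroup.inclusion hK ⟨k, hk⟩ = x := Subtype.ext hxk.symm
      rw [this]; exact hx
  have hrange : ψ.range = S := by
    ext s
    constructor
    · rintro ⟨⟨k, hk⟩, rfl⟩
      obtain ⟨x, hx, hxk⟩ := hk
      have : Subgroup.inclusion hK ⟨k, ⟨x, hx, hxk⟩⟩ = x := Subtype.ext hxk.symm
      simp only [hψ, MonoidHom.comp_apply]
      rw [this]; exact hx
    · intro hs
      obtain ⟨x, rfl⟩ := hS hs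
      have hxK : (x : G) ∈ K := ⟨x, hs, rfl⟩
      refine ⟨⟨x, hxK⟩, ?_⟩
      simp only [hψ, MonoidHom.comp_apply]
      congr 1
  have hL : (L.subgroupOf K).Normal := hker ▸ ψ.normal_ker
  refine ⟨K, L, hL, hK, ⟨?_⟩⟩
  exact (QuotientGroup.quotientMulEquivOfEq hker.symm).trans
    ((QuotientGroup.quotientKerEquivRange ψ).trans ((MulEquiv.subgroupCongr hrange).trans e))

end Cfsg.Agent.Helper10
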