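import Mathlib
import Cfsg.Prelude.Def_PLocal
import Cfsg.Agent.Lib.Helper10.ThompsonMap
import Cfsg.Agent.Lib.Helper10.Thompson
import Cfsg.Agent.Lib.Helper10.MinNormal2

set_option autoImplicit false

namespace Cfsg.Agent.Helper10

open Cfsg
open scoped commutatorElement

universe u v

section general

variable {H : Type v} [Group H]

/-- `Ω₁` of a normal subgroup is normal. -/
lemma omegaOne_normal (p : ℕ) (K : Subgroup H) [hK : K.Normal] : (omegaOne p K).Normal := by
  constructor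
  intro n hn g
  unfold omegaOne at hn ⊢
  induction hn using Subgroup.closure_induction with
  | mem x hx =>
    apply Subgroup.subset_closure
    refine ⟨hK.conj_mem x hx.1 g, ?_⟩
    rw [conj_pow, hx.2, mul_one, mul_inv_cancel]
  | one => simp
  | mul x y _ _ hx hy =>
    have : g * (x * y) * g⁻¹ = (g * x * g⁻¹) * (g * y * g⁻¹) := by group
    rw [this]
    exact Subgroup.mul_mem _ hx hy
  | inv x _ hx =>
    have : g * x⁻¹ * g⁻¹ = (g * x * g⁻¹)⁻¹ := by group
    rw [this]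
    exact Subgroup.inv_mem _ hx

/-- Elementwise form of quadratic action of a cyclic group. -/
lemma quad_iff {V : Subgroup H} {a : H} :
    ⁅⁅V, Subgroup.zpowers a⁆, Subgroup.zpowers a⁆ = ⊥ ↔
      ∀ v ∈ V, ∀ i : ℤ, Commute a ⁅v, a ^ i⁆ := by
  rw [Subgroup.commutator_eq_bot_iff_le_centralizer, Subgroup.commutator_le]
  constructor
  · intro h v hv i
    have h1 := h v hv (a ^ i) (Subgroup.zpow_mem_zpowers a i)
    exact (Subgroup.mem_centralizer_iff.mp h1) a (Subgroup.mem_zpowers a)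
  · intro h v hv g hg
    obtain ⟨i, rfl⟩ := Subgroup.mem_zpowers_iff.mp hg
    rw [Subgroup.mem_centralizer_iff]
    intro g' hg'
    obtain ⟨j, rfl⟩ := Subgroup.mem_zpowers_iff.mp hg'
    exact ((h v hv i).zpow_left j).eq

/-- Quadratic action on a normal subgroup `V` only depends on the coset modulo `C(V)`. -/
lemma quad_of_quotient_eq {V : Subgroup H} [hV : V.Normal] {a b : H}
    (hab : (QuotientGroup.mk a : H ⧸ Subgroup.centralizer (V : Set H)) = QuotientGroup.mk b)
    (ha : ⁅⁅V, Subgroup.zpowers a⁆, Subgroup.zpowers a⁆ = ⊥) :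
    ⁅⁅V, Subgroup.zpowers b⁆, Subgroup.zpowers b⁆ = ⊥ := by
  rw [quad_iff] at ha ⊢
  intro v hv i
  -- `a ^ i = b ^ i * c` with `c` centralizing `V`
  have hi : (b ^ i)⁻¹ * a ^ i ∈ Subgroup.centralizer (V : Set H) := by
    rw [← QuotientGroup.eq, QuotientGroup.mk_zpow, QuotientGroup.mk_zpow, hab]
  have h1 : (b)⁻¹ * a ∈ Subgroup.centralizer (V : Set H) := by
    rw [← QuotientGroup.eq, hab]
  have hvinv : v⁻¹ ∈ V := V.inv_mem hv
  have hcomm : ⁅v, a ^ i⁆ = ⁅v, b ^ i⁆ := by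
    have hc := (Subgroup.mem_centralizer_iff.mp hi) v⁻¹ hvinv
    -- v⁻¹ * c = c * v⁻¹
    rw [commutatorElement_def, commutatorElement_def]
    have h2 : a ^ i = b ^ i * ((b ^ i)⁻¹ * a ^ i) := by group
    rw [h2]
    calc v * (b ^ i * ((b ^ i)⁻¹ * a ^ i)) * v⁻¹ * (b ^ i * ((b ^ i)⁻¹ * a ^ i))⁻¹
        = v * b ^ i * (((b ^ i)⁻¹ * a ^ i) * v⁻¹) * ((b ^ i)⁻¹ * a ^ i)⁻¹ * (b ^ i)⁻¹ := by group
      _ = v * b ^ i * (v⁻¹ * ((b ^ i)⁻¹ * a ^ i)) * ((b ^ i)⁻¹ * a ^ i)⁻¹ * (b ^ i)⁻¹ := by rw [hc]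
      _ = v * b ^ i * v⁻¹ * (b ^ i)⁻¹ := by group
  have hw : ⁅v, b ^ i⁆ ∈ V := by
    rw [commutatorElement_def]
    have : v * b ^ i * v⁻¹ * (b ^ i)⁻¹ = v * (b ^ i * v⁻¹ * (b ^ i)⁻¹) := by group
    rw [this]
    exact V.mul_mem hv (hV.conj_mem _ hvinv _)
  have h3 := ha v hv i
  rw [hcomm] at h3
  -- a commutes with w ∈ V, and a = b * c
  have hc := (Subgroup.mem_centralizer_iff.mp h1) _ hw
  have h4 : a = b * (b⁻¹ * a) := by group
  have h5 : a * ⁅v, b ^ i⁆ = ⁅v, b ^ i⁆ * a := h3.eq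
  have : b * ⁅v, b ^ i⁆ = ⁅v, b ^ i⁆ * b := by
    calc b * ⁅v, b ^ i⁆ = b * (⁅v, b ^ i⁆ * (b⁻¹ * a)) * (b⁻¹ * a)⁻¹ := by group
      _ = b * ((b⁻¹ * a) * ⁅v, b ^ i⁆) * (b⁻¹ * a)⁻¹ := by rw [hc]
      _ = (a * ⁅v, b ^ i⁆) * (b⁻¹ * a)⁻¹ := by group
      _ = (⁅v, b ^ i⁆ * a) * (b⁻¹ * a)⁻¹ := by rw [h5]
      _ = ⁅v, b ^ i⁆ * b := by group
  exact this

lemma map_conj_eq_of_normal (V : Subgroup H) [hV : V.Normal] (g : H) :
    V.map (MulAut.conj g).toMonoidHom = V := by
  apply le_antisymm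
  · rintro _ ⟨v, hv, rfl⟩
    exact hV.conj_mem v hv g
  · intro v hv
    refine ⟨g⁻¹ * v * g, ?_, ?_⟩
    · have := hV.conj_mem v hv g⁻¹
      rwa [inv_inv] at this
    · simp only [MulEquiv.coe_toMonoidHom, MulAut.conj_apply]
      group

/-- Conjugates of elements acting quadratically on a normal subgroup act quadratically. -/
lemma quad_conj {V : Subgroup H} [hV : V.Normal] {b : H} (g : H)
    (hb : ⁅⁅V, Subgroup.zpowers b⁆, Subgroup.zpowers b⁆ = ⊥) :
    ⁅⁅V, Subgroup.zpowers (g * b * g⁻¹)⁆, Subgroup.zpowers (g * b * g⁻¹)⁆ = ⊥ := by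
  have h1 := congrArg (Subgroup.map (MulAut.conj g).toMonoidHom) hb
  rw [Subgroup.map_commutator, Subgroup.map_commutator, map_conj_eq_of_normal,
    MonoidHom.map_zpowers, Subgroup.map_bot] at h1
  exact h1

/-- Quadratic action pulls back along injective homomorphisms. -/
lemma quad_of_map {K : Type u} [Group K] (τ : K →* H) (hτ : Function.Injective τ)
    {W : Subgroup K} {y : K}
    (h : ⁅⁅W.map τ, Subgroup.zpowers (τ y)⁆, Subgroup.zpowers (τ y)⁆ = ⊥) :
    ⁅⁅W, Subgroup.zpowers y⁆, Subgroup.zpowers y⁆ = ⊥ := by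
  rw [← MonoidHom.map_zpowers, ← Subgroup.map_commutator, ← Subgroup.map_commutator] at h
  exact (Subgroup.map_eq_bot_iff_of_injective _ hτ).mp h

lemma quad_map {K : Type u} [Group K] (τ : K →* H) {W : Subgroup K} {y : K}
    (h : ⁅⁅W, Subgroup.zpowers y⁆, Subgroup.zpowers y⁆ = ⊥) :
    ⁅⁅W.map τ, Subgroup.zpowers (τ y)⁆, Subgroup.zpowers (τ y)⁆ = ⊥ := by
  rw [← MonoidHom.map_zpowers, ← Subgroup.map_commutator, ← Subgroup.map_commutator, h,
    Subgroup.map_bot]

/-- An element whose image lies in `O_p(H / N)` is congruent mod `N` to an element of any Sylow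
`p`-subgroup. -/
lemma exists_mem_sylow_of_mk_mem_pCore [Finite H] {p : ℕ} [Fact p.Prime] (N : Subgroup H)
    [N.Normal] (P : Sylow p H) {a : H}
    (ha : (QuotientGroup.mk a : H ⧸ N) ∈ Cfsg.pCore p (H ⧸ N)) :
    ∃ s ∈ P, (QuotientGroup.mk s : H ⧸ N) = QuotientGroup.mk a := by
  have h1 : (QuotientGroup.mk a : H ⧸ N) ∈
      ((P.mapSurjective (QuotientGroup.mk'_surjective N) : Sylow p (H ⧸ N)) : Subgroup (H ⧸ N)) :=
    pCore_le_sylow (P.mapSurjective (QuotientGroup.mk'_surjective N)) ha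
  rw [Sylow.coe_mapSurjective] at h1
  obtain ⟨s, hs, hsa⟩ := h1
  exact ⟨s, hs, hsa⟩

end general

section stable

variable {S : Type u} [Group S]

/-- The defining family of `stableNormalClosure`. -/
def stableFamily (p : ℕ) (S : Type u) [Group S] : Set (Subgroup S) :=
  {W | omegaOne p (Subgroup.center S) ≤ W ∧
    ∀ (H : Type u) [Group H] (τ : S →* H), IsStableEmbedding p τ → (W.map τ).Normal}

lemma stableNormalClosure_eq_sInf (p : ℕ) (S : Type u) [Group S] :
    stableNormalClosure p S = sInf (stableFamily p S) := rfl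

/-- Central elements of order dividing `p` lie in the Thompson subgroup. -/
lemma mem_thompsonSubgroup_of_mem_center [Finite S] {p : ℕ} {x : S}
    (hx : x ∈ Subgroup.center S) (hxp : x ^ p = 1) : x ∈ thompsonSubgroup p S := by
  obtain ⟨A, hA⟩ := maxElementaryAbelianSubgroups_nonempty p S
  have hB : IsElementaryAbelian p (A ⊔ Subgroup.zpowers x) := by
    apply elemAb_sup_of_commute hA.1 (isElementaryAbelian_zpowers hxp)
    intro a _ b hb
    obtain ⟨k, rfl⟩ := Subgroup.mem_zpowers_iff.mp hb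
    have : x ^ k ∈ Subgroup.center S := Subgroup.zpow_mem _ hx k
    exact Subgroup.mem_center_iff.mp this a
  have hle : A ≤ A ⊔ Subgroup.zpowers x := le_sup_left
  have := Subgroup.eq_of_le_of_card_ge hle (hA.2 _ hB)
  apply le_thompsonSubgroup hA
  rw [this]
  exact (le_sup_right : Subgroup.zpowers x ≤ A ⊔ Subgroup.zpowers x) (Subgroup.mem_zpowers x)

lemma omegaOne_center_le_omegaCenterThompson [Finite S] (p : ℕ) :
    omegaOne p (Subgroup.center S) ≤ omegaCenterThompson p S := by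
  unfold omegaCenterThompson omegaOne
  apply Subgroup.closure_mono
  rintro x ⟨hx, hxp⟩
  exact ⟨Subgroup.mem_inf.mpr ⟨mem_thompsonSubgroup_of_mem_center hx hxp,
    Subgroup.center_le_centralizer _ hx⟩, hxp⟩

lemma omegaCenterThompson_map_normal {H : Type v} [Group H] {p : ℕ} (τ : S →* H)
    (hτ : Function.Injective τ) (hJ : ((thompsonSubgroup p S).map τ).Normal) :
    ((omegaCenterThompson p S).map τ).Normal := by
  unfold omegaCenterThompson
  have hinj : ∀ (K : Subgroup S), ∀ x ∈ K, τ x = 1 → x = 1 := fun K x _ hx =>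
    hτ (hx.trans (map_one τ).symm)
  rw [← omegaOne_map p τ _ (hinj _), ← inf_centralizer_map τ _ (hinj _)]
  exact omegaOne_normal p _

lemma omegaCenterThompson_mem_stableFamily [Finite S] (p : ℕ) :
    omegaCenterThompson p S ∈ stableFamily p S :=
  ⟨omegaOne_center_le_omegaCenterThompson p, fun _ _ τ hτ =>
    omegaCenterThompson_map_normal τ hτ.1 hτ.2.2.2.2.1⟩

lemma stableNormalClosure_le_omegaCenterThompson [Finite S] (p : ℕ) :
    stableNormalClosure p S ≤ omegaCenterThompson p S :=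
  sInf_le (omegaCenterThompson_mem_stableFamily p)

lemma omegaOne_center_le_stableNormalClosure (p : ℕ) (S : Type u) [Group S] :
    omegaOne p (Subgroup.center S) ≤ stableNormalClosure p S :=
  le_sInf fun _ hW => hW.1

lemma stableNormalClosure_le_of_mem {p : ℕ} {W : Subgroup S} (hW : W ∈ stableFamily p S) :
    stableNormalClosure p S ≤ W := sInf_le hW

/-- The image of `W(S)` under a stable embedding is normal. -/
lemma stableNormalClosure_map_normal [Finite S] {p : ℕ} {H : Type u} [Group H] (τ : S →* H)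
    (hτ : IsStableEmbedding p τ) : ((stableNormalClosure p S).map τ).Normal := by
  have hΩ : ((omegaCenterThompson p S).map τ).Normal :=
    (omegaCenterThompson_mem_stableFamily p).2 H τ hτ
  constructor
  rintro _ ⟨w, hw, rfl⟩ h
  have h1 : h * τ w * h⁻¹ ∈ (omegaCenterThompson p S).map τ :=
    hΩ.conj_mem _ ⟨w, stableNormalClosure_le_omegaCenterThompson p hw, rfl⟩ h
  obtain ⟨w', _, hw'⟩ := h1
  refine ⟨w', ?_, hw'⟩
  rw [SetLike.mem_coe, stableNormalClosure_eq_sInf, Subgroup.mem_sInf]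
  intro W hW
  have hWn : (W.map τ).Normal := hW.2 H τ hτ
  have h2 : h * τ w * h⁻¹ ∈ W.map τ :=
    hWn.conj_mem _ ⟨w, stableNormalClosure_le_of_mem hW hw, rfl⟩ h
  obtain ⟨w'', hw''W, hw''⟩ := h2
  have : w'' = w' := hτ.1 (hw''.trans hw'.symm)
  rwa [← this]

lemma stableNormalClosure_mem_stableFamily [Finite S] (p : ℕ) :
    stableNormalClosure p S ∈ stableFamily p S :=
  ⟨omegaOne_center_le_stableNormalClosure p S, fun _ _ τ hτ =>
    stableNormalClosure_map_normal τ hτ⟩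

end stable

end Cfsg.Agent.Helper10
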