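import Mathlib
import Cfsg.Prelude.Def_PLocal
import Cfsg.Agent.Lib.Helper10.StableClosure

set_option autoImplicit false

namespace Cfsg.Agent.Helper10

open Cfsg
open scoped commutatorElement

universe u

variable {G : Type u} [Group G]

/-- In an action-`p`-stable group `G` with `C_G(O_p(G)) ≤ O_p(G)`, the inclusion of a Sylow `p`-subgroup
`S` into `N_G(J(S))` is a stable embedding. -/
lemma isStableEmbedding_inclusion [Finite G] {p : ℕ} [Fact p.Prime]
    (hst : Cfsg.IsActionPStable p G)
    (hc : Subgroup.centralizer (Cfsg.pCore p G : Set G) ≤ Cfsg.pCore p G) (S : Sylow p G)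
    (hSL : (S : Subgroup G) ≤
      Subgroup.normalizer (thompsonSubgroupOf p (S : Subgroup G) : Set G)) :
    IsStableEmbedding p (Subgroup.inclusion hSL) := by
  set L := Subgroup.normalizer (thompsonSubgroupOf p (S : Subgroup G) : Set G) with hL
  have hcomp : L.subtype.comp (Subgroup.inclusion hSL) = (S : Subgroup G).subtype :=
    Subgroup.subtype_comp_inclusion hSL
  refine ⟨Subgroup.inclusion_injective hSL, inferInstance, ?_, ?_, ?_, ?_⟩
  · refine ⟨S.subtype hSL, ?_⟩
    rw [Sylow.coe_subtype, Subgroup.inclusion_range]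
  · -- `C_L(O_p(L)) ≤ O_p(L)`
    have hQS : Cfsg.pCore p G ≤ (S : Subgroup G) := pCore_le_sylow S
    have hQL : (Cfsg.pCore p G).subgroupOf L ≤ Cfsg.pCore p ↥L := by
      apply le_pCore
      · infer_instance
      · exact (pCore_isPGroup p G).comap_of_injective L.subtype L.subtype_injective
    intro x hx
    apply hQL
    rw [Subgroup.mem_subgroupOf]
    apply hc
    rw [Subgroup.mem_centralizer_iff]
    intro q hq
    have hqL : q ∈ L := hSL (hQS hq)
    have h1 : (⟨q, hqL⟩ : L) ∈ Cfsg.pCore p ↥L := hQL (Subgroup.mem_subgroupOf.mpr hq)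
    have h2 := (Subgroup.mem_centralizer_iff.mp hx) _ h1
    exact congrArg Subtype.val h2
  · -- `J(S)` is normal in `L`
    have h1 : (thompsonSubgroup p ↥(S : Subgroup G)).map (Subgroup.inclusion hSL) =
        (thompsonSubgroupOf p (S : Subgroup G)).subgroupOf L := by
      apply Subgroup.map_injective L.subtype_injective
      rw [Subgroup.map_map, hcomp, Subgroup.map_subgroupOf_eq_of_le Subgroup.le_normalizer]
      rfl
    rw [h1]
    exact Subgroup.normal_in_normalizer
  · intro V _ hV
    apply hst.2.2 S V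
    have h1 := Subgroup.map_mono (f := L.subtype) hV
    rwa [Subgroup.map_map, hcomp] at h1

/-- Hence `W(S)` is normalized by `N_G(J(S))`. -/
lemma normalizer_thompson_le_normalizer_stableNormalClosure [Finite G] {p : ℕ} [Fact p.Prime]
    (hst : Cfsg.IsActionPStable p G)
    (hc : Subgroup.centralizer (Cfsg.pCore p G : Set G) ≤ Cfsg.pCore p G) (S : Sylow p G)
    (hSL : (S : Subgroup G) ≤
      Subgroup.normalizer (thompsonSubgroupOf p (S : Subgroup G) : Set G)) :
    Subgroup.normalizer (thompsonSubgroupOf p (S : Subgroup G) : Set G) ≤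
      Subgroup.normalizer (((stableNormalClosure p ↥(S : Subgroup G)).map
        (S : Subgroup G).subtype : Subgroup G) : Set G) := by
  set L := Subgroup.normalizer (thompsonSubgroupOf p (S : Subgroup G) : Set G) with hL
  have hτ := isStableEmbedding_inclusion hst hc S hSL
  have hn := stableNormalClosure_map_normal (Subgroup.inclusion hSL) hτ
  have hcomp : L.subtype.comp (Subgroup.inclusion hSL) = (S : Subgroup G).subtype :=
    Subgroup.subtype_comp_inclusion hSL
  rw [Subgroup.le_normalizer_iff]
  rintro n hn' _ ⟨w, hw, rfl⟩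
  have h1 := hn.conj_mem _ (Subgroup.mem_map_of_mem (Subgroup.inclusion hSL) hw) ⟨n, hn'⟩
  obtain ⟨w', hw', hw'eq⟩ := h1
  refine ⟨w', hw', ?_⟩
  have := congrArg Subtype.val hw'eq
  simpa using this

end Cfsg.Agent.Helper10
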