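import Mathlib
import Cfsg.Prelude.Def_PLocal
import Cfsg.Agent.Lib.Helper10.StableNormalizer
import Cfsg.Agent.Lib.Helper10.Card
import Cfsg.Agent.Lib.Helper24.HH125

set_option autoImplicit false

namespace Cfsg.Agent.Helper10

open Cfsg
open scoped commutatorElement

universe u

variable {G : Type u} [Group G]

lemma mem_sectionKernel_iff (K N : Subgroup G) [hN : N.Normal] {g : G} :
    g ∈ sectionKernel K N ↔ ∀ k ∈ K, ⁅k, g⁆ ∈ N := by
  unfold sectionKernel
  rw [Subgroup.mem_comap, Subgroup.mem_centralizer_iff]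
  constructor
  · intro h k hk
    have h1 := h (QuotientGroup.mk' N k) ⟨k, hk, rfl⟩
    rw [QuotientGroup.mk'_apply, QuotientGroup.mk'_apply, ← QuotientGroup.mk_mul,
      ← QuotientGroup.mk_mul, QuotientGroup.eq] at h1
    -- h1 : (k * g)⁻¹ * (g * k) ∈ N
    have h2 := hN.conj_mem _ h1 (k * g)
    have h3 : (k * g) * ((k * g)⁻¹ * (g * k)) * (k * g)⁻¹ = (⁅k, g⁆)⁻¹ := by
      rw [commutatorElement_def]; group
    rw [h3] at h2
    simpa using N.inv_mem h2
  · rintro h _ ⟨k, hk, rfl⟩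
    rw [QuotientGroup.mk'_apply, QuotientGroup.mk'_apply, ← QuotientGroup.mk_mul,
      ← QuotientGroup.mk_mul, QuotientGroup.eq]
    have h1 := N.inv_mem (h k hk)
    have h2 := hN.conj_mem _ h1 (k * g)⁻¹
    have h3 : (k * g)⁻¹ * (⁅k, g⁆)⁻¹ * (k * g)⁻¹⁻¹ = (k * g)⁻¹ * (g * k) := by
      rw [commutatorElement_def]; group
    rwa [h3] at h2

/-- The kernel of the action on `O_p(G)/Φ(O_p(G))` is a `p`-group when `C_G(O_p(G)) ≤ O_p(G)`. -/
lemma isPGroup_sectionKernel [Finite G] {p : ℕ} [Fact p.Prime]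
    (hc : Subgroup.centralizer (Cfsg.pCore p G : Set G) ≤ Cfsg.pCore p G) :
    IsPGroup p (sectionKernel (Cfsg.pCore p G)
      ((frattini ↥(Cfsg.pCore p G)).map (Cfsg.pCore p G).subtype)) := by
  set Q := Cfsg.pCore p G with hQ
  set K := sectionKernel Q ((frattini ↥Q).map Q.subtype) with hK
  have hp := (Fact.out : p.Prime)
  rintro ⟨g, hg⟩
  have hn : orderOf g ≠ 0 := (orderOf_pos g).ne'
  obtain ⟨e, m, hm, hem⟩ := Nat.exists_eq_pow_mul_and_not_dvd hn p hp.ne_one
  refine ⟨e, ?_⟩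
  apply Subtype.ext
  rw [Subgroup.coe_pow, Subgroup.coe_one]
  -- `g' := g ^ (p ^ e)` has order `m` coprime to `p`
  have hg' : g ^ p ^ e ∈ K := K.pow_mem hg _
  have hord : orderOf (g ^ p ^ e) = m := by
    rw [orderOf_pow_of_dvd (pow_pos hp.pos e).ne' (hem ▸ dvd_mul_right _ _), hem,
      Nat.mul_div_cancel_left _ (pow_pos hp.pos e)]
  have hcop : (Nat.card (Subgroup.zpowers (g ^ p ^ e))).Coprime p := by
    rw [Nat.card_zpowers, hord]
    exact ((Nat.Prime.coprime_iff_not_dvd hp).mpr hm).symm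
  have hcomm : ⁅Q, Subgroup.zpowers (g ^ p ^ e)⁆ ≤ (frattini ↥Q).map Q.subtype := by
    rw [Subgroup.commutator_le]
    intro q hq b hb
    have hbK : b ∈ K := by
      obtain ⟨i, rfl⟩ := Subgroup.mem_zpowers_iff.mp hb
      exact K.zpow_mem hg' i
    exact (mem_sectionKernel_iff Q _).mp hbK q hq
  have hnorm : Subgroup.zpowers (g ^ p ^ e) ≤ Subgroup.normalizer (Q : Set G) := by
    rw [Subgroup.normalizer_eq_top_iff.mpr (inferInstance : Q.Normal)]
    exact le_top
  have h1 := Cfsg.Agent.Helper24.le_centralizer_of_commutator_le_frattini Q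
    (Subgroup.zpowers (g ^ p ^ e)) (pCore_isPGroup p G) hcop hnorm hcomm
  have h2 : g ^ p ^ e ∈ Subgroup.centralizer (Q : Set G) := by
    rw [Subgroup.mem_centralizer_iff]
    intro q hq
    exact ((Subgroup.mem_centralizer_iff.mp (h1 hq)) _ (Subgroup.mem_zpowers _)).symm
  have h3 : g ^ p ^ e ∈ Q := hc h2
  obtain ⟨k, hk⟩ := (pCore_isPGroup p G) ⟨_, h3⟩
  have hk' : (g ^ p ^ e) ^ p ^ k = 1 := by
    have := congrArg Subtype.val hk
    simpa using this
  have h4 : m ∣ p ^ k := by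
    rw [← hord]; exact orderOf_dvd_of_pow_eq_one hk'
  have h5 : m = 1 := by
    have hc' : Nat.Coprime m (p ^ k) :=
      Nat.Coprime.pow_right k (((Nat.Prime.coprime_iff_not_dvd hp).mpr hm).symm)
    exact Nat.Coprime.eq_one_of_dvd hc' h4
  rw [h5] at hord
  exact orderOf_eq_one_iff.mp hord

/-- `W(S) ≤ O_p(G)` in an action-`p`-stable group with `C_G(O_p(G)) ≤ O_p(G)`. -/
lemma stableNormalClosure_le_pCore [Finite G] {p : ℕ} [Fact p.Prime]
    (hst : Cfsg.IsActionPStable p G)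
    (hc : Subgroup.centralizer (Cfsg.pCore p G : Set G) ≤ Cfsg.pCore p G) (S : Sylow p G)
    (hSW : (S : Subgroup G) ≤ Subgroup.normalizer (((stableNormalClosure p ↥(S : Subgroup G)).map
        (S : Subgroup G).subtype : Subgroup G) : Set G))
    (hWab : ∀ x ∈ (stableNormalClosure p ↥(S : Subgroup G)).map (S : Subgroup G).subtype,
      ∀ y ∈ (stableNormalClosure p ↥(S : Subgroup G)).map (S : Subgroup G).subtype,
      x * y = y * x) :
    (stableNormalClosure p ↥(S : Subgroup G)).map (S : Subgroup G).subtype ≤ Cfsg.pCore p G := by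
  set W' := (stableNormalClosure p ↥(S : Subgroup G)).map (S : Subgroup G).subtype with hW'
  set Q := Cfsg.pCore p G with hQ
  have hQS : Q ≤ (S : Subgroup G) := pCore_le_sylow S
  intro a ha
  have hquad : ⁅⁅Q, Subgroup.zpowers a⁆, Subgroup.zpowers a⁆ ≤
      (frattini ↥Q).map Q.subtype := by
    have h1 : ⁅Q, Subgroup.zpowers a⁆ ≤ W' := by
      rw [Subgroup.commutator_le]
      intro q hq b hb
      have hbW : b ∈ W' := by
        obtain ⟨i, rfl⟩ := Subgroup.mem_zpowers_iff.mp hb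
        exact W'.zpow_mem ha i
      rw [commutatorElement_def]
      have h2 : q * b * q⁻¹ ∈ W' := ((hSW (hQS hq)) b).mp hbW
      exact W'.mul_mem h2 (W'.inv_mem hbW)
    have h2 : ⁅W', Subgroup.zpowers a⁆ = ⊥ := by
      rw [Subgroup.commutator_eq_bot_iff_le_centralizer]
      intro w hw
      rw [Subgroup.mem_centralizer_iff]
      intro b hb
      obtain ⟨i, rfl⟩ := Subgroup.mem_zpowers_iff.mp hb
      exact hWab _ (W'.zpow_mem ha i) _ hw
    have h3 : ⁅⁅Q, Subgroup.zpowers a⁆, Subgroup.zpowers a⁆ = ⊥ := by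
      rw [eq_bot_iff, ← h2]
      exact Subgroup.commutator_mono h1 le_rfl
    rw [h3]
    exact bot_le
  obtain ⟨D, hDn, hKD, ⟨k, hk⟩, haD⟩ := hst.2.1 a hquad
  have hDp : IsPGroup p D := by
    obtain ⟨j, hj⟩ := IsPGroup.iff_card.mp (isPGroup_sectionKernel hc)
    apply IsPGroup.of_card (n := j + k)
    rw [← card_mul_relIndex_of_le hKD, hj, hk, pow_add]
  exact le_pCore hDn hDp haD

end Cfsg.Agent.Helper10
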