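import Mathlib
import Cfsg.Prelude.Def_PLocal
import Cfsg.Agent.Lib.Helper10.ThompsonMap
import Cfsg.Agent.Lib.Helper10.StableClosure

/-!
# Isomorphism invariance of the stable normal closure `W(S)`
-/

set_option autoImplicit false

namespace Cfsg.Agent.Helper10

open Cfsg

universe u

section

variable {S T : Type u} [Group S] [Group T]

lemma omegaCenterThompson_map_mulEquiv (p : ℕ) (e : S ≃* T) :
    (omegaCenterThompson p S).map e.toMonoidHom = omegaCenterThompson p T := by
  have hinj : ∀ (K : Subgroup S), ∀ x ∈ K, e.toMonoidHom x = 1 → x = 1 := by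
    intro K x _ hx
    exact e.injective (by rw [map_one]; exact hx)
  unfold omegaCenterThompson
  rw [← thompsonSubgroup_map_mulEquiv p e, inf_centralizer_map e.toMonoidHom _ (hinj _),
    omegaOne_map p e.toMonoidHom _ (hinj _)]

lemma isStableEmbedding_comp_mulEquiv {p : ℕ} {H : Type u} [Group H] (e : S ≃* T) (τ : T →* H)
    (hτ : IsStableEmbedding p τ) : IsStableEmbedding p (τ.comp e.toMonoidHom) := by
  obtain ⟨h1, h2, h3, h4, h5, h6⟩ := hτ
  refine ⟨h1.comp e.injective, h2, ?_, h4, ?_, ?_⟩
  · obtain ⟨P, hP⟩ := h3
    refine ⟨P, ?_⟩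
    rw [hP, MonoidHom.range_comp]
    have : e.toMonoidHom.range = ⊤ := MonoidHom.range_eq_top.mpr e.surjective
    rw [this, ← MonoidHom.range_eq_map]
  · rw [← Subgroup.map_map, thompsonSubgroup_map_mulEquiv]
    exact h5
  · intro V hV hle
    rw [← Subgroup.map_map, omegaCenterThompson_map_mulEquiv] at hle
    exact h6 V hle

lemma map_mem_stableFamily {p : ℕ} (e : S ≃* T) {W : Subgroup S} (hW : W ∈ stableFamily p S) :
    W.map e.toMonoidHom ∈ stableFamily p T := by
  refine ⟨?_, ?_⟩
  · unfold omegaOne
    rw [Subgroup.closure_le]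
    rintro x ⟨hxc, hxp⟩
    refine ⟨e.symm x, hW.1 ?_, by simp⟩
    apply Subgroup.subset_closure
    refine ⟨?_, ?_⟩
    · rw [Subgroup.mem_center_iff] at hxc ⊢
      intro g
      apply e.injective
      rw [map_mul, map_mul, MulEquiv.apply_symm_apply]
      exact hxc (e g)
    · rw [← map_pow, hxp, map_one]
  · intro H _ τ hτ
    have := hW.2 H (τ.comp e.toMonoidHom) (isStableEmbedding_comp_mulEquiv e τ hτ)
    rwa [← Subgroup.map_map] at this

/-- `W(S)` is invariant under isomorphisms. -/
lemma stableNormalClosure_map_mulEquiv (p : ℕ) (e : S ≃* T) :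
    (stableNormalClosure p S).map e.toMonoidHom = stableNormalClosure p T := by
  apply le_antisymm
  · rw [stableNormalClosure_eq_sInf p T]
    apply le_sInf
    intro W' hW'
    rw [Subgroup.map_le_iff_le_comap]
    have h1 := map_mem_stableFamily e.symm hW'
    have h2 : W'.map e.symm.toMonoidHom = W'.comap e.toMonoidHom := by
      ext x
      rw [Subgroup.mem_map, Subgroup.mem_comap]
      constructor
      · rintro ⟨y, hy, rfl⟩
        simpa using hy
      · intro hx
        exact ⟨e x, hx, by simp⟩
    rw [h2] at h1
    exact stableNormalClosure_le_of_mem h1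
  · intro x hx
    refine ⟨e.symm x, ?_, by simp⟩
    rw [stableNormalClosure_eq_sInf p S, SetLike.mem_coe, Subgroup.mem_sInf]
    intro W hW
    have h1 := stableNormalClosure_le_of_mem (map_mem_stableFamily e hW) hx
    obtain ⟨w, hw, hwx⟩ := h1
    have : e.symm x = w := by rw [← hwx]; simp
    rw [this]; exact hw

end

section maps

variable {G H : Type u} [Group G] [Group H]

/-- `W` of the range of an injective homomorphism. -/
lemma stableNormalClosure_range {P : Type u} [Group P] (p : ℕ) (φ : P →* H)
    (hφ : Function.Injective φ) :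
    (stableNormalClosure p ↥φ.range).map φ.range.subtype = (stableNormalClosure p P).map φ := by
  rw [← stableNormalClosure_map_mulEquiv p (MonoidHom.ofInjective hφ), Subgroup.map_map]
  congr 1

/-- If `f` is injective on `U`, then `W(f(U)) = f(W(U))` (as subgroups of the ambient groups). -/
lemma stableNormalClosure_map_of_injOn (p : ℕ) (f : G →* H) (U : Subgroup G)
    (hinj : ∀ x ∈ U, f x = 1 → x = 1) :
    (stableNormalClosure p ↥(U.map f)).map (U.map f).subtype =
      ((stableNormalClosure p ↥U).map U.subtype).map f := by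
  have hφ : Function.Injective (f.comp U.subtype) := by
    rw [injective_iff_map_eq_one]
    intro x hx
    exact Subtype.ext (hinj x x.2 hx)
  have hr : (f.comp U.subtype).range = U.map f := by
    rw [MonoidHom.range_comp, Subgroup.range_subtype]
  have key : ∀ R : Subgroup H, R = (f.comp U.subtype).range →
      (stableNormalClosure p ↥R).map R.subtype =
        (stableNormalClosure p ↥U).map (f.comp U.subtype) := by
    rintro R rfl
    exact stableNormalClosure_range p _ hφ
  rw [Subgroup.map_map]
  exact key _ hr.symm

end maps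

end Cfsg.Agent.Helper10
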