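import Mathlib
import Cfsg.Prelude.Def_Solvable
import Cfsg.Agent.S0538
import Cfsg.Agent.Lib.Helper22.Radical
import Cfsg.Agent.Lib.Helper10.MinNormal2

set_option autoImplicit false

namespace Cfsg.Agent.Helper10

open Cfsg
open scoped Pointwise

variable {G : Type*} [Group G]

/-! ### Conjugation of subgroups by `MulAut.conj g • H` -/

lemma mem_conj_smul_iff {g x : G} {H : Subgroup G} :
    x ∈ MulAut.conj g • H ↔ g⁻¹ * x * g ∈ H := by
  rw [Subgroup.mem_pointwise_smul_iff_inv_smul_mem, MulAut.smul_def, ← map_inv,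
    MulAut.conj_apply, inv_inv]

lemma conj_mem_conj_smul {g x : G} {H : Subgroup G} (hx : x ∈ H) :
    g * x * g⁻¹ ∈ MulAut.conj g • H := by
  rw [mem_conj_smul_iff]
  have : g⁻¹ * (g * x * g⁻¹) * g = x := by group
  rwa [this]

lemma conj_smul_eq_iff_mem_normalizer {g : G} {H : Subgroup G} :
    MulAut.conj g • H = H ↔ g ∈ Subgroup.normalizer (H : Set G) := by
  rw [Subgroup.mem_normalizer_iff_map_conj_eq]
  rfl

lemma card_conj_smul (g : G) (H : Subgroup G) :
    Nat.card (MulAut.conj g • H : Subgroup G) = Nat.card H := by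
  rw [Subgroup.pointwise_smul_def]
  exact Subgroup.card_map_of_injective (MulAut.conj g).injective

lemma conj_smul_commutator (g : G) (A B : Subgroup G) :
    MulAut.conj g • ⁅A, B⁆ = ⁅MulAut.conj g • A, MulAut.conj g • B⁆ := by
  simp only [Subgroup.pointwise_smul_def]
  exact Subgroup.map_commutator A B _

lemma conj_smul_le_of_mem {g : G} {H E : Subgroup G} (hg : g ∈ E) (hH : H ≤ E) :
    MulAut.conj g • H ≤ E := by
  intro x hx
  rw [mem_conj_smul_iff] at hx
  have h1 := hH hx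
  have : x = g * (g⁻¹ * x * g) * g⁻¹ := by group
  rw [this]
  exact E.mul_mem (E.mul_mem hg h1) (E.inv_mem hg)

/-- If `g` normalizes `V`, then `g • ⁅V, A⁆ = ⁅V, g • A⁆`. -/
lemma conj_smul_commutator_of_mem_normalizer {g : G} {V : Subgroup G}
    (hg : g ∈ Subgroup.normalizer (V : Set G)) (A : Subgroup G) :
    MulAut.conj g • ⁅V, A⁆ = ⁅V, MulAut.conj g • A⁆ := by
  rw [conj_smul_commutator, conj_smul_eq_iff_mem_normalizer.mpr hg]

/-! ### Subnormality relative to a subgroup -/

lemma subnormal_subgroupOf_of_le {H K E : Subgroup G} (hKE : K ≤ E)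
    (hs : (H.subgroupOf E).IsSubnormal) : (H.subgroupOf K).IsSubnormal := by
  have h := hs.comap (Subgroup.inclusion hKE)
  have : (H.subgroupOf E).comap (Subgroup.inclusion hKE) = H.subgroupOf K := by
    ext x
    simp [Subgroup.mem_subgroupOf]
  rwa [this] at h

lemma subnormal_subgroupOf_conj {H E : Subgroup G} {e : G} (hHE : H ≤ E) (he : e ∈ E)
    (hs : (H.subgroupOf E).IsSubnormal) : ((MulAut.conj e • H).subgroupOf E).IsSubnormal := by
  have h := hs.smul (MulAut.conj (⟨e, he⟩ : E))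
  rwa [Subgroup.conj_smul_subgroupOf hHE] at h

lemma subnormal_subgroupOf_sup [Finite G] {H₁ H₂ E : Subgroup G} (h₁ : H₁ ≤ E) (h₂ : H₂ ≤ E)
    (hs₁ : (H₁.subgroupOf E).IsSubnormal) (hs₂ : (H₂.subgroupOf E).IsSubnormal) :
    ((H₁ ⊔ H₂).subgroupOf E).IsSubnormal := by
  rw [Subgroup.subgroupOf_sup h₁ h₂]
  exact Cfsg.Agent.S0538.result _ _ hs₁ hs₂

/-- A subgroup normal in a subnormal subgroup is subnormal (relative version). -/
lemma subnormal_subgroupOf_of_normal {X Y E : Subgroup G} (hXY : X ≤ Y) (hYE : Y ≤ E)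
    (hn : Y ≤ Subgroup.normalizer (X : Set G)) (hs : (Y.subgroupOf E).IsSubnormal) :
    (X.subgroupOf E).IsSubnormal := by
  have hle : X.subgroupOf E ≤ Y.subgroupOf E := Subgroup.subgroupOf_mono E hXY
  refine Subgroup.IsSubnormal.step _ _ hle hs ?_
  rw [Subgroup.normal_subgroupOf_iff_le_normalizer hle,
    ← Subgroup.subgroupOf_normalizer_eq (hXY.trans hYE)]
  intro x hx
  rw [Subgroup.mem_subgroupOf] at hx ⊢
  exact hn hx

/-- A subnormal subgroup of exponent `p` of a group with trivial `O_p` is trivial. -/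
lemma eq_bot_of_subnormal_of_pow_eq_one [Finite G] {p : ℕ} [Fact p.Prime] {K E : Subgroup G}
    (hOp : Cfsg.pCore p ↥E = ⊥) (hKE : K ≤ E) (hs : (K.subgroupOf E).IsSubnormal)
    (hpow : ∀ k ∈ K, k ^ p = 1) : K = ⊥ := by
  have hp : IsPGroup p (K.subgroupOf E) := by
    intro x
    refine ⟨1, ?_⟩
    rw [pow_one]
    have := hpow _ (Subgroup.mem_subgroupOf.mp x.2)
    apply Subtype.ext
    apply Subtype.ext
    simpa using this
  have hle := Cfsg.Agent.Helper22.subnormal_isPGroup_le_pCore hs hp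
  rw [hOp, le_bot_iff, Subgroup.subgroupOf_eq_bot] at hle
  exact le_bot_iff.mp (hle le_rfl hKE)

/-- `O_p` of a subnormal subgroup of a group with trivial `O_p` is trivial. -/
lemma pCore_eq_bot_of_subnormal [Finite G] {p : ℕ} [Fact p.Prime] {E' E : Subgroup G}
    (hOp : Cfsg.pCore p ↥E = ⊥) (hE'E : E' ≤ E) (hs : (E'.subgroupOf E).IsSubnormal) :
    Cfsg.pCore p ↥E' = ⊥ := by
  set P : Subgroup G := (Cfsg.pCore p ↥E').map E'.subtype with hP
  have hPE' : P ≤ E' := by
    rintro _ ⟨x, _, rfl⟩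
    exact x.2
  have hnorm : E' ≤ Subgroup.normalizer (P : Set G) := by
    have hN : (Cfsg.pCore p ↥E').Normal := pCore_normal p ↥E'
    rw [Subgroup.le_normalizer_iff]
    rintro h hh _ ⟨x, hx, rfl⟩
    refine ⟨⟨h, hh⟩ * x * ⟨h, hh⟩⁻¹, hN.conj_mem x hx _, ?_⟩
    simp
  have hPsn : (P.subgroupOf E).IsSubnormal := subnormal_subgroupOf_of_normal hPE' hE'E hnorm hs
  have hPp : IsPGroup p P := (pCore_isPGroup p ↥E').map E'.subtype
  have hbot : P = ⊥ := by
    have hp : IsPGroup p (P.subgroupOf E) :=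
      hPp.comap_of_injective E.subtype E.subtype_injective
    have hle := Cfsg.Agent.Helper22.subnormal_isPGroup_le_pCore hPsn hp
    rw [hOp, le_bot_iff, Subgroup.subgroupOf_eq_bot] at hle
    exact le_bot_iff.mp (hle le_rfl (hPE'.trans hE'E))
  rw [hP] at hbot
  exact (Subgroup.map_eq_bot_iff_of_injective _ E'.subtype_injective).mp hbot

end Cfsg.Agent.Helper10
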