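import Mathlib
import Cfsg.Agent.Lib.Helper10.SylowExtra

set_option autoImplicit false

namespace Cfsg.Agent.Helper10

variable {G : Type*} [Group G]

/-- For `N` normal and `S` Sylow, `|N : S ∩ N|` is prime to `p`. -/
lemma not_dvd_relIndex_sylow_normal [Finite G] {p : ℕ} [Fact p.Prime] (S : Sylow p G)
    (N : Subgroup G) [N.Normal] : ¬ p ∣ (S : Subgroup G).relIndex N := by
  have h1 := card_sup_mul_card_inf_of_normal N (S : Subgroup G)
  have h2 : Nat.card (N ⊓ (S : Subgroup G) : Subgroup G) * (N ⊓ (S : Subgroup G)).relIndex N =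
      Nat.card N := card_mul_relIndex_of_le inf_le_left
  rw [Subgroup.inf_relIndex_left] at h2
  have h3 : Nat.card (S : Subgroup G) * (S : Subgroup G).relIndex (N ⊔ S) =
      Nat.card (N ⊔ (S : Subgroup G) : Subgroup G) := card_mul_relIndex_of_le le_sup_right
  have hpos : 0 < Nat.card (N ⊓ (S : Subgroup G) : Subgroup G) := Nat.card_pos
  have hposS : 0 < Nat.card (S : Subgroup G) := Nat.card_pos
  have h4 : (S : Subgroup G).relIndex N = (S : Subgroup G).relIndex (N ⊔ S) := by
    have : Nat.card (N ⊓ (S : Subgroup G) : Subgroup G) * Nat.card (S : Subgroup G) *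
        (S : Subgroup G).relIndex N =
        Nat.card (N ⊓ (S : Subgroup G) : Subgroup G) * Nat.card (S : Subgroup G) *
        (S : Subgroup G).relIndex (N ⊔ S) := by
      calc Nat.card (N ⊓ (S : Subgroup G) : Subgroup G) * Nat.card (S : Subgroup G) *
          (S : Subgroup G).relIndex N
          = (Nat.card (N ⊓ (S : Subgroup G) : Subgroup G) * (S : Subgroup G).relIndex N) *
            Nat.card (S : Subgroup G) := by ring
        _ = Nat.card N * Nat.card (S : Subgroup G) := by rw [h2]
        _ = Nat.card (N ⊔ (S : Subgroup G) : Subgroup G) *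
            Nat.card (N ⊓ (S : Subgroup G) : Subgroup G) := h1.symm
        _ = (Nat.card (S : Subgroup G) * (S : Subgroup G).relIndex (N ⊔ S)) *
            Nat.card (N ⊓ (S : Subgroup G) : Subgroup G) := by rw [h3]
        _ = _ := by ring
    exact Nat.eq_of_mul_eq_mul_left (Nat.mul_pos hpos hposS) this
  rw [h4]
  intro hdvd
  exact S.not_dvd_index (hdvd.trans (Subgroup.relIndex_dvd_index_of_le le_sup_right))

/-- `S ⊓ N` is a Sylow subgroup of the normal subgroup `N`. -/
lemma exists_sylow_eq_subgroupOf_normal [Finite G] {p : ℕ} [Fact p.Prime] (S : Sylow p G)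
    (N : Subgroup G) [N.Normal] :
    ∃ P : Sylow p N, (P : Subgroup N) = (S : Subgroup G).subgroupOf N := by
  have hp : IsPGroup p ((S : Subgroup G).subgroupOf N) := S.2.comap_subtype
  exact ⟨hp.toSylow (not_dvd_relIndex_sylow_normal S N), rfl⟩

/-- Frattini argument in the form `G = N_G(S ∩ N) N`. -/
lemma normalizer_sylow_inf_sup_eq_top [Finite G] {p : ℕ} [Fact p.Prime] (S : Sylow p G)
    (N : Subgroup G) [N.Normal] :
    Subgroup.normalizer (((S : Subgroup G) ⊓ N : Subgroup G) : Set G) ⊔ N = ⊤ := by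
  obtain ⟨P, hP⟩ := exists_sylow_eq_subgroupOf_normal S N
  have := Sylow.normalizer_sup_eq_top P
  rwa [hP, Subgroup.subgroupOf_map_subtype] at this

end Cfsg.Agent.Helper10
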