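import Mathlib

/-!
# The trace map and direct factors of fixed points

For a finite group `N` acting on a finite abelian `p`-group `A` and a subgroup `S ≤ N` of index prime
to `p`, the fixed points of `N` are a direct factor of the fixed points of `S`.
-/

namespace Cfsg.Agent.Helper10.TraceFactor

open scoped BigOperators

variable {N A : Type*} [Group N] [Finite N] [CommGroup A]

/-- A `Fintype` structure on the coset space, used only in this file. -/
noncomputable local instance instFintypeQuot (S : Subgroup N) : Fintype (N ⧸ S) := Fintype.ofFinite _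

/-- The trace map `y ↦ ∏_{q ∈ N/S} q y`. -/
noncomputable def tr (φ : N →* MulAut A) (S : Subgroup N) : A →* A :=
  ∏ q : N ⧸ S, (φ (Quotient.out q)).toMonoidHom

theorem tr_apply (φ : N →* MulAut A) (S : Subgroup N) (y : A) :
    tr φ S y = ∏ q : N ⧸ S, φ (Quotient.out q) y := by
  unfold tr
  rw [MonoidHom.finsetProd_apply]
  rfl

theorem tr_fixed (φ : N →* MulAut A) (S : Subgroup N) (y : A) (hy : ∀ s ∈ S, φ s y = y) (n : N) :
    φ n (tr φ S y) = tr φ S y := by
  rw [tr_apply, map_prod]
  have h1 : ∀ q : N ⧸ S, φ n (φ (Quotient.out q) y) = φ (Quotient.out (n • q)) y := by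
    intro q
    obtain ⟨h, hh⟩ := QuotientGroup.mk_out_eq_mul S (n * Quotient.out q)
    have hq : ((n * Quotient.out q : N) : N ⧸ S) = n • q := by
      conv_rhs => rw [← QuotientGroup.out_eq' q]
      rfl
    rw [hq] at hh
    rw [hh, map_mul, map_mul, MulAut.mul_apply, MulAut.mul_apply, hy h h.2]
  rw [Finset.prod_congr rfl (fun q _ => h1 q)]
  exact Fintype.prod_equiv (MulAction.toPerm n) _ _ (fun q => rfl)

theorem tr_of_fixed (φ : N →* MulAut A) (S : Subgroup N) (w : A) (hw : ∀ n : N, φ n w = w) :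
    tr φ S w = w ^ S.index := by
  rw [tr_apply, Finset.prod_congr rfl (fun q _ => hw _), Finset.prod_const, Finset.card_univ,
    Subgroup.index_eq_card, Nat.card_eq_fintype_card]

/-- The fixed points of `N` on the finite abelian `p`-group `A` form a direct factor of the fixed
points of a subgroup `S` of index prime to `p`. -/
theorem exists_compl_fixed [Finite A] {p : ℕ} [Fact p.Prime] (hA : IsPGroup p A)
    (φ : N →* MulAut A) (S : Subgroup N) (hS : ¬ p ∣ S.index) :
    ∃ K : Subgroup A, (∀ k ∈ K, ∀ s ∈ S, φ s k = k) ∧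
      (∀ k ∈ K, (∀ n : N, φ n k = k) → k = 1) ∧
      ∀ y : A, (∀ s ∈ S, φ s y = y) →
        ∃ w k : A, (∀ n : N, φ n w = w) ∧ k ∈ K ∧ y = w * k := by
  classical
  obtain ⟨e, he⟩ := IsPGroup.iff_card.mp hA
  have hcop : (S.index).Coprime (p ^ e) :=
    Nat.Coprime.pow_right _ ((Nat.Prime.coprime_iff_not_dvd Fact.out).mpr hS).symm
  have hpow : ∀ a : A, a ^ (p ^ e) = 1 := fun a => by rw [← he]; exact pow_card_eq_one'
  have hcop' : ∀ a : A, (S.index).Coprime (orderOf a) := fun a =>
    Nat.Coprime.coprime_dvd_right (orderOf_dvd_of_pow_eq_one (hpow a)) hcop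
  let K : Subgroup A :=
    { carrier := {y | (∀ s ∈ S, φ s y = y) ∧ tr φ S y = 1}
      one_mem' := ⟨fun s _ => map_one _, map_one _⟩
      mul_mem' := fun {a b} ha hb => ⟨fun s hs => by rw [map_mul, ha.1 s hs, hb.1 s hs],
        by rw [map_mul, ha.2, hb.2, one_mul]⟩
      inv_mem' := fun {a} ha => ⟨fun s hs => by rw [map_inv, ha.1 s hs],
        by rw [map_inv, ha.2, inv_one]⟩ }
  refine ⟨K, fun k hk => hk.1, ?_, ?_⟩
  · intro k hk hfix
    have h1 : k ^ S.index = 1 := by rw [← tr_of_fixed φ S k hfix]; exact hk.2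
    have h3 := orderOf_dvd_of_pow_eq_one h1
    have h4 : orderOf k ∣ 1 := by
      have := Nat.dvd_gcd h3 (dvd_refl (orderOf k))
      rwa [hcop' k] at this
    exact orderOf_eq_one_iff.mp (Nat.dvd_one.mp h4)
  · intro y hy
    set t := tr φ S y with ht
    obtain ⟨m', hm'⟩ := exists_pow_eq_self_of_coprime (hcop' t)
    have htfix : ∀ n : N, φ n t = t := tr_fixed φ S y hy
    refine ⟨t ^ m', y * (t ^ m')⁻¹, fun n => by rw [map_pow, htfix], ⟨?_, ?_⟩, by
      rw [mul_comm y, mul_inv_cancel_left]⟩
    · intro s hs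
      rw [map_mul, map_inv, map_pow, hy s hs, htfix]
    · have h5 : tr φ S (t ^ m') = t := by
        rw [tr_of_fixed φ S _ (fun n => by rw [map_pow, htfix]), ← pow_mul, mul_comm, pow_mul, hm']
      rw [map_mul, map_inv, h5, ← ht, mul_inv_cancel]

end Cfsg.Agent.Helper10.TraceFactor
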