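import Mathlib
import Cfsg.Prelude.Def_OddOrderLocal
import Cfsg.Agent.Lib.Helper23.FittingHall
import Cfsg.Agent.Lib.Helper52.CoprimeHall

/-!
# Type II maximal subgroups: elementary consequences of the definitions (for S1538)

Nothing here depends on the B-G chain rows.
-/

set_option autoImplicit false

namespace Cfsg.Agent.Helper10.TypeII

open Subgroup Cfsg

variable {G : Type*} [Group G]

/-- In a simple group, a maximal subgroup `M` is the full normalizer of every nontrivial subgroup
of `M` that it normalizes. -/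
theorem normalizer_eq_of_coatom [IsSimpleGroup G] {M X : Subgroup G} (hM : IsCoatom M)
    (hXM : X ≤ M) (hX : X ≠ ⊥) (hMN : M ≤ normalizer (X : Set G)) :
    normalizer (X : Set G) = M := by
  rcases hM.le_iff.mp hMN with h | h
  · exfalso
    have hn : X.Normal := normalizer_eq_top_iff.mp h
    rcases hn.eq_bot_or_eq_top with h1 | h1
    · exact hX h1
    · apply hM.1
      rw [eq_top_iff, ← h1]
      exact hXM
  · exact h

/-- Set version: a set of elements of `M`, invariant under `M`, containing a non-identity element,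
has set-normalizer `M`. -/
theorem normalizer_set_eq [IsSimpleGroup G] {M : Subgroup G} (hM : IsCoatom M) {S : Set G}
    (hSM : S ⊆ (M : Set G)) (hne : ∃ s ∈ S, s ≠ 1)
    (hinv : ∀ m ∈ M, ∀ s ∈ S, m * s * m⁻¹ ∈ S) : normalizer S = M := by
  have hMS : M ≤ normalizer S := by
    intro m hm
    rw [mem_set_normalizer_iff]
    intro h
    constructor
    · exact hinv m hm h
    · intro hh
      have := hinv m⁻¹ (M.inv_mem hm) _ hh
      have e : m⁻¹ * (m * h * m⁻¹) * m⁻¹⁻¹ = h := by group
      rwa [e] at this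
  apply le_antisymm _ hMS
  have hcl : closure S ≤ M := (closure_le M).mpr hSM
  have hne' : closure S ≠ ⊥ := by
    obtain ⟨s, hs, hs1⟩ := hne
    intro hbot
    have : s ∈ (⊥ : Subgroup G) := hbot ▸ subset_closure hs
    exact hs1 (mem_bot.mp this)
  have h1 : normalizer ((closure S : Subgroup G) : Set G) = M :=
    normalizer_eq_of_coatom hM hcl hne' (hMS.trans (normalizer_le_normalizer_closure S))
  calc normalizer S ≤ normalizer ((closure S : Subgroup G) : Set G) :=
        normalizer_le_normalizer_closure S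
    _ = M := h1

theorem mem_map_conj {U : Subgroup G} {k x : G} :
    x ∈ U.map (MulAut.conj k).toMonoidHom ↔ k⁻¹ * x * k ∈ U := by
  constructor
  · rintro ⟨y, hy, rfl⟩
    have e : k⁻¹ * ((MulAut.conj k).toMonoidHom y) * k = y := by
      simp [MulAut.conj_apply]; group
    rw [e]; exact hy
  · intro h
    refine ⟨k⁻¹ * x * k, h, ?_⟩
    simp [MulAut.conj_apply]; group

/-- `M` normalizes `M_F`. -/
theorem conj_mem_fittingHallOf (M : Subgroup G) {m x : G} (hm : m ∈ M)
    (hx : x ∈ fittingHallOf M) : m * x * m⁻¹ ∈ fittingHallOf M := by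
  unfold fittingHallOf at hx ⊢
  obtain ⟨y, hy, rfl⟩ := hx
  refine ⟨(⟨m, hm⟩ : M) * y * (⟨m, hm⟩ : M)⁻¹, ?_, ?_⟩
  · exact (fittingHall_normal M).conj_mem y hy ⟨m, hm⟩
  · simp

/-- `M` normalizes `[M, M]`. -/
theorem conj_mem_commutator (M : Subgroup G) {m x : G} (hm : m ∈ M)
    (hx : x ∈ ⁅M, M⁆) : m * x * m⁻¹ ∈ ⁅M, M⁆ := by
  have h1 : (⁅M, M⁆).map (MulAut.conj m).toMonoidHom = ⁅M, M⁆ := by
    rw [map_commutator]
    have h2 : M.map (MulAut.conj m).toMonoidHom = M := by
      ext y
      rw [mem_map_conj]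
      constructor
      · intro h
        have := M.mul_mem (M.mul_mem hm h) (M.inv_mem hm)
        have e : m * (m⁻¹ * y * m) * m⁻¹ = y := by group
        rwa [e] at this
      · intro h
        exact M.mul_mem (M.mul_mem (M.inv_mem hm) h) hm
    rw [h2]
  rw [← h1]
  exact ⟨x, hx, by simp [MulAut.conj_apply]⟩

/-- Elements of `M` whose order divides `|M_F|` lie in `M_F`. -/
theorem mem_fittingHallOf_of_orderOf_dvd [Finite G] (M : Subgroup G) {x : G} (hx : x ∈ M)
    (hord : orderOf x ∣ Nat.card (fittingHallOf M)) : x ∈ fittingHallOf M := by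
  have h1 := Cfsg.Agent.Helper23.pow_index_mem_fittingHallOf M hx
  have h2 : x ^ Nat.card (fittingHallOf M) ∈ fittingHallOf M := by
    rw [orderOf_dvd_iff_pow_eq_one.mp hord]; exact one_mem _
  have hcop := Cfsg.Agent.Helper23.fittingHall_coprime ↥M
  rw [← Cfsg.Agent.Helper23.card_fittingHallOf M] at hcop
  have := Cfsg.Agent.Helper23.mem_sup_of_pow_mem_of_coprime (fittingHallOf M) (fittingHallOf M)
    hcop h2 h1
  rwa [sup_idem] at this

end Cfsg.Agent.Helper10.TypeII
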