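import Cfsg.Agent.Lib.Helper10.TypeIIa
import Cfsg.Agent.Lib.Helper67.BGTypeII

/-!
# Type II maximal subgroups: data lemmas, `Type II → ¬ Type I, III, IV`
-/

set_option autoImplicit false

namespace Cfsg.Agent.Helper10.TypeII

open Subgroup Cfsg

variable {G : Type*} [Group G] {M W₁ U W₂ : Subgroup G}

theorem card_eq [Finite G] (h : IsTypePWith M W₁ U W₂) :
    Nat.card M = Nat.card ↥(⁅M, M⁆ : Subgroup G) * Nat.card W₁ :=
  Cfsg.Agent.Helper23.card_of_isComplIn h.W₁_compl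

theorem coprime_W₁ [Finite G] (h : IsTypePWith M W₁ U W₂) :
    (Nat.card W₁).Coprime (Nat.card ↥(⁅M, M⁆ : Subgroup G)) := by
  have h1 := h.W₁_hall
  have h2 := Cfsg.Agent.Helper67.BGTypeII.card_mul_relIndex_eq h.W₁_compl.2.1
  have h3 := card_eq h
  have hpos : 0 < Nat.card W₁ := Nat.card_pos
  have : W₁.relIndex M = Nat.card ↥(⁅M, M⁆ : Subgroup G) := by
    apply Nat.eq_of_mul_eq_mul_left hpos
    rw [h2, h3, mul_comm]
  rwa [this] at h1

theorem fittingHallOf_le_commutator (h : IsTypePWith M W₁ U W₂) :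
    fittingHallOf M ≤ ⁅M, M⁆ :=
  (le_sup_left.trans (le_of_eq h.fitting_eq)).trans h.fitting_le

theorem fittingHallOf_le_fittingOf (h : IsTypePWith M W₁ U W₂) :
    fittingHallOf M ≤ fittingOf M :=
  le_sup_left.trans (le_of_eq h.fitting_eq)

theorem commutator_le (h : IsTypePWith M W₁ U W₂) : ⁅M, M⁆ ≤ M := h.W₁_compl.1

theorem W₂_le_fittingHallOf (h : IsTypePWith M W₁ U W₂) : W₂ ≤ fittingHallOf M :=
  h.W₂_le.trans inf_le_left

theorem sup_le_M (h : IsTypePWith M W₁ U W₂) : W₁ ⊔ W₂ ≤ M :=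
  sup_le h.W₁_compl.2.1
    ((W₂_le_fittingHallOf h).trans (Cfsg.Agent.Helper23.fittingHallOf_le M))

theorem fittingHallOf_ne_bot (h : IsTypePWith M W₁ U W₂) : fittingHallOf M ≠ ⊥ := by
  intro hb
  apply h.H_not_cyclic
  rw [hb]
  exact isCyclic_of_subsingleton

/-- Elements of `W₁W₂` outside `W₁ ∪ W₂`: the `|W₁|`-th power is a non-identity element of `W₂`. -/
theorem pow_mem_of_mem_sup [Finite G] (h : IsTypePWith M W₁ U W₂) {w : G} (hw : w ∈ W₁ ⊔ W₂)
    (h1 : w ∉ W₁) (h2 : w ∉ W₂) :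
    w ^ Nat.card W₁ ∈ W₂ ∧ w ^ Nat.card W₁ ≠ 1 := by
  obtain ⟨_, _, _, hcomm, _, _⟩ := h.selfNormalizing
  have hn : W₁ ≤ normalizer (W₂ : Set G) := by
    refine le_trans ?_ (centralizer_le_normalizer _)
    intro a ha
    rw [mem_centralizer_iff]
    intro b hb
    exact (hcomm a ha b hb).symm
  obtain ⟨a, ha, b, hb, rfl⟩ := Cfsg.Agent.Helper67.BGTypeII.exists_mul_of_mem_sup hn hw
  have hb1 : b ≠ 1 := by
    intro hb1
    apply h1
    rw [hb1, mul_one]
    exact ha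
  have hab : Commute a b := hcomm a ha b hb
  have ha1 : a ^ Nat.card W₁ = 1 :=
    orderOf_dvd_iff_pow_eq_one.mp (Subgroup.orderOf_dvd_natCard W₁ ha)
  have hpow : (a * b) ^ Nat.card W₁ = b ^ Nat.card W₁ := by
    rw [hab.mul_pow, ha1, one_mul]
  rw [hpow]
  refine ⟨W₂.pow_mem hb _, ?_⟩
  intro hbq
  apply hb1
  have hd1 : orderOf b ∣ Nat.card W₁ := orderOf_dvd_iff_pow_eq_one.mpr hbq
  have hbD : b ∈ ⁅M, M⁆ := fittingHallOf_le_commutator h (W₂_le_fittingHallOf h hb)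
  have hd2 : orderOf b ∣ Nat.card ↥(⁅M, M⁆ : Subgroup G) := Subgroup.orderOf_dvd_natCard _ hbD
  have : orderOf b = 1 := Nat.eq_one_of_dvd_coprimes (coprime_W₁ h) hd1 hd2
  exact orderOf_eq_one_iff.mp this

theorem conj_mem_fittingOf (M : Subgroup G) {m x : G} (hm : m ∈ M)
    (hx : x ∈ fittingOf M) : m * x * m⁻¹ ∈ fittingOf M := by
  unfold fittingOf at hx ⊢
  obtain ⟨y, hy, rfl⟩ := hx
  have hn : (fittingSubgroup ↥M).Normal := Subgroup.sSup_normal _ (fun _ h => h.1)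
  refine ⟨(⟨m, hm⟩ : M) * y * (⟨m, hm⟩ : M)⁻¹, ?_, ?_⟩
  · exact hn.conj_mem y hy ⟨m, hm⟩
  · simp

theorem fittingOf_le (M : Subgroup G) : fittingOf M ≤ M := by
  unfold fittingOf
  exact map_subtype_le _

/-- A maximal subgroup of Type II is not of Type I. -/
theorem not_typeI [Finite G] (hG : IsMinSimpleOddOrder G) (hM : IsCoatom M) (h : IsTypePWith M W₁ U W₂)
    (hq : (Nat.card W₁).Prime) : ¬ IsOfTypeI M := by
  rintro ⟨⟨_, _, _, _, UF, _, hcompl, _, ⟨U₀, hU₀, hexp, hfpf⟩⟩, _⟩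
  have : Fact (Nat.card W₁).Prime := ⟨hq⟩
  have hcard : Nat.card (fittingHall ↥M) * Nat.card UF = Nat.card M := hcompl.card_mul_card
  have hH : Nat.card (fittingHall ↥M) = Nat.card (fittingHallOf M) :=
    (Cfsg.Agent.Helper23.card_fittingHallOf M).symm
  have hqM : Nat.card W₁ ∣ Nat.card M := by rw [card_eq h]; exact dvd_mul_left _ _
  have hqH : ¬ Nat.card W₁ ∣ Nat.card (fittingHallOf M) := by
    intro hd
    have h1 : Nat.card (fittingHallOf M) ∣ Nat.card ↥(⁅M, M⁆ : Subgroup G) :=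
      Subgroup.card_dvd_of_le (fittingHallOf_le_commutator h)
    have := Nat.Coprime.eq_one_of_dvd (coprime_W₁ h) (hd.trans h1)
    exact hq.one_lt.ne' this
  have hqU : Nat.card W₁ ∣ Nat.card UF := by
    rw [← hcard, hH] at hqM
    exact ((Nat.Prime.dvd_mul hq).mp hqM).resolve_left hqH
  obtain ⟨y, hy⟩ := exists_prime_orderOf_dvd_card' (Nat.card W₁) hqU
  have hqe : Nat.card W₁ ∣ Monoid.exponent UF := hy ▸ Monoid.order_dvd_exponent y
  rw [← hexp] at hqe
  have hqU₀ : Nat.card W₁ ∣ Nat.card U₀ := hqe.trans Group.exponent_dvd_nat_card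
  obtain ⟨u, hu⟩ := exists_prime_orderOf_dvd_card' (Nat.card W₁) hqU₀
  have hu' : orderOf (u.1.1 : G) = Nat.card W₁ := by
    rw [Subgroup.orderOf_coe, Subgroup.orderOf_coe]; exact hu
  have hu1 : (u.1.1 : G) ≠ 1 := by
    intro h1
    rw [h1, orderOf_one] at hu'
    exact hq.one_lt.ne hu'
  have hMtop : M ≠ ⊤ := hM.1
  have hsolv : Group.IsSolvable M := hG.2.2.2 M hMtop
  have hmn : Nat.card M = Nat.card W₁ * Nat.card ↥(⁅M, M⁆ : Subgroup G) := by rw [card_eq h, mul_comm]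
  obtain ⟨k, hk, hkeq⟩ := Cfsg.Agent.Helper52.hall_conj_internal M hsolv (Nat.card W₁)
    (Nat.card ↥(⁅M, M⁆ : Subgroup G)) hmn (coprime_W₁ h) W₁ (zpowers (u.1.1 : G)) h.W₁_compl.2.1
    (by rw [zpowers_le]; exact u.1.2) rfl (by rw [Nat.card_zpowers]; exact hu')
  have hw : k⁻¹ * (u.1.1 : G) * k ∈ W₁ := by
    rw [← mem_map_conj, ← hkeq]
    exact mem_zpowers _
  have hw1 : k⁻¹ * (u.1.1 : G) * k ≠ 1 := by
    intro h1
    apply hu1
    have : (u.1.1 : G) = k * (k⁻¹ * (u.1.1 : G) * k) * k⁻¹ := by group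
    rw [this, h1]; group
  obtain ⟨_, hW₂, _⟩ := h.selfNormalizing
  obtain ⟨⟨x, hx⟩, hx1⟩ := (Subgroup.ne_bot_iff_exists_ne_one).mp hW₂
  have hx1' : x ≠ 1 := fun hh => hx1 (Subtype.ext hh)
  have hcent := h.W₂_centralizer _ hw hw1
  have hxc : x ∈ centralizer ({k⁻¹ * (u.1.1 : G) * k} : Set G) := by
    have : x ∈ ⁅M, M⁆ ⊓ centralizer ({k⁻¹ * (u.1.1 : G) * k} : Set G) := by rw [hcent]; exact hx
    exact this.2
  rw [mem_centralizer_singleton_iff] at hxc
  have hxH : x ∈ fittingHallOf M := W₂_le_fittingHallOf h hx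
  have hx'H : k * x * k⁻¹ ∈ fittingHallOf M := conj_mem_fittingHallOf M hk hxH
  have hx'1 : k * x * k⁻¹ ≠ 1 := by
    intro h1
    apply hx1'
    have : x = k⁻¹ * (k * x * k⁻¹) * k := by group
    rw [this, h1]; group
  have hcomm : (u.1.1 : G) * (k * x * k⁻¹) = (k * x * k⁻¹) * (u.1.1 : G) := by
    have e1 : (u.1.1 : G) * (k * x * k⁻¹) = k * ((k⁻¹ * (u.1.1 : G) * k) * x) * k⁻¹ := by group
    have e2 : (k * x * k⁻¹) * (u.1.1 : G) = k * (x * (k⁻¹ * (u.1.1 : G) * k)) * k⁻¹ := by group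
    rw [e1, e2]
    rw [hxc]
  unfold fittingHallOf at hx'H
  obtain ⟨y', hy', hyeq⟩ := hx'H
  have hy1 : y' = 1 := by
    apply hfpf u.1 u.2 (fun hh => hu1 (by rw [hh]; rfl)) y' hy'
    apply Subtype.ext
    simp only [Subgroup.coe_mul]
    have : (y' : G) = k * x * k⁻¹ := hyeq
    rw [this]
    exact hcomm
  apply hx'1
  rw [← hyeq, hy1]
  rfl

/-- A maximal subgroup of Type II is neither of Type III nor of Type IV: all complements of `M_F` in
`M'` are conjugate. -/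
theorem false_of_normalizer_le [Finite G] (hG : IsMinSimpleOddOrder G) (hM : IsCoatom M)
    (h : IsTypePWith M W₁ U W₂) (hNU : ¬ normalizer (U : Set G) ≤ M)
    {W₁' U' W₂' : Subgroup G} (h' : IsTypePWith M W₁' U' W₂')
    (hN : normalizer (U' : Set G) ≤ M) : False := by
  have hc1 := Cfsg.Agent.Helper23.card_of_isComplIn h.U_compl
  have hc2 := Cfsg.Agent.Helper23.card_of_isComplIn h'.U_compl
  have hHpos : 0 < Nat.card (fittingHallOf M) := Nat.card_pos
  have hUU' : Nat.card U' = Nat.card U := by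
    apply Nat.eq_of_mul_eq_mul_left hHpos
    rw [← hc1, ← hc2]
  have hcop : (Nat.card U).Coprime (Nat.card (fittingHallOf M)) := by
    have h0 := Cfsg.Agent.Helper23.fittingHall_coprime ↥M
    rw [← Cfsg.Agent.Helper23.card_fittingHallOf M] at h0
    have h1 : Nat.card (fittingHall ↥M) * (fittingHall ↥M).index = Nat.card M :=
      Subgroup.card_mul_index _
    rw [← Cfsg.Agent.Helper23.card_fittingHallOf M, card_eq h, hc1] at h1
    have h2 : (fittingHall ↥M).index = Nat.card U * Nat.card W₁ := by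
      apply Nat.eq_of_mul_eq_mul_left hHpos
      rw [h1, mul_assoc]
    rw [h2] at h0
    exact (Nat.Coprime.coprime_dvd_right (dvd_mul_right _ _) h0).symm
  have hDtop : ⁅M, M⁆ ≠ ⊤ := by
    intro ht
    apply hM.1
    rw [eq_top_iff, ← ht]
    exact commutator_le h
  have hsolv : Group.IsSolvable ↥(⁅M, M⁆ : Subgroup G) := hG.2.2.2 _ hDtop
  have hmn : Nat.card ↥(⁅M, M⁆ : Subgroup G) = Nat.card U * Nat.card (fittingHallOf M) := by
    rw [hc1, mul_comm]
  obtain ⟨k, hk, hkeq⟩ := Cfsg.Agent.Helper52.hall_conj_internal ⁅M, M⁆ hsolv (Nat.card U)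
    (Nat.card (fittingHallOf M)) hmn hcop U U' h.U_compl.2.1 h'.U_compl.2.1 rfl hUU'
  have hkM : k ∈ M := commutator_le h hk
  apply hNU
  intro g hg
  have h1 : k * g * k⁻¹ ∈ normalizer (U' : Set G) := by
    rw [mem_normalizer_iff]
    intro x
    rw [hkeq, mem_map_conj, mem_map_conj]
    have e : k⁻¹ * (k * g * k⁻¹ * x * (k * g * k⁻¹)⁻¹) * k = g * (k⁻¹ * x * k) * g⁻¹ := by group
    rw [e]
    exact (mem_normalizer_iff.mp hg) _
  have h2 := hN h1
  have : g = k⁻¹ * (k * g * k⁻¹) * k := by group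
  rw [this]
  exact M.mul_mem (M.mul_mem (M.inv_mem hkM) h2) hkM

end Cfsg.Agent.Helper10.TypeII
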