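import Cfsg.Agent.Lib.Helper10.TypeIIb

/-!
# Type II maximal subgroups: `A₀(M)`, `A(M)`, `A₁(M)` are TI-subsets with normalizer `M`

Hypothesis-parametrised: the only input beyond the definitions is that `A(M) \ A₁(M)` is a
TI-subset (a clause of B-G Theorem II, row S1390).
-/

set_option autoImplicit false

namespace Cfsg.Agent.Helper10.TypeII

open Subgroup Cfsg

variable {G : Type*} [Group G]

theorem orderOf_conj' (g a : G) : orderOf (g * a * g⁻¹) = orderOf a := by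
  have := orderOf_injective (MulAut.conj g).toMonoidHom (MulAut.conj g).injective a
  simpa [MulAut.conj_apply] using this

theorem main [Finite G] (hG : IsMinSimpleOddOrder G) (M : Subgroup G) (hM : IsCoatom M)
    (hII : IsOfTypeII M) (hTI : IsTISubset (typeA M \ typeA1 M)) :
    (IsTISubset (typeA0 M) ∧ normalizer (typeA0 M) = M) ∧
    (IsTISubset (typeA M) ∧ normalizer (typeA M) = M) ∧
    (IsTISubset (typeA1 M) ∧ normalizer (typeA1 M) = M) := by
  obtain ⟨W₁, U, W₂, h, hU1, hq, hFTI, hUab, hNU, hDF, hDH⟩ := hII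
  have : IsSimpleGroup G := hG.2.1
  have hnotI : ¬ IsOfTypeI M := not_typeI hG hM h hq
  have hnot34 : ¬ (IsOfTypeIII M ∨ IsOfTypeIV M) := by
    rintro (⟨W₁', U', W₂', h', _, _, _, _, hN⟩ | ⟨W₁', U', W₂', h', _, _, _, _, hN⟩)
    · exact false_of_normalizer_le hG hM h hNU h' hN
    · exact false_of_normalizer_le hG hM h hNU h' hN
  have hcore : typeCore M = fittingHallOf M := by unfold typeCore; rw [if_neg hnot34]
  have hHM : fittingHallOf M ≤ M := Cfsg.Agent.Helper23.fittingHallOf_le M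
  have hHD : fittingHallOf M ≤ ⁅M, M⁆ := fittingHallOf_le_commutator h
  have hDM : ⁅M, M⁆ ≤ M := commutator_le h
  have hH1 : fittingHallOf M ≠ ⊥ := fittingHallOf_ne_bot h
  have hHF : fittingHallOf M ≤ fittingOf M := fittingHallOf_le_fittingOf h
  obtain ⟨⟨s, hsH⟩, hs1⟩ := (Subgroup.ne_bot_iff_exists_ne_one).mp hH1
  have hs1' : s ≠ 1 := fun hh => hs1 (Subtype.ext hh)
  -- descriptions of the three sets
  have hA1 : ∀ x, x ∈ typeA1 M ↔ x ∈ fittingHallOf M ∧ x ≠ 1 := by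
    intro x
    unfold typeA1
    rw [hcore]
    simp
  have hA : ∀ a, a ∈ typeA M ↔
      a ∈ ⁅M, M⁆ ∧ a ≠ 1 ∧ ∃ x ∈ fittingHallOf M, x ≠ 1 ∧ a * x = x * a := by
    intro a
    unfold typeA
    rw [if_neg hnotI, hcore]
    rfl
  have hA0 : ∀ v, v ∈ typeA0 M ↔ v ∈ typeA M ∨
      (∃ W₁ U W₂ : Subgroup G, IsTypePWith M W₁ U W₂ ∧
        ∃ m ∈ M, ∃ w ∈ W₁ ⊔ W₂, w ∉ W₁ ∧ w ∉ W₂ ∧ v = m * w * m⁻¹) := by
    intro v
    unfold typeA0
    simp only [Set.mem_union, Set.mem_ofPred_eq, hnotI, not_false_eq_true, true_and]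
  have hHA : ∀ x ∈ fittingHallOf M, x ≠ 1 → x ∈ typeA M := by
    intro x hx hx1
    exact (hA x).mpr ⟨hHD hx, hx1, x, hx, hx1, rfl⟩
  -- A₁
  have hN1 : normalizer (typeA1 M) = M := by
    apply normalizer_set_eq hM
    · intro x hx
      exact hHM ((hA1 x).mp hx).1
    · exact ⟨s, (hA1 s).mpr ⟨hsH, hs1'⟩, hs1'⟩
    · intro m hm x hx
      obtain ⟨hxH, hx1⟩ := (hA1 x).mp hx
      refine (hA1 _).mpr ⟨conj_mem_fittingHallOf M hm hxH, ?_⟩
      intro hh
      apply hx1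
      have : x = m⁻¹ * (m * x * m⁻¹) * m := by group
      rw [this, hh]; group
  have hNF : normalizer (fittingOf M : Set G) = M := by
    apply normalizer_eq_of_coatom hM (fittingOf_le M)
    · intro hb
      apply hH1
      rw [eq_bot_iff, ← hb]
      exact hHF
    · intro m hm
      rw [mem_normalizer_iff]
      intro x
      constructor
      · exact conj_mem_fittingOf M hm
      · intro hh
        have := conj_mem_fittingOf M (M.inv_mem hm) hh
        have e : m⁻¹ * (m * x * m⁻¹) * m⁻¹⁻¹ = x := by group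
        rwa [e] at this
  have hT1 : IsTISubset (typeA1 M) := by
    intro g hg x hx hgx
    rw [hN1] at hg
    obtain ⟨hxH, _⟩ := (hA1 x).mp hx
    obtain ⟨hgxH, _⟩ := (hA1 _).mp hgx
    exact hFTI g (by rw [hNF]; exact hg) x (hHF hxH) (hHF hgxH)
  -- A
  have hAinv : ∀ m ∈ M, ∀ a ∈ typeA M, m * a * m⁻¹ ∈ typeA M := by
    intro m hm a ha
    obtain ⟨haD, ha1, x, hxH, hx1, hax⟩ := (hA a).mp ha
    refine (hA _).mpr ⟨conj_mem_commutator M hm haD, ?_, m * x * m⁻¹,
      conj_mem_fittingHallOf M hm hxH, ?_, ?_⟩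
    · intro hh
      apply ha1
      have : a = m⁻¹ * (m * a * m⁻¹) * m := by group
      rw [this, hh]; group
    · intro hh
      apply hx1
      have : x = m⁻¹ * (m * x * m⁻¹) * m := by group
      rw [this, hh]; group
    · have e1 : m * a * m⁻¹ * (m * x * m⁻¹) = m * (a * x) * m⁻¹ := by group
      have e2 : m * x * m⁻¹ * (m * a * m⁻¹) = m * (x * a) * m⁻¹ := by group
      rw [e1, e2, hax]
  have hAM : typeA M ⊆ (M : Set G) := by
    intro a ha
    exact hDM ((hA a).mp ha).1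
  have hN : normalizer (typeA M) = M := by
    apply normalizer_set_eq hM hAM
    · exact ⟨s, hHA s hsH hs1', hs1'⟩
    · exact hAinv
  have hT2 : IsTISubset (typeA M) := by
    intro g hg a ha hga
    rw [hN] at hg
    obtain ⟨haD, ha1, -⟩ := (hA a).mp ha
    obtain ⟨hbD, hb1, -⟩ := (hA _).mp hga
    by_cases haH : a ∈ fittingHallOf M
    · have hbH : g * a * g⁻¹ ∈ fittingHallOf M := by
        apply mem_fittingHallOf_of_orderOf_dvd M (hDM hbD)
        rw [orderOf_conj']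
        exact Subgroup.orderOf_dvd_natCard _ haH
      exact hT1 g (by rw [hN1]; exact hg) a ((hA1 a).mpr ⟨haH, ha1⟩) ((hA1 _).mpr ⟨hbH, hb1⟩)
    · have hbH : g * a * g⁻¹ ∉ fittingHallOf M := by
        intro hb
        apply haH
        apply mem_fittingHallOf_of_orderOf_dvd M (hDM haD)
        rw [← orderOf_conj' g a]
        exact Subgroup.orderOf_dvd_natCard _ hb
      have hS : normalizer (typeA M \ typeA1 M) = M := by
        apply normalizer_set_eq hM
        · intro x hx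
          exact hAM hx.1
        · exact ⟨a, ⟨ha, fun h1 => haH ((hA1 a).mp h1).1⟩, ha1⟩
        · intro m hm x hx
          refine ⟨hAinv m hm x hx.1, ?_⟩
          intro h1
          apply hx.2
          have h2 : m⁻¹ ∈ normalizer (typeA1 M) := by rw [hN1]; exact M.inv_mem hm
          have h3 := (mem_set_normalizer_iff.mp h2 (m * x * m⁻¹)).mp h1
          have e : m⁻¹ * (m * x * m⁻¹) * m⁻¹⁻¹ = x := by group
          rwa [e] at h3
      exact hTI g (by rw [hS]; exact hg) a ⟨ha, fun h1 => haH ((hA1 a).mp h1).1⟩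
        ⟨hga, fun h1 => hbH ((hA1 _).mp h1).1⟩
  -- A₀
  have hB : ∀ v, (∃ W₁' U' W₂' : Subgroup G, IsTypePWith M W₁' U' W₂' ∧
        ∃ m ∈ M, ∃ w ∈ W₁' ⊔ W₂', w ∉ W₁' ∧ w ∉ W₂' ∧ v = m * w * m⁻¹) →
      v ∈ M ∧ v ^ Nat.card W₁ ∈ fittingHallOf M ∧ v ^ Nat.card W₁ ≠ 1 := by
    rintro v ⟨W₁', U', W₂', h', m, hm, w, hw, hw1, hw2, rfl⟩
    have hcard : Nat.card W₁' = Nat.card W₁ := by
      have e1 := card_eq h
      have e2 := card_eq h'
      have hpos : 0 < Nat.card ↥(⁅M, M⁆ : Subgroup G) := Nat.card_pos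
      apply Nat.eq_of_mul_eq_mul_left hpos
      rw [← e1, ← e2]
    obtain ⟨hp1, hp2⟩ := pow_mem_of_mem_sup h' hw hw1 hw2
    rw [hcard] at hp1 hp2
    refine ⟨M.mul_mem (M.mul_mem hm (sup_le_M h' hw)) (M.inv_mem hm), ?_, ?_⟩
    · rw [conj_pow]
      exact conj_mem_fittingHallOf M hm (W₂_le_fittingHallOf h' hp1)
    · rw [conj_pow]
      intro hh
      apply hp2
      have : w ^ Nat.card W₁ = m⁻¹ * (m * w ^ Nat.card W₁ * m⁻¹) * m := by group
      rw [this, hh]; group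
  have hN0 : normalizer (typeA0 M) = M := by
    apply normalizer_set_eq hM
    · intro v hv
      rcases (hA0 v).mp hv with hv | hv
      · exact hAM hv
      · exact (hB v hv).1
    · exact ⟨s, (hA0 s).mpr (Or.inl (hHA s hsH hs1')), hs1'⟩
    · intro m hm v hv
      rcases (hA0 v).mp hv with hv | hv
      · exact (hA0 _).mpr (Or.inl (hAinv m hm v hv))
      · obtain ⟨W₁', U', W₂', h', m', hm', w, hw, hw1, hw2, rfl⟩ := hv
        refine (hA0 _).mpr (Or.inr ⟨W₁', U', W₂', h', m * m', M.mul_mem hm hm', w, hw, hw1, hw2, ?_⟩)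
        group
  have hmixed : ∀ g : G, g ∉ M → ∀ v ∈ typeA M,
      (∃ W₁' U' W₂' : Subgroup G, IsTypePWith M W₁' U' W₂' ∧
        ∃ m ∈ M, ∃ w ∈ W₁' ⊔ W₂', w ∉ W₁' ∧ w ∉ W₂' ∧ g * v * g⁻¹ = m * w * m⁻¹) → False := by
    intro g hg v hv hu
    obtain ⟨hvD, hv1, x, hxH, hx1, hvx⟩ := (hA v).mp hv
    obtain ⟨_, hp1, hp2⟩ := hB _ hu
    rw [conj_pow] at hp1 hp2
    have hvq1 : v ^ Nat.card W₁ ≠ 1 := by
      intro hh
      apply hp2
      rw [hh]; group
    have hvqA : v ^ Nat.card W₁ ∈ typeA M := by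
      refine (hA _).mpr ⟨Subgroup.pow_mem _ hvD _, hvq1, x, hxH, hx1, ?_⟩
      have hc : Commute v x := hvx
      exact (hc.pow_left _)
    have hgA : g * v ^ Nat.card W₁ * g⁻¹ ∈ typeA M := hHA _ hp1 hp2
    exact hvq1 (hT2 g (by rw [hN]; exact hg) _ hvqA hgA)
  have hT3 : IsTISubset (typeA0 M) := by
    intro g hg v hv hgv
    rw [hN0] at hg
    rcases (hA0 v).mp hv with hvA | hvB
    · rcases (hA0 _).mp hgv with huA | huB
      · exact hT2 g (by rw [hN]; exact hg) v hvA huA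
      · exact (hmixed g hg v hvA huB).elim
    · rcases (hA0 _).mp hgv with huA | huB
      · exfalso
        have hg' : g⁻¹ ∉ M := fun hh => hg (by simpa using M.inv_mem hh)
        apply hmixed g⁻¹ hg' (g * v * g⁻¹) huA
        obtain ⟨W₁', U', W₂', h', m, hm, w, hw, hw1, hw2, hveq⟩ := hvB
        refine ⟨W₁', U', W₂', h', m, hm, w, hw, hw1, hw2, ?_⟩
        rw [← hveq]; group
      · exfalso
        obtain ⟨_, hp1, hp2⟩ := hB v hvB
        obtain ⟨_, hp1', hp2'⟩ := hB _ huB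
        rw [conj_pow] at hp1' hp2'
        exact hp2 (hT1 g (by rw [hN1]; exact hg) _ ((hA1 _).mpr ⟨hp1, hp2⟩)
          ((hA1 _).mpr ⟨hp1', hp2'⟩))
  exact ⟨⟨hT3, hN0⟩, ⟨hT2, hN⟩, ⟨hT1, hN1⟩⟩

end Cfsg.Agent.Helper10.TypeII
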