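import Mathlib
import Cfsg.Agent.Lib.Helper93.U20

/-!
# U2 (G2b) for helper93's S2335 server: `lMat_det`
(self-contained: the determinant of `1 + N`, `N * N = 0`, is computed here via the characteristic `p`
trick `(1 + N) ^ p = 1`, so piece B3 is not needed.)
-/

set_option autoImplicit false

namespace Cfsg.Agent.Helper10.U2

open Matrix Cfsg.Agent.Helper13 Cfsg.Agent.Helper93.U2

section GRP

variable {F : Type*} [Field F] [Fintype F] {q : ℕ} (hF : Fintype.card F = q ^ 2)

omit [Fintype F] in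
theorem h10_one_add_pow {n : ℕ} (N : Matrix (Fin n) (Fin n) F) (h : N * N = 0) (k : ℕ) :
    (1 + N) ^ k = 1 + (k : F) • N := by
  induction k with
  | zero => simp
  | succ k ih =>
    rw [pow_succ, ih, Matrix.mul_add, Matrix.mul_one, Matrix.add_mul, Matrix.one_mul,
      Matrix.smul_mul, h, smul_zero, add_zero, Nat.cast_succ, add_smul, one_smul, add_assoc]

/-- over a finite field, `det (1 + N) = 1` when `N * N = 0` -/
theorem h10_det_one_add_of_sq_zero {n : ℕ} (N : Matrix (Fin n) (Fin n) F) (h : N * N = 0) :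
    (1 + N).det = 1 := by
  obtain ⟨p, hp⟩ := CharP.exists F
  have hpp : Fact p.Prime := ⟨CharP.char_is_prime F p⟩
  have h1 : (1 + N) ^ p = 1 := by
    rw [h10_one_add_pow N h p, CharP.cast_eq_zero F p, zero_smul, add_zero]
  have h2 : (1 + N).det ^ p = 1 ^ p := by
    rw [← Matrix.det_pow, h1, Matrix.det_one, one_pow]
  exact frobenius_inj F p h2

/-- piece G2b -/
theorem lMat_det {n m : ℕ} (fr : Frame hF n m) (E : Matrix (Fin m) (Fin m) F)
    (hE : E * E = 0) : (lMat hF fr E).det = 1 := by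
  unfold lMat
  apply h10_det_one_add_of_sq_zero
  have hqp : cT hF fr.Q * fr.P = 1 := by
    have := congrArg (cT hF) fr.pq
    rw [cT_mul, cT_cT, cT_one] at this
    exact this
  have hEs : cT hF E * cT hF E = 0 := by
    rw [← cT_mul, hE, cT_zero]
  have a1 : ∀ Y : Matrix (Fin m) (Fin n) F, cT hF fr.Q * (fr.P * Y) = Y := by
    intro Y; rw [← Matrix.mul_assoc, hqp, Matrix.one_mul]
  have a2 : ∀ Y : Matrix (Fin m) (Fin n) F, cT hF fr.Q * (fr.Q * Y) = 0 := by
    intro Y; rw [← Matrix.mul_assoc, fr.qq, Matrix.zero_mul]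
  have a3 : ∀ Y : Matrix (Fin m) (Fin n) F, cT hF fr.P * (fr.P * Y) = 0 := by
    intro Y; rw [← Matrix.mul_assoc, fr.pp, Matrix.zero_mul]
  have a4 : ∀ Y : Matrix (Fin m) (Fin n) F, cT hF fr.P * (fr.Q * Y) = Y := by
    intro Y; rw [← Matrix.mul_assoc, fr.pq, Matrix.one_mul]
  have b1 : ∀ Y : Matrix (Fin m) (Fin n) F, E * (E * Y) = 0 := by
    intro Y; rw [← Matrix.mul_assoc, hE, Matrix.zero_mul]
  have b2 : ∀ Y : Matrix (Fin m) (Fin n) F, cT hF E * (cT hF E * Y) = 0 := by
    intro Y; rw [← Matrix.mul_assoc, hEs, Matrix.zero_mul]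
  rw [Matrix.sub_mul, Matrix.mul_sub, Matrix.mul_sub]
  simp only [Matrix.mul_assoc]
  rw [a1, a2, a3, a4, b1, b2]
  simp

end GRP

end Cfsg.Agent.Helper10.U2
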