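import Mathlib
import Cfsg.Agent.Lib.Helper93.U20

/-!
# U2 (G7) for helper93's S2335 server: `exists_cong_ne`
-/

set_option autoImplicit false

namespace Cfsg.Agent.Helper10.U2

open Matrix Cfsg.Agent.Helper13 Cfsg.Agent.Helper93.U2

section GRP

variable {F : Type*} [Field F] [Fintype F] {q : ℕ} (hF : Fintype.card F = q ^ 2)

/-- piece G7 -/
theorem exists_cong_ne (m : ℕ) (hm : 2 ≤ m) :
    ∃ (E : Matrix (Fin m) (Fin m) F) (a : ↥(hermSub hF m)),
      E * E = 0 ∧ congH hF (1 + E) a ≠ a := by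
  classical
  obtain ⟨i0, hi0⟩ : ∃ i0 : Fin m, i0 = ⟨0, by omega⟩ := ⟨_, rfl⟩
  obtain ⟨i1, hi1⟩ : ∃ i1 : Fin m, i1 = ⟨1, by omega⟩ := ⟨_, rfl⟩
  have h01 : i0 ≠ i1 := by
    rw [hi0, hi1]
    intro h
    have := congrArg Fin.val h
    simp at this
  have hherm : cT hF (Matrix.single i0 i0 (1 : F)) = Matrix.single i0 i0 1 := by
    ext i j
    rw [cT_apply, Matrix.single_apply, Matrix.single_apply]
    by_cases h : i0 = j ∧ i0 = i
    · rw [if_pos h, if_pos ⟨h.2, h.1⟩, one_pow]
    · rw [if_neg h, if_neg (fun h' => h ⟨h'.2, h'.1⟩), zero_pow]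
      have := q_pos hF
      omega
  refine ⟨Matrix.single i1 i0 1, ⟨Matrix.single i0 i0 1, hherm⟩, ?_, ?_⟩
  · exact Matrix.single_mul_single_of_ne (1 : F) i1 i0 i1 h01 (1 : F)
  · intro h
    have h2 := congrArg (fun x : ↥(hermSub hF m) => x.1 i1 i1) h
    simp only [congH_val] at h2
    have e1 : ((((1 : Matrix (Fin m) (Fin m) F) + Matrix.single i1 i0 (1 : F)) * Matrix.single i0 i0 1
        * cT hF ((1 : Matrix (Fin m) (Fin m) F) + Matrix.single i1 i0 (1 : F)) :
          Matrix (Fin m) (Fin m) F)) i1 i1 = 1 := by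
      rw [Matrix.mul_apply]
      rw [Finset.sum_eq_single i0]
      · rw [Matrix.mul_single_apply_same, cT_apply, Matrix.add_apply, Matrix.one_apply_ne h01.symm,
          Matrix.single_apply_same, zero_add, mul_one, one_pow, mul_one]
      · intro b _ hb
        rw [Matrix.mul_single_apply_of_ne _ _ _ _ _ hb, zero_mul]
      · intro h; exact absurd (Finset.mem_univ _) h
    have e2 : (Matrix.single i0 i0 (1 : F)) i1 i1 = 0 := by
      rw [Matrix.single_apply, if_neg (fun h' => h01 h'.1)]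
    rw [e1, e2] at h2
    exact one_ne_zero h2

end GRP

end Cfsg.Agent.Helper10.U2
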