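import Mathlib
import Cfsg.Agent.Lib.Helper93.U30

/-!
# U3 (B3c) for helper93's S2334 server: `det_one_add_of_cube_zero`
(self-contained: characteristic `p` trick, `(1 + N) ^ p = 1 + b • N * N` and then `(1 + M) ^ p = 1`
for `M * M = 0`.)
-/

set_option autoImplicit false

namespace Cfsg.Agent.Helper10.U3

open Matrix Cfsg.Agent.Helper13 Cfsg.Agent.Helper93.U2 Cfsg.Agent.Helper93.U3

section GRP

variable {F : Type*} [Field F] [Fintype F] {q : ℕ} (hF : Fintype.card F = q ^ 2)

omit [Fintype F] in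
theorem h10u3_one_add_pow {n : ℕ} (N : Matrix (Fin n) (Fin n) F) (h : N * N = 0) (k : ℕ) :
    (1 + N) ^ k = 1 + (k : F) • N := by
  induction k with
  | zero => simp
  | succ k ih =>
    rw [pow_succ, ih, Matrix.mul_add, Matrix.mul_one, Matrix.add_mul, Matrix.one_mul,
      Matrix.smul_mul, h, smul_zero, add_zero, Nat.cast_succ, add_smul, one_smul, add_assoc]

/-- over a finite field, `det (1 + N) = 1` when `N * N = 0` -/
theorem h10u3_det_one_add_of_sq_zero {n : ℕ} (N : Matrix (Fin n) (Fin n) F) (h : N * N = 0) :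
    (1 + N).det = 1 := by
  obtain ⟨p, hp⟩ := CharP.exists F
  have hpp : Fact p.Prime := ⟨CharP.char_is_prime F p⟩
  have h1 : (1 + N) ^ p = 1 := by
    rw [h10u3_one_add_pow N h p, CharP.cast_eq_zero F p, zero_smul, add_zero]
  have h2 : (1 + N).det ^ p = 1 ^ p := by
    rw [← Matrix.det_pow, h1, Matrix.det_one, one_pow]
  exact frobenius_inj F p h2

omit [Fintype F] in
theorem h10u3_one_add_pow3 {n : ℕ} (N : Matrix (Fin n) (Fin n) F) (h : N * N * N = 0) (k : ℕ) :
    ∃ b : F, (1 + N) ^ k = 1 + (k : F) • N + b • (N * N) := by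
  induction k with
  | zero => exact ⟨0, by simp⟩
  | succ k ih =>
    obtain ⟨b, hb⟩ := ih
    refine ⟨b + k, ?_⟩
    rw [pow_succ, hb]
    simp only [Matrix.add_mul, Matrix.mul_add, Matrix.mul_one, Matrix.one_mul, Matrix.smul_mul,
      h, smul_zero, add_zero, Nat.cast_succ, add_smul, one_smul]
    abel

/-- piece B3c -/
theorem det_one_add_of_cube_zero {n : ℕ} (N : Matrix (Fin n) (Fin n) F) (h : N * N * N = 0) :
    (1 + N).det = 1 := by
  obtain ⟨p, hp⟩ := CharP.exists F
  have hpp : Fact p.Prime := ⟨CharP.char_is_prime F p⟩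
  obtain ⟨b, hb⟩ := h10u3_one_add_pow3 N h p
  rw [CharP.cast_eq_zero F p, zero_smul, add_zero] at hb
  have hsq : (b • (N * N)) * (b • (N * N)) = 0 := by
    rw [Matrix.smul_mul, Matrix.mul_smul]
    have : N * N * (N * N) = 0 := by
      rw [← Matrix.mul_assoc, h, Matrix.zero_mul]
    rw [this, smul_zero, smul_zero]
  have h2 : (1 + N).det ^ p = 1 ^ p := by
    rw [← Matrix.det_pow, hb, h10u3_det_one_add_of_sq_zero _ hsq, one_pow]
  exact frobenius_inj F p h2

end GRP

end Cfsg.Agent.Helper10.U3
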