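import Mathlib
import Cfsg.Agent.Lib.Helper93.U30
import Cfsg.Agent.Lib.Helper10.U3B3c

/-!
# U3 (O2b) for helper93's S2334 server: `lMatO_det` (port of U2 G2b)
-/

set_option autoImplicit false

namespace Cfsg.Agent.Helper10.U3

open Matrix Cfsg.Agent.Helper13 Cfsg.Agent.Helper93.U2 Cfsg.Agent.Helper93.U3

section GRP

variable {F : Type*} [Field F] [Fintype F] {q : ℕ} (hF : Fintype.card F = q ^ 2)

/-- piece O2b (port of U2 G2b) -/
theorem lMatO_det {n m : ℕ} (fr : FrameO hF n m) (E : Matrix (Fin m) (Fin m) F)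
    (hE : E * E = 0) : (lMatO hF fr E).det = 1 := by
  unfold lMatO
  apply h10u3_det_one_add_of_sq_zero
  have hqp : cT hF fr.Q * fr.P = 1 := by
    have := congrArg (cT hF) fr.pq
    rw [cT_mul, cT_cT, cT_one] at this
    exact this
  have hEs : cT hF E * cT hF E = 0 := by
    rw [← cT_mul, hE, cT_zero]
  have a1 : ∀ Y : Matrix (Fin m) (Fin n) F, cT hF fr.Q * (fr.P * Y) = Y := by
    intro Y; rw [← Matrix.mul_assoc, hqp, Matrix.one_mul]
  have a2 : ∀ Y : Matrix (Fin m) (Fin n) F, cT hF fr.Q * (fr.Q * Y) = 0 := by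
    intro Y; rw [← Matrix.mul_assoc, fr.qq, Matrix.zero_mul]
  have a3 : ∀ Y : Matrix (Fin m) (Fin n) F, cT hF fr.P * (fr.P * Y) = 0 := by
    intro Y; rw [← Matrix.mul_assoc, fr.pp, Matrix.zero_mul]
  have a4 : ∀ Y : Matrix (Fin m) (Fin n) F, cT hF fr.P * (fr.Q * Y) = Y := by
    intro Y; rw [← Matrix.mul_assoc, fr.pq, Matrix.one_mul]
  have b1 : ∀ Y : Matrix (Fin m) (Fin n) F, E * (E * Y) = 0 := by
    intro Y; rw [← Matrix.mul_assoc, hE, Matrix.zero_mul]
  have b2 : ∀ Y : Matrix (Fin m) (Fin n) F, cT hF E * (cT hF E * Y) = 0 := by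
    intro Y; rw [← Matrix.mul_assoc, hEs, Matrix.zero_mul]
  rw [Matrix.sub_mul, Matrix.mul_sub, Matrix.mul_sub]
  simp only [Matrix.mul_assoc]
  rw [a1, a2, a3, a4, b1, b2]
  simp

end GRP

end Cfsg.Agent.Helper10.U3
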