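import Mathlib
import Cfsg.Agent.Lib.Helper93.U30
import Cfsg.Agent.Lib.Helper10.U3B3c

/-!
# U3 (U2) for helper93's S2334 server: `uMat_det`
-/

set_option autoImplicit false
set_option linter.unusedSimpArgs false

namespace Cfsg.Agent.Helper10.U3

open Matrix Cfsg.Agent.Helper13 Cfsg.Agent.Helper93.U2 Cfsg.Agent.Helper93.U3

section GRP

variable {F : Type*} [Field F] [Fintype F] {q : ℕ} (hF : Fintype.card F = q ^ 2)

/-- piece U2 (uses B3c) -/
theorem uMat_det {n m : ℕ} (fr : FrameO hF n m) (c₀ : F) (y : Fin m → F) :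
    (uMat hF fr c₀ y).det = 1 := by
  unfold uMat
  rw [add_assoc]
  apply det_one_add_of_cube_zero
  have hwP : cT hF fr.w * fr.P = 0 := by
    have := congrArg (cT hF) fr.pw
    rw [cT_mul, cT_cT, cT_zero] at this
    exact this
  have a1 : ∀ (l : ℕ) (X : Matrix (Fin m) (Fin l) F), cT hF fr.P * (fr.P * X) = 0 := by
    intro l X; rw [← Matrix.mul_assoc, fr.pp, Matrix.zero_mul]
  have a2 : ∀ (l : ℕ) (X : Matrix (Fin 1) (Fin l) F), cT hF fr.P * (fr.w * X) = 0 := by
    intro l X; rw [← Matrix.mul_assoc, fr.pw, Matrix.zero_mul]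
  have a3 : ∀ (l : ℕ) (X : Matrix (Fin m) (Fin l) F), cT hF fr.w * (fr.P * X) = 0 := by
    intro l X; rw [← Matrix.mul_assoc, hwP, Matrix.zero_mul]
  have a4 : ∀ (l : ℕ) (X : Matrix (Fin 1) (Fin l) F), cT hF fr.w * (fr.w * X) = X := by
    intro l X; rw [← Matrix.mul_assoc, fr.ww, Matrix.one_mul]
  simp only [Matrix.add_mul, Matrix.mul_add, Matrix.sub_mul, Matrix.mul_sub, Matrix.smul_mul,
    Matrix.mul_smul, Matrix.mul_assoc, Matrix.neg_mul, Matrix.mul_neg, a1, a2, a3, a4,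
    Matrix.mul_zero, Matrix.zero_mul, smul_zero, sub_zero, zero_sub, add_zero, zero_add, neg_zero,
    sub_self, smul_neg, neg_neg]

end GRP

end Cfsg.Agent.Helper10.U3
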