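import Mathlib
import Cfsg.Agent.Lib.Helper93.U30
import Cfsg.Agent.Lib.Helper46.U2G6Core
import Cfsg.Agent.Lib.Helper16.U3O6e
import Cfsg.Agent.Lib.Helper9.U3U3
import Cfsg.Agent.Lib.Helper9.U3U4
import Cfsg.Agent.Lib.Helper10.U3O6c

/-!
# U3 (O6a), (O6h), (O6i) for helper93's S2334 server: `aElO_val`, `uEl_mul_aElO`, `uEl_mul_uEl`
-/

set_option autoImplicit false

namespace Cfsg.Agent.Helper10.U3

open Matrix Cfsg.Agent.Helper13 Cfsg.Agent.Helper93.U2 Cfsg.Agent.Helper93.U3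

section GRP

variable {F : Type*} [Field F] [Fintype F] {q : ℕ} (hF : Fintype.card F = q ^ 2)

/-- piece O6a (uses B2 of U2, O1b, O1c) -/
theorem aElO_val {n m : ℕ} (fr : FrameO hF n m) (ε : F) (hε : ε ^ q = -ε) (a : ↥(hermSub hF m)) :
    (((aElO hF fr ε a : ↥(Cfsg.SU n F q)) : Matrix.SpecialLinearGroup (Fin n) F) :
      Matrix (Fin n) (Fin n) F) = aMatO hF fr ε a.1 :=
  Cfsg.Agent.Helper16.U3.h16_aElO_val hF fr ε hε a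

/-- piece O6h (uses O6a, O6c, U3) -/
theorem uEl_mul_aElO {n m : ℕ} (fr : FrameO hF n m) (c₀ ε : F) (hc₀ : c₀ + c₀ ^ q = -1)
    (hε : ε ^ q = -ε) (y : Fin m → F) (a : ↥(hermSub hF m)) :
    (uEl hF fr c₀ y * aElO hF fr ε a : ↥(Cfsg.SU n F q)) =
      aElO hF fr ε a * uEl hF fr c₀ y := by
  apply Cfsg.Agent.Helper46.U2.h46_SU_ext
  rw [Cfsg.Agent.Helper46.U2.h46_SU_mul_val, Cfsg.Agent.Helper46.U2.h46_SU_mul_val,
    uEl_val hF fr c₀ hc₀ y, aElO_val hF fr ε hε a,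
    Cfsg.Agent.Helper9.U3.uMat_mul_aMatO hF fr c₀ ε y a.1]

/-- piece O6i (uses O6a, O6c, U4) -/
theorem uEl_mul_uEl {n m : ℕ} (fr : FrameO hF n m) (c₀ ε : F) (hc₀ : c₀ + c₀ ^ q = -1)
    (hε : ε ^ q = -ε) (hε0 : ε ≠ 0) (y y' : Fin m → F) :
    (uEl hF fr c₀ y * uEl hF fr c₀ y' : ↥(Cfsg.SU n F q)) =
      aElO hF fr ε (kH hF ε hε y y') * (uEl hF fr c₀ y' * uEl hF fr c₀ y) := by
  apply Cfsg.Agent.Helper46.U2.h46_SU_ext
  rw [Cfsg.Agent.Helper46.U2.h46_SU_mul_val, Cfsg.Agent.Helper46.U2.h46_SU_mul_val,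
    Cfsg.Agent.Helper46.U2.h46_SU_mul_val,
    uEl_val hF fr c₀ hc₀ y, uEl_val hF fr c₀ hc₀ y', aElO_val hF fr ε hε (kH hF ε hε y y'),
    Cfsg.Agent.Helper9.U3.uMat_mul_uMat hF fr c₀ ε hε hε0 y y']

end GRP

end Cfsg.Agent.Helper10.U3
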