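import Mathlib
import Cfsg.Agent.Lib.Helper98.UT0

/-!
# UT server (helper98, S2283): piece (C4) `exists_conj`, hypothesis-explicit core

`g = x⁻(a',b') * diag(μ, λ⁻¹, -(1+λ)) * x(a2,β2)` with `μ = -λ/(1+λ)`, `δ = λ(λ+2)β`, `a2 = -θδ/ā`,
`β2 = -θ̄ a2 ā2` conjugates `x(a,β)` to `z t x(a,β)`; (C1), (C2), (C3) and the conclusion of (R1) are hypotheses.
-/

set_option autoImplicit false
set_option quotPrecheck false
set_option linter.unusedSectionVars false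
set_option linter.unusedVariables false

namespace Cfsg.Agent.Helper10.UT

open Matrix Cfsg Cfsg.Agent.Helper13 Cfsg.Agent.Helper87.PsuA Cfsg.Agent.Helper87.PsuB0
  Cfsg.Agent.Helper98.UT

variable {F : Type*} [Field F] [Fintype F] {q : ℕ}

local notation "G" => ↥(Cfsg.SU 3 F q)
local notation "H" => Cfsg.hermForm 3 F q

variable (hF : Fintype.card F = q ^ 2) {b : Fin 3 → Fin 3 → F}

/-- the parameter algebra of (C4) in terms of the ring homomorphism `φ = frobQ` -/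
theorem h10_c4_algebra (φ : F →+* F) (hφφ : ∀ x, φ (φ x) = x) {lam a β θ : F}
    (hl0 : lam ≠ 0) (hlq : φ lam = lam⁻¹) (hlp1 : lam + 1 ≠ 0) (h2l1 : 2 * lam + 1 ≠ 0)
    (hβq : φ β * (2 * lam + 1) = -(lam ^ 3 * (lam + 2)) * β) (ha0 : a ≠ 0)
    (hab : β + φ β + a * φ a = 0) (hth : θ + φ θ = 1) :
    -- D constraints
    (-lam / (1 + lam)) * φ (-(1 + lam)) = 1 ∧ lam⁻¹ * φ lam⁻¹ = 1 ∧
    (-lam / (1 + lam)) * lam⁻¹ * (-(1 + lam)) = 1 ∧
    -- X validity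
    (-(φ θ) * ((-(θ * (lam * (lam + 2) * β)) / φ a) * φ (-(θ * (lam * (lam + 2) * β)) / φ a))) +
      φ (-(φ θ) * ((-(θ * (lam * (lam + 2) * β)) / φ a) * φ (-(θ * (lam * (lam + 2) * β)) / φ a))) +
      (-(θ * (lam * (lam + 2) * β)) / φ a) * φ (-(θ * (lam * (lam + 2) * β)) / φ a) = 0 ∧
    -- the new β after (C1)
    β + a * φ (-(θ * (lam * (lam + 2) * β)) / φ a) - (-(θ * (lam * (lam + 2) * β)) / φ a) * φ a =
      (1 + lam) ^ 2 * β ∧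
    -- its validity
    (1 + lam) ^ 2 * β + φ ((1 + lam) ^ 2 * β) + a * φ a = 0 ∧
    -- the parameters after (C2)
    (-lam / (1 + lam)) * φ lam⁻¹ * a = -(lam ^ 2 * a) / (1 + lam) ∧
    (-lam / (1 + lam)) * φ (-lam / (1 + lam)) * ((1 + lam) ^ 2 * β) = lam * β := by
  have hφa0 : φ a ≠ 0 := by
    intro h
    apply ha0
    have := hφφ a
    rw [h, map_zero] at this
    exact this.symm
  have h1l : 1 + lam ≠ 0 := by rwa [add_comm]
  have hφβ : φ β = -(lam ^ 3 * (lam + 2)) * β / (2 * lam + 1) := by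
    rw [eq_div_iff h2l1, hβq]
  have hφθ : φ θ = 1 - θ := by rw [← hth]; ring
  set δ := lam * (lam + 2) * β with hδ
  have h3 : lam⁻¹ + 2 = (2 * lam + 1) / lam := by
    field_simp
    ring
  have hφδ : φ δ = -δ := by
    have h2 : φ 2 = 2 := map_ofNat φ 2
    rw [hδ, map_mul, map_mul, map_add, hlq, hφβ, h2, h3]
    obtain ⟨k, hk⟩ : ∃ k, k = 2 * lam + 1 := ⟨_, rfl⟩
    rw [← hk] at h2l1 ⊢
    field_simp
  have hinv1 : 1 + lam⁻¹ = (lam + 1) / lam := by field_simp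
  refine ⟨?_, ?_, ?_, ?_, ?_, ?_, ?_, ?_⟩
  · rw [map_neg, map_add, map_one, hlq]
    field_simp
    ring
  · rw [map_inv₀, hlq, inv_inv, inv_mul_cancel₀ hl0]
  · field_simp
  · rw [map_mul, map_neg, hφφ, map_mul, hφφ]
    set a2 := -(θ * δ) / φ a
    have : -(φ θ) * (a2 * φ a2) + -θ * (φ a2 * a2) + a2 * φ a2 = (1 - θ - φ θ) * (a2 * φ a2) := by ring
    rw [this, hφθ]
    ring
  · rw [map_div₀, map_neg, map_mul, hφφ, hφδ, hφθ]
    field_simp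
    ring
  · have hbd : (1 + lam) ^ 2 * β = β + δ := by
      rw [hδ]
      ring
    rw [hbd, map_add, hφδ]
    linear_combination hab
  · rw [map_inv₀, hlq, inv_inv]
    field_simp
  · rw [map_div₀, map_neg, map_add, map_one, hlq]
    field_simp
    ring

/-- (C4) core: `exists_conj` from (C1), (C2), (C3) and the conclusion of (R1) -/
theorem h10_exists_conj_core {lam c a β θ : F} (hR : Rel q lam c a β θ)
    (hC1 : ∀ (a β a2 β2 : F), β + β ^ q + a * a ^ q = 0 → β2 + β2 ^ q + a2 * a2 ^ q = 0 →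
      yEl hF b a2 β2 * yEl hF b a β * (yEl hF b a2 β2)⁻¹ =
        yEl hF b a (β + a * a2 ^ q - a2 * a ^ q))
    (hC2 : ∀ (d0 d1 d2 a β : F), d0 * d2 ^ q = 1 → d1 * d1 ^ q = 1 → d0 * d1 * d2 = 1 →
      β + β ^ q + a * a ^ q = 0 →
      dEl hF b d0 d1 d2 * yEl hF b a β * (dEl hF b d0 d1 d2)⁻¹ =
        yEl hF b (d0 * d1 ^ q * a) (d0 * d0 ^ q * β))
    (hC3 : lEl hF b (-(a * (2 * lam + 1)) / ((lam + 1) * β)) (c / (1 - lam)) *
        yEl hF b (-(lam ^ 2 * a) / (1 + lam)) (lam * β) *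
        (lEl hF b (-(a * (2 * lam + 1)) / ((lam + 1) * β)) (c / (1 - lam)))⁻¹ =
      dEl hF b lam (lam⁻¹ ^ 2) lam * lEl hF b 0 c * yEl hF b a β)
    (hR1 : lam ≠ 0 ∧ lam ^ q = lam⁻¹ ∧ lam - 1 ≠ 0 ∧ lam + 1 ≠ 0 ∧ 2 * lam + 1 ≠ 0 ∧ lam + 2 ≠ 0 ∧
      β ≠ 0 ∧ β ^ q * (2 * lam + 1) = -(lam ^ 3 * (lam + 2)) * β ∧
      a * a ^ q * (2 * lam + 1) = -(β * (1 - lam) * (1 + lam) ^ 3) ∧ a ≠ 0) :
    ∃ g : G, g * yEl hF b a β * g⁻¹ =
      dEl hF b lam (lam⁻¹ ^ 2) lam * lEl hF b 0 c * yEl hF b a β := by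
  obtain ⟨hl0, hlq, -, hlp1, h2l1, -, -, hβq, -, ha0⟩ := hR1
  have hlq' : frobQ hF lam = lam⁻¹ := hlq
  have hβq' : frobQ hF β * (2 * lam + 1) = -(lam ^ 3 * (lam + 2)) * β := hβq
  have hab' : β + frobQ hF β + a * frobQ hF a = 0 := hR.ab
  have hth' : θ + frobQ hF θ = 1 := hR.th
  have key := h10_c4_algebra (frobQ hF) (frobQ_frobQ hF) hl0 hlq' hlp1 h2l1 hβq' ha0 hab' hth'
  simp only [frobQ_apply] at key
  obtain ⟨k1, k2, k3, k4, k5, k6, k7, k8⟩ := key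
  have e1 := hC1 a β (-(θ * (lam * (lam + 2) * β)) / a ^ q)
    (-(θ ^ q) * ((-(θ * (lam * (lam + 2) * β)) / a ^ q) *
      (-(θ * (lam * (lam + 2) * β)) / a ^ q) ^ q)) hR.ab k4
  rw [k5] at e1
  have e2 := hC2 (-lam / (1 + lam)) lam⁻¹ (-(1 + lam)) a ((1 + lam) ^ 2 * β) k1 k2 k3 k6
  rw [k7, k8] at e2
  refine ⟨lEl hF b (-(a * (2 * lam + 1)) / ((lam + 1) * β)) (c / (1 - lam)) *
    dEl hF b (-lam / (1 + lam)) lam⁻¹ (-(1 + lam)) *
    yEl hF b (-(θ * (lam * (lam + 2) * β)) / a ^ q)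
      (-(θ ^ q) * ((-(θ * (lam * (lam + 2) * β)) / a ^ q) *
        (-(θ * (lam * (lam + 2) * β)) / a ^ q) ^ q)), ?_⟩
  rw [← hC3, ← e2, ← e1]
  group

end Cfsg.Agent.Helper10.UT
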