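import Mathlib
import Cfsg.Agent.Lib.Helper10.TraceFactor

/-!
# Weakly closed elements form a direct factor of `Z(S)`

If `S ≤ N`, `Y` is an abelian subgroup of `S` normalized by `N` and containing `Z(S)`, and the
elements of `S` centralizing `N` are weakly closed in `S` with respect to `G`, then the weakly closed
elements form a subgroup which is a direct factor of `Z(S)`.
-/

namespace Cfsg.Agent.Helper10.WeakClosedFactor

open Subgroup
open scoped IsMulCommutative

variable {G : Type*} [Group G]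

theorem direct_factor_of_control [Finite G] {p : ℕ} [Fact p.Prime] (S : Sylow p G) (N Y : Subgroup G)
    (hSN : (S : Subgroup G) ≤ N) (hYS : Y ≤ S) (hYab : ∀ a ∈ Y, ∀ b ∈ Y, a * b = b * a)
    (hYN : N ≤ normalizer (Y : Set G))
    (hZY : (S : Subgroup G) ⊓ centralizer ((S : Subgroup G) : Set G) ≤ Y)
    (hiso : ∀ x ∈ (S : Subgroup G) ⊓ centralizer (N : Set G), ∀ g : G,
      g * x * g⁻¹ ∈ (S : Subgroup G) → g * x * g⁻¹ = x) :
    ∃ W K : Subgroup G,
      (∀ x : G, x ∈ W ↔ (x ∈ (S : Subgroup G) ∧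
        ∀ g : G, g * x * g⁻¹ ∈ (S : Subgroup G) → g * x * g⁻¹ = x)) ∧
      K ≤ ((S : Subgroup G) ⊓ centralizer ((S : Subgroup G) : Set G)) ∧ W ⊓ K = ⊥ ∧
      W ⊔ K = ((S : Subgroup G) ⊓ centralizer ((S : Subgroup G) : Set G)) := by
  classical
  haveI : IsMulCommutative ↥Y := ⟨⟨fun a b => Subtype.ext (hYab a a.2 b b.2)⟩⟩
  have hA : IsPGroup p ↥Y := S.2.to_le hYS
  let φ : ↥N →* MulAut ↥Y := (Y.normalizerMonoidHom).comp (Subgroup.inclusion hYN)
  have hφ : ∀ (n : ↥N) (y : ↥Y), ((φ n y : ↥Y) : G) = n * y * (n : G)⁻¹ := fun n y => rfl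
  have hS' : ¬ p ∣ ((S : Subgroup G).subgroupOf N).index := fun hd =>
    S.not_dvd_index (hd.trans (relIndex_dvd_index_of_le hSN))
  obtain ⟨K, hK1, hK2, hK3⟩ :=
    Cfsg.Agent.Helper10.TraceFactor.exists_compl_fixed hA φ ((S : Subgroup G).subgroupOf N) hS'
  -- weakly closed elements are exactly `S ∩ C(N)`
  have hWiff : ∀ x : G, x ∈ (S : Subgroup G) ⊓ centralizer (N : Set G) ↔
      (x ∈ (S : Subgroup G) ∧ ∀ g : G, g * x * g⁻¹ ∈ (S : Subgroup G) → g * x * g⁻¹ = x) := by
    intro x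
    refine ⟨fun hx => ⟨hx.1, hiso x hx⟩, fun hx => ⟨hx.1, ?_⟩⟩
    have hxZ : x ∈ (S : Subgroup G) ⊓ centralizer ((S : Subgroup G) : Set G) := by
      refine ⟨hx.1, mem_centralizer_iff.mpr fun s hs => ?_⟩
      have := hx.2 s ((S : Subgroup G).mul_mem ((S : Subgroup G).mul_mem hs hx.1)
        ((S : Subgroup G).inv_mem hs))
      rw [mul_inv_eq_iff_eq_mul] at this
      exact this
    have hxY : x ∈ Y := hZY hxZ
    refine mem_centralizer_iff.mpr fun n hn => ?_
    have h1 : n * x * n⁻¹ ∈ Y := (mem_normalizer_iff.mp (hYN hn) x).mp hxY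
    have := hx.2 n (hYS h1)
    rw [mul_inv_eq_iff_eq_mul] at this
    exact this
  have hWZ : (S : Subgroup G) ⊓ centralizer (N : Set G) ≤
      (S : Subgroup G) ⊓ centralizer ((S : Subgroup G) : Set G) :=
    inf_le_inf_left _ (centralizer_le hSN)
  -- S-fixed points of Y
  have hfixS : ∀ y : ↥Y, (∀ s ∈ (S : Subgroup G).subgroupOf N, φ s y = y) ↔
      (y : G) ∈ centralizer ((S : Subgroup G) : Set G) := by
    intro y
    constructor
    · intro h
      refine mem_centralizer_iff.mpr fun s hs => ?_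
      have := congrArg (Subtype.val) (h ⟨s, hSN hs⟩ (mem_subgroupOf.mpr hs))
      rw [hφ] at this
      simp only at this
      rw [mul_inv_eq_iff_eq_mul] at this
      exact this
    · intro h s hs
      apply Subtype.ext
      rw [hφ, mul_inv_eq_iff_eq_mul]
      exact mem_centralizer_iff.mp h s (mem_subgroupOf.mp hs)
  have hfixN : ∀ y : ↥Y, (∀ n : ↥N, φ n y = y) ↔ (y : G) ∈ centralizer (N : Set G) := by
    intro y
    constructor
    · intro h
      refine mem_centralizer_iff.mpr fun n hn => ?_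
      have := congrArg (Subtype.val) (h ⟨n, hn⟩)
      rw [hφ] at this
      simp only at this
      rw [mul_inv_eq_iff_eq_mul] at this
      exact this
    · intro h n
      apply Subtype.ext
      rw [hφ, mul_inv_eq_iff_eq_mul]
      exact mem_centralizer_iff.mp h n n.2
  refine ⟨(S : Subgroup G) ⊓ centralizer (N : Set G), K.map Y.subtype, hWiff, ?_, ?_, ?_⟩
  · rintro _ ⟨k, hk, rfl⟩
    exact ⟨hYS k.2, (hfixS k).mp (hK1 k hk)⟩
  · rw [eq_bot_iff]
    rintro x ⟨hxW, ⟨k, hk, rfl⟩⟩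
    have := hK2 k hk ((hfixN k).mpr hxW.2)
    rw [this]
    exact (⊥ : Subgroup G).one_mem
  · apply le_antisymm
    · refine sup_le hWZ ?_
      rintro _ ⟨k, hk, rfl⟩
      exact ⟨hYS k.2, (hfixS k).mp (hK1 k hk)⟩
    · intro y hy
      have hyY : y ∈ Y := hZY hy
      obtain ⟨w, k, hw, hk, hyk⟩ := hK3 ⟨y, hyY⟩ ((hfixS ⟨y, hyY⟩).mpr hy.2)
      have : y = (w : G) * (k : G) := by
        have := congrArg Subtype.val hyk
        simpa using this
      rw [this]
      exact mul_mem_sup ⟨hYS w.2, (hfixN w).mp hw⟩ ⟨k, hk, rfl⟩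

end Cfsg.Agent.Helper10.WeakClosedFactor
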