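import Mathlib
import Cfsg.Agent.S1985
import Cfsg.Agent.Lib.Helper10.WeakClosedFactor
import Cfsg.Agent.Lib.Helper64.Basic
import Cfsg.Agent.Lib.Helper54.PSolv
import Cfsg.Agent.Lib.Helper54.Solv
import Cfsg.Agent.Lib.Helper54.PxQ
import Cfsg.Agent.Lib.Helper76.SolvPSolv
import Cfsg.Agent.Lib.Helper22.Radical

/-!
# The weakly closed elements of a Sylow subgroup form a direct factor of its centre

Two cases: `p` odd (through the lower K-infinity subgroup, which controls weak closure of elements)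
and `G` `p`-solvable (through `O_{p',p}(G)`).
-/

namespace Cfsg.Agent.Helper10.WCCases

open Subgroup Cfsg

universe u

variable {G : Type u} [Group G]

/-- The normalizer of `H` normalizes the centre of `H`. -/
theorem normalizer_le_normalizer_zc [Finite G] (H : Subgroup G) :
    normalizer (H : Set G) ≤ normalizer ((H ⊓ centralizer (H : Set G) : Subgroup G) : Set G) := by
  intro n hn
  apply mem_normalizer_fintype
  intro x hx
  have hx' : x ∈ H ⊓ centralizer (H : Set G) := hx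
  show n * x * n⁻¹ ∈ H ⊓ centralizer (H : Set G)
  refine ⟨(mem_normalizer_iff.mp hn x).mp hx'.1, mem_centralizer_iff.mpr fun h hh => ?_⟩
  have hn' : n⁻¹ ∈ normalizer (H : Set G) := (normalizer (H : Set G)).inv_mem hn
  have h1 : n⁻¹ * h * n⁻¹⁻¹ ∈ H := (mem_normalizer_iff.mp hn' h).mp hh
  have h2 := mem_centralizer_iff.mp hx'.2 _ h1
  calc h * (n * x * n⁻¹) = n * ((n⁻¹ * h * n⁻¹⁻¹) * x) * n⁻¹ := by group
    _ = n * (x * (n⁻¹ * h * n⁻¹⁻¹)) * n⁻¹ := by rw [h2]
    _ = n * x * n⁻¹ * h := by group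

/-- The conclusion of the theorem. -/
def Concl {p : ℕ} (S : Sylow p G) : Prop :=
  ∃ W K : Subgroup G,
    (∀ x : G, x ∈ W ↔ (x ∈ (S : Subgroup G) ∧
      ∀ g : G, g * x * g⁻¹ ∈ (S : Subgroup G) → g * x * g⁻¹ = x)) ∧
    K ≤ ((S : Subgroup G) ⊓ centralizer ((S : Subgroup G) : Set G)) ∧ W ⊓ K = ⊥ ∧
    W ⊔ K = ((S : Subgroup G) ⊓ centralizer ((S : Subgroup G) : Set G))

theorem case_odd [Finite G] {p : ℕ} [Fact p.Prime] (hp : p ≠ 2) (S : Sylow p G) : Concl S := by
  classical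
  obtain ⟨hWZ, T, -, hT, hidx, hT'⟩ := Cfsg.Agent.S1985.result (G := G) (p := p) hp
  have hW : Cfsg.IsConjugacyFunctor p (Cfsg.inducedFunctor (G := G) Cfsg.kInfLower) :=
    Cfsg.Agent.Helper33.isConjugacyFunctor_indF (p := p)
      Cfsg.Agent.Helper33.isCharPFunctor_kInfLower G
  set W := Cfsg.inducedFunctor (G := G) Cfsg.kInfLower with hWdef
  rw [relIndex_top_right] at hidx
  obtain ⟨g, hg⟩ := MulAction.exists_smul_eq G (hT.toSylow hidx) S
  have hST : (S : Subgroup G) = T.map (MulAut.conj g).toMonoidHom := by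
    rw [← hg]; rfl
  have hWS : W (S : Subgroup G) = (W T).map (MulAut.conj g).toMonoidHom := by
    rw [hST]; exact (hW T hT).2.2 g
  have hSp : IsPGroup p (S : Subgroup G) := S.2
  have hWle : W (S : Subgroup G) ≤ S := (hW _ hSp).1
  -- `S` normalizes `W S`
  have hSN : (S : Subgroup G) ≤ normalizer ((W (S : Subgroup G) : Subgroup G) : Set G) := by
    intro s hs
    rw [mem_normalizer_iff_map_conj_eq]
    have h1 := (hW _ hSp).2.2 s
    have h2 : (S : Subgroup G).map (MulAut.conj s).toMonoidHom = S :=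
      mem_normalizer_iff_map_conj_eq.mp (le_normalizer hs)
    rw [h2] at h1
    exact h1.symm
  refine Cfsg.Agent.Helper10.WeakClosedFactor.direct_factor_of_control S
    (normalizer ((W (S : Subgroup G) : Subgroup G) : Set G))
    (W (S : Subgroup G) ⊓ centralizer ((W (S : Subgroup G) : Subgroup G) : Set G))
    hSN (inf_le_left.trans hWle) ?_ (normalizer_le_normalizer_zc _) ?_ ?_
  · intro a ha b hb
    exact mem_centralizer_iff.mp hb.2 a ha.1
  · intro z hz
    exact ⟨hWZ _ hSp hz, centralizer_le hWle hz.2⟩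
  · -- transport of the control of weak closure from `T` to `S`
    intro x hx h hh
    obtain ⟨t, htT, htx⟩ : ∃ t ∈ T, g * t * g⁻¹ = x := by
      have := hx.1
      rw [hST] at this
      obtain ⟨t, ht, rfl⟩ := this
      exact ⟨t, ht, rfl⟩
    have htc : t ∈ centralizer ((⊤ ⊓ normalizer ((W T : Subgroup G) : Set G) : Subgroup G) : Set G) := by
      refine mem_centralizer_iff.mpr fun n hn => ?_
      have hn' : n ∈ normalizer ((W T : Subgroup G) : Set G) := hn.2
      have h1 : g * n * g⁻¹ ∈ normalizer ((W (S : Subgroup G) : Subgroup G) : Set G) := by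
        rw [hWS, ← map_equiv_normalizer_eq (W T) (MulAut.conj g)]
        exact ⟨n, hn', rfl⟩
      have h2 := mem_centralizer_iff.mp hx.2 _ h1
      rw [← htx] at h2
      have h3 : g * (n * t) * g⁻¹ = g * (t * n) * g⁻¹ := by
        calc g * (n * t) * g⁻¹ = g * n * g⁻¹ * (g * t * g⁻¹) := by group
          _ = g * t * g⁻¹ * (g * n * g⁻¹) := h2
          _ = g * (t * n) * g⁻¹ := by group
      exact mul_left_cancel (mul_right_cancel h3)
    have hh' : (g⁻¹ * h * g) * t * (g⁻¹ * h * g)⁻¹ ∈ T := by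
      rw [hST] at hh
      obtain ⟨t', ht', ht'x⟩ := hh
      have : (g⁻¹ * h * g) * t * (g⁻¹ * h * g)⁻¹ = t' := by
        have e : (MulAut.conj g).toMonoidHom t' = g * t' * g⁻¹ := rfl
        rw [e, ← htx] at ht'x
        calc (g⁻¹ * h * g) * t * (g⁻¹ * h * g)⁻¹ = g⁻¹ * (h * (g * t * g⁻¹) * h⁻¹) * g := by group
          _ = g⁻¹ * (g * t' * g⁻¹) * g := by rw [ht'x]
          _ = t' := by group
      rw [this]; exact ht'
    have h4 := hT' t ⟨htT, htc⟩ (g⁻¹ * h * g) (mem_top _) hh'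
    rw [← htx]
    calc h * (g * t * g⁻¹) * h⁻¹ = g * ((g⁻¹ * h * g) * t * (g⁻¹ * h * g)⁻¹) * g⁻¹ := by group
      _ = g * t * g⁻¹ := by rw [h4]

theorem case_psolv [Finite G] {p : ℕ} [Fact p.Prime] (hG : IsPSolvable p G) (S : Sylow p G) :
    Concl S := by
  classical
  set L := pPrimeCore p G with hL
  have hπ : Function.Surjective (QuotientGroup.mk' L) := QuotientGroup.mk'_surjective L
  have hHH : centralizer (pCore p (G ⧸ L) : Set (G ⧸ L)) ≤ pCore p (G ⧸ L) :=
    Cfsg.Agent.Helper54.centralizer_pCore_le_of_isPSolvable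
      (Cfsg.Agent.Helper54.IsPSolvable.quotient hG L)
      (Cfsg.Agent.Helper54.pPrimeCore_quotient_eq_bot p)
  have hQb : pCore p (G ⧸ L) ≤ (S : Subgroup G).map (QuotientGroup.mk' L) := by
    have := Cfsg.Agent.Helper54.pCore_le_sylow (S.mapSurjective hπ)
    rwa [Sylow.coe_mapSurjective] at this
  set M := (pCore p (G ⧸ L)).comap (QuotientGroup.mk' L) with hM
  haveI : M.Normal := Subgroup.normal_comap _
  have hLM : L ≤ M := by
    intro l hl
    rw [hM, mem_comap]
    have : (QuotientGroup.mk' L) l = 1 := (QuotientGroup.eq_one_iff l).mpr hl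
    rw [this]; exact one_mem _
  -- `S ∩ L = 1`
  have hSL : (S : Subgroup G) ⊓ L = ⊥ := by
    apply disjoint_iff.mp
    apply disjoint_of_coprime_natCard
    obtain ⟨n, hn⟩ := IsPGroup.iff_card.mp S.2
    rw [hn]
    exact Nat.Coprime.pow_left _ (Cfsg.Agent.Helper22.card_pPrimeCore_coprime p).symm
  set Q := (S : Subgroup G) ⊓ M with hQ
  refine Cfsg.Agent.Helper10.WeakClosedFactor.direct_factor_of_control S
    (normalizer (Q : Set G)) (Q ⊓ centralizer (Q : Set G))
    (Cfsg.Agent.Helper64.le_normalizer_inf_normal (S : Subgroup G) M)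
    (inf_le_left.trans inf_le_left) ?_ (normalizer_le_normalizer_zc _) ?_ ?_
  · intro a ha b hb
    exact mem_centralizer_iff.mp hb.2 a ha.1
  · intro z hz
    have hzM : z ∈ M := by
      rw [hM, mem_comap]
      apply hHH
      refine mem_centralizer_iff.mpr fun c hc => ?_
      obtain ⟨s, hs, rfl⟩ := hQb hc
      rw [← map_mul, ← map_mul, mem_centralizer_iff.mp hz.2 s hs]
    exact ⟨⟨hz.1, hzM⟩, centralizer_le (inf_le_left : Q ≤ S) hz.2⟩
  · intro x hx g hg
    have hfr := Cfsg.Agent.Helper64.normalizer_inf_sup_eq_top S M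
    have hgtop : g ∈ normalizer (((S : Subgroup G) ⊓ M : Subgroup G) : Set G) ⊔ M := by
      rw [hfr]; exact mem_top g
    obtain ⟨n, hn, m, hm, rfl⟩ := mem_sup_of_normal_right.mp hgtop
    obtain ⟨s, hs, hsm⟩ := hQb (show (QuotientGroup.mk' L) m ∈ pCore p (G ⧸ L) from hm)
    have hl : s⁻¹ * m ∈ L := by
      have := QuotientGroup.eq.mp hsm
      exact this
    have hsM : s ∈ M := by
      have : s = m * (s⁻¹ * m)⁻¹ := by group
      rw [this]
      exact M.mul_mem hm (M.inv_mem (hLM hl))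
    have hsQ : s ∈ Q := ⟨hs, hsM⟩
    have hn' : n * s ∈ normalizer (Q : Set G) :=
      (normalizer (Q : Set G)).mul_mem hn (le_normalizer hsQ)
    have hcomm : n * s * x = x * (n * s) := mem_centralizer_iff.mp hx.2 _ hn'
    set l := s⁻¹ * m with hldef
    have hnm : n * m = n * s * l := by rw [hldef]; group
    -- `c = x⁻¹ l x l⁻¹ ∈ L`
    have hc : (n * s) * (x⁻¹ * l * x * l⁻¹) * (n * s)⁻¹ ∈ L := by
      haveI : L.Normal := inferInstance
      apply ‹L.Normal›.conj_mem
      have h1 : x⁻¹ * l * x⁻¹⁻¹ ∈ L := ‹L.Normal›.conj_mem l hl x⁻¹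
      rw [inv_inv] at h1
      exact L.mul_mem h1 (L.inv_mem hl)
    have heq : n * m * x * (n * m)⁻¹ = x * ((n * s) * (x⁻¹ * l * x * l⁻¹) * (n * s)⁻¹) := by
      rw [hnm]
      calc n * s * l * x * (n * s * l)⁻¹
          = (n * s * x) * (x⁻¹ * l * x * l⁻¹) * (n * s)⁻¹ := by group
        _ = x * (n * s) * (x⁻¹ * l * x * l⁻¹) * (n * s)⁻¹ := by rw [hcomm]
        _ = x * ((n * s) * (x⁻¹ * l * x * l⁻¹) * (n * s)⁻¹) := by group
    have hcS : (n * s) * (x⁻¹ * l * x * l⁻¹) * (n * s)⁻¹ ∈ (S : Subgroup G) := by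
      have : (n * s) * (x⁻¹ * l * x * l⁻¹) * (n * s)⁻¹ = x⁻¹ * (n * m * x * (n * m)⁻¹) := by
        rw [heq]; group
      rw [this]
      exact (S : Subgroup G).mul_mem ((S : Subgroup G).inv_mem hx.1) hg
    have hc1 : (n * s) * (x⁻¹ * l * x * l⁻¹) * (n * s)⁻¹ = 1 := by
      have : (n * s) * (x⁻¹ * l * x * l⁻¹) * (n * s)⁻¹ ∈ (S : Subgroup G) ⊓ L := ⟨hcS, hc⟩
      rw [hSL] at this
      exact mem_bot.mp this
    rw [heq, hc1, mul_one]

end Cfsg.Agent.Helper10.WCCases
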